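import Groth.Agent.S0052
import Groth.Agent.S0054
import Groth.Agent.CohqB.AmpCocycle
import Groth.Agent.CohqB.AmpGeneric
import Groth.Agent.Fdesc.LocGenPullback

/-!
# Ampleness near a fibre from ampleness on its reduction (helper373)
-/

set_option autoImplicit false
set_option backward.isDefEq.respectTransparency false
universe u

open CategoryTheory CategoryTheory.Limits AlgebraicGeometry

namespace K373.FibAmple

/-- An invertible module, ample on a reduced closed subscheme with the same points as the fibre over a closed point,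
is ample over a neighbourhood of that point. -/
theorem exists_isAmple_near {E X Y : Scheme.{u}} [IsReduced E] (ι : E ⟶ X) [IsClosedImmersion ι] (f : X ⟶ Y)
    [IsProper f] [IsNoetherian Y] (L : X.Modules) (hL : PicF.IsInvertible L) (y : Y)
    (hy : IsClosed ({y} : Set Y)) (hE : ∀ w, f w = y ↔ w ∈ Set.range ι)
    (hA : CohB1.IsAmple ((Scheme.Modules.pullback ι).obj L)) :
    ∃ V : Y.Opens, y ∈ V ∧ ∀ W : Y.Opens, W ≤ V → IsAffineOpen W → CohB1.IsAmple (L.restrict (f ⁻¹ᵁ W).ι) := by
  refine Groth.Agent.S0054.result f L hL y ?_
  have h0 : IsClosedImmersion (Y.fromSpecResidueField y) := isClosed_singleton_iff_isClosedImmersion.1 hy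
  have h1 : IsClosedImmersion (f.fiberι y) := MorphismProperty.pullback_fst _ _ h0
  let p : pullback ι (f.fiberι y) ⟶ E := pullback.fst ι (f.fiberι y)
  let q : pullback ι (f.fiberι y) ⟶ f.fiber y := pullback.snd ι (f.fiberι y)
  have hpq : p ≫ ι = q ≫ f.fiberι y := pullback.condition
  have hp : IsClosedImmersion p := MorphismProperty.pullback_fst _ _ h1
  have hq : IsClosedImmersion q := MorphismProperty.pullback_snd _ _ ‹IsClosedImmersion ι›
  have hps : Surjective p := by
    refine ⟨fun e => ?_⟩
    have : e ∈ Set.range (pullback.fst ι (f.fiberι y)) := by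
      rw [Scheme.Pullback.range_fst, f.range_fiberι]
      exact (hE _).2 ⟨e, rfl⟩
    exact this
  have hqs : Surjective q := by
    refine ⟨fun w => ?_⟩
    have : w ∈ Set.range (pullback.snd ι (f.fiberι y)) := by
      rw [Scheme.Pullback.range_snd]
      refine (hE _).1 ?_
      have : f.fiberι y w ∈ Set.range (f.fiberι y) := ⟨w, rfl⟩
      rw [f.range_fiberι] at this
      exact this
    exact this
  have hpi : IsIso p := isIso_of_isClosedImmersion_of_surjective p
  have hprop : IsProper (f.fiberToSpecResidueField y) := MorphismProperty.pullback_snd _ _ inferInstance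
  have hL' : PicF.IsInvertible ((Scheme.Modules.pullback (f.fiberι y)).obj L) :=
    Groth.Agent.Fdesc.LocGen.isInvertible_pullback _ hL
  rw [Groth.Agent.S0052.result (Y.residueField y) (f.fiberToSpecResidueField y)
    (q ≫ f.fiberToSpecResidueField y) q rfl _ hL']
  have e1 : (Scheme.Modules.pullback p).obj ((Scheme.Modules.pullback ι).obj L) ≅
      (Scheme.Modules.pullback q).obj ((Scheme.Modules.pullback (f.fiberι y)).obj L) :=
    (Scheme.Modules.pullbackComp p ι).app L ≪≫ (Scheme.Modules.pullbackCongr hpq).app L ≪≫
      ((Scheme.Modules.pullbackComp q (f.fiberι y)).app L).symm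
  refine Groth.Agent.CohqB.AmpCocycle.isAmple_of_iso e1 ?_
  exact Groth.Agent.CohqB.AmpCocycle.isAmple_pullback p hA

end K373.FibAmple
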