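import Groth.Agent.Dix.ExcCurve
import Groth.Agent.Models.RMBlow
import Groth.Agent.Dix.CastPic
import Groth.Agent.Dix.Cast0
import Groth.Agent.Dix.Cast2
import Groth.Prelude.Def_CurvBase

/-!
# The ideal sheaf of the closed point of a local scheme; classes on the projective line (helper373)
-/

set_option autoImplicit false
universe u

open CategoryTheory CategoryTheory.Limits AlgebraicGeometry
open Groth.Agent.Dix.PointIdeal IsLocalRing

namespace K373.PtIdeal

theorem isClosed_closedPoint (A : Type u) [CommRing A] [IsLocalRing A] :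
    IsClosed ({closedPoint A} : Set (Spec (CommRingCat.of A))) :=
  (PrimeSpectrum.isClosed_singleton_iff_isMaximal _).mpr (inferInstanceAs (maximalIdeal A).IsMaximal)

theorem pt_eq_idealSheaf (A : Type u) [CommRing A] [IsLocalRing A]
    (hy : IsClosed ({closedPoint A} : Set (Spec (CommRingCat.of A)))) :
    pt (Y := Spec (CommRingCat.of A)) (closedPoint A) hy = Curv2.idealSheaf A (maximalIdeal A) := by
  have h1 : Curv2.idealSheaf A (maximalIdeal A) ≤ pt (Y := Spec (CommRingCat.of A)) (closedPoint A) hy := by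
    rw [← Scheme.IdealSheafData.le_support_iff_le_vanishingIdeal]
    rintro z hz
    obtain rfl : z = closedPoint A := hz
    exact (Groth.Agent.Models.RMBlow.mem_support_idealSheaf _ _).2 le_rfl
  refine (Scheme.IdealSheafData.ext_of_isAffine ?_).symm
  have h2 : (Curv2.idealSheaf A (maximalIdeal A)).ideal ⟨⊤, isAffineOpen_top _⟩ =
      (maximalIdeal A).map (Scheme.ΓSpecIso (CommRingCat.of A)).inv.hom := by
    simp [Curv2.idealSheaf]
  have h3 : ((Curv2.idealSheaf A (maximalIdeal A)).ideal ⟨⊤, isAffineOpen_top _⟩).IsMaximal := by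
    rw [h2]
    exact Ideal.map_isMaximal_of_equiv (Scheme.ΓSpecIso (CommRingCat.of A)).symm.commRingCatIsoToRingEquiv
  refine h3.eq_of_le ?_ (h1 ⟨⊤, isAffineOpen_top _⟩)
  have h4 := ideal_pt (Y := Spec (CommRingCat.of A)) (closedPoint A) hy ⊤ (isAffineOpen_top _) trivial
  intro h5
  have h6 : ((isAffineOpen_top (Spec (CommRingCat.of A))).primeIdealOf ⟨closedPoint A, trivial⟩).asIdeal ≠ ⊤ :=
    Ideal.IsPrime.ne_top inferInstance
  exact h6 (h4.symm.trans h5)

theorem isRegularLocalRing_stalk_closedPoint (A : Type u) [CommRing A] [IsRegularLocalRing A] :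
    IsRegularLocalRing ((Spec (CommRingCat.of A)).presheaf.stalk (closedPoint A)) :=
  IsRegularLocalRing.of_ringEquiv (stalkClosedPointIso (CommRingCat.of A)).symm.commRingCatIsoToRingEquiv

theorem ringKrullDim_stalk_closedPoint (A : Type u) [CommRing A] [IsLocalRing A] :
    ringKrullDim ((Spec (CommRingCat.of A)).presheaf.stalk (closedPoint A)) = ringKrullDim A :=
  ringKrullDim_eq_of_ringEquiv (stalkClosedPointIso (CommRingCat.of A)).commRingCatIsoToRingEquiv

open Groth.Agent.Grpsch.PicGrp Groth.Agent.Dix.CastPic Groth.Agent.Dix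

theorem o_injective (k : Type u) [Field k] {m n : ℤ} (h : o k m = o k n) : m = n := by
  rw [o, o, mk_eq_iff] at h
  obtain ⟨e⟩ := h
  have h1 := Cast0.curveDeg_congr k e
  rwa [Cast2.wp2_deg, Cast2.wp2_deg] at h1

end K373.PtIdeal
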