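import Groth.Agent.Resolve.K373.ContrBasic
import Groth.Agent.Dix.HasBlow

/-!
# Proper birational morphisms of regular surfaces are contraction sequences (helper373)
-/

set_option autoImplicit false
set_option linter.unusedSectionVars false
universe u

open AlgebraicGeometry CategoryTheory CategoryTheory.Limits
open Groth.Agent.Dix Groth.Agent.Dix.ExcPts Groth.Agent.Dix.PointIdeal

namespace K373.BirSeq

theorem coheight_le {X : Scheme.{u}} (hX : topologicalKrullDim X = 2) (x : X) : Order.coheight x ≤ 2 := by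
  have h1 : (Order.coheight x : WithBot ℕ∞) ≤ Order.krullDim X := Order.coheight_le_krullDim x
  rw [← Groth.Agent.CurvesB.DimPts.krullDim_eq, hX] at h1
  exact (WithBot.coe_le_coe (a := Order.coheight x) (b := 2)).mp h1

theorem isSurf {X : Scheme.{u}} [IsIntegral X] [IsNoetherian X]
    (hX : ∀ x : X, IsRegularLocalRing (X.presheaf.stalk x)) (hdX : topologicalKrullDim X = 2) : IsSurf X :=
  ⟨inferInstance, inferInstance, hX, coheight_le hdX⟩

theorem isBir_of_open {X Y : Scheme.{u}} [IsIntegral X] [IsIntegral Y] (f : X ⟶ Y) [IsProper f]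
    (hbir : ∃ V : Y.Opens, (V : Set Y).Nonempty ∧ IsIso (f ∣_ V)) : IsBir f := by
  obtain ⟨V, hV, hiso⟩ := hbir
  have hg : genericPoint Y ∈ V := by
    obtain ⟨y, hy⟩ := hV
    exact (Center.genericPoint_specializes Y y).mem_open V.2 hy
  have hgen := BirIso.map_genericPoint f V hiso hg
  exact ⟨inferInstance, hgen, BirIso.isIso_stalkMap f V hiso _ (by rw [hgen]; exact hg)⟩

/-- A proper birational morphism of regular surfaces is a contraction sequence. -/
theorem isContractionSeq_of_isBir (n : ℕ) :
    ∀ {Z X : Scheme.{u}} (q : Z ⟶ X) (_ : IsSurf Z) (_ : IsSurf X) [IsIntegral Z] [IsIntegral X], IsBir q →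
      (excPts q).ncard ≤ n → Models.IsContractionSeq q := by
  induction n with
  | zero =>
    intro Z X q hZ hX hZi hXi hq hn
    have h1 := (Set.ncard_eq_zero (excPts_finite hZ hX q hq)).mp (Nat.le_zero.mp hn)
    have h2 : IsIso q := isIso_of_excPts_eq_empty hZ hX q hq h1
    exact ContrBasic.contrSeq_of_isIso q
  | succ n ih =>
    intro Z X q hZ hX hZi hXi hq hn
    rcases isIso_or_exists_big hZ hX q hq with h2 | ⟨y, hbig⟩
    · exact ContrBasic.contrSeq_of_isIso q
    · have hXn := hX.noeth
      have hy := isClosed_of_big hX q hq y hbig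
      have hcoh := coheight_of_big hX q hq y hbig
      have hdim : ringKrullDim (X.presheaf.stalk y) = 2 := (BlowIrr.coheight_eq_two_iff y).mpr hcoh
      obtain ⟨W, π, hπ⟩ := Groth.Agent.Flat2C.BlowExist.exists_isBlowUp (pt y hy)
      obtain ⟨hWi, hW, -, -, -⟩ := HasBlow.isSurf_blowUp hX y hy hdim π hπ
      obtain ⟨h, hh, hbir, hlt⟩ := exists_factor hZ hX q hq y hy hbig hW π hπ
      have h3 := ih h hZ hW hbir (by omega)
      rw [← hh]
      refine ContrBasic.contrSeq_comp h3 ?_
      rw [← Category.comp_id π]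
      exact ContrBasic.step π y hy (hX.regular y) hdim hπ (𝟙 X) (ContrBasic.contrSeq_id X)

end K373.BirSeq
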