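import Groth.Agent.Resolve.K373.Principal
import Groth.Agent.Resolve.K373.BirSeq
import Groth.Agent.Ega4B.ElimPt

/-!
# Applications of principalization (helper373)
-/

set_option autoImplicit false
universe u

open CategoryTheory CategoryTheory.Limits AlgebraicGeometry IsLocalRing
open Groth.Agent Groth.Agent.Dix.PointIdeal Groth.Agent.Divis.CartierBasic Groth.Agent.Divis.CartierStalk
open K373.ColenAlg K373.Principal

namespace K373.PrincipalApp

theorem inv_of_notMem {X : Scheme.{u}} {I : X.IdealSheafData} {x : X} (hx : x ∉ I.support) : Inv I x :=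
  ⟨1, one_mem _, by rw [(notMem_support_iff_stalkIdeal_eq_top I x).1 hx, Ideal.span_singleton_one]⟩

theorem ok_of_support {X : Scheme.{u}} (T : Set X)
    (hT : ∀ x ∈ T, IsClosed ({x} : Set X) ∧ IsRegularLocalRing (X.presheaf.stalk x) ∧
      ringKrullDim (X.presheaf.stalk x) = 2)
    (I : X.IdealSheafData) (hI : (I.support : Set X) ⊆ T) : Ok I := by
  have hmem : ∀ x, ¬ Inv I x → x ∈ T := by
    intro x hx
    apply hI
    by_contra h
    exact hx (inv_of_notMem h)
  refine ⟨fun x hx => (hT x (hmem x hx)).1, fun x hx => (hT x (hmem x hx)).2.1, fun x hx => (hT x (hmem x hx)).2.2,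
    fun x hx => ?_⟩
  obtain ⟨hcl, hreg, hdim⟩ := hT x (hmem x hx)
  have hdom := CalgA.RegBasic.isDomain (X.presheaf.stalk x)
  refine cln_ne_top hdim.le fun h0 => ?_
  let q : PrimeSpectrum (X.presheaf.stalk x) := ⟨⊥, Ideal.isPrime_bot⟩
  have h1 : X.fromSpecStalk x q ∈ I.support := by
    rw [fromSpecStalk_mem_support_iff, h0]
  obtain ⟨hcl', -, -⟩ := hT _ (hI h1)
  have h2 : X.fromSpecStalk x q ⤳ x := by
    have h := Set.mem_range_self (f := X.fromSpecStalk x) q
    rw [Scheme.range_fromSpecStalk] at h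
    exact h
  have h3 : x = X.fromSpecStalk x q := h2.mem_closed hcl' rfl
  have h4 : X.fromSpecStalk x (closedPoint (X.presheaf.stalk x)) = X.fromSpecStalk x q := by
    rw [Scheme.fromSpecStalk_closedPoint]
    exact h3
  have h5 : closedPoint (X.presheaf.stalk x) = q := (X.fromSpecStalk x).isEmbedding.injective h4
  have h6 : maximalIdeal (X.presheaf.stalk x) = ⊥ := congrArg PrimeSpectrum.asIdeal h5
  have h7 := IsLocalRing.maximalIdeal_height_eq_ringKrullDim (R := X.presheaf.stalk x)
  rw [h6, Ideal.height_bot, hdim] at h7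
  exact absurd h7 (by decide)

theorem stalkIdeal_ne_bot {X : Scheme.{u}} [IsIntegral X] {I : X.IdealSheafData} (hI : I ≠ ⊥) (x : X) :
    stalkIdeal I x ≠ ⊥ := by
  intro h0
  apply hI
  rw [← Scheme.IdealSheafData.support_eq_top_iff]
  have h1 : genericPoint X ∈ I.support := by
    have h2 : genericPoint X ∈ Set.range (X.fromSpecStalk x) := by
      rw [Scheme.range_fromSpecStalk]
      exact Dix.Center.genericPoint_specializes X x
    obtain ⟨q, hq⟩ := h2
    rw [← hq, fromSpecStalk_mem_support_iff, h0]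
    exact bot_le
  ext z
  simp only [TopologicalSpace.Closeds.coe_top, Set.mem_univ, iff_true]
  exact (Dix.Center.genericPoint_specializes X z).mem_closed I.support.isClosed h1

theorem ok_of_regular {X : Scheme.{u}} [IsIntegral X] [IsNoetherian X] (hX : Dix.ExcPts.IsSurf X)
    (I : X.IdealSheafData) (hI : I ≠ ⊥) : Ok I := by
  have hd : ∀ x, ¬ Inv I x → Order.coheight x = 2 := by
    intro x hx
    have hreg := hX.regular x
    by_contra hcon
    have h1 : Order.coheight x ≤ 1 := by
      have h2 : Order.coheight x < 2 := lt_of_le_of_ne (hX.dim x) hcon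
      exact Order.le_of_lt_add_one h2
    apply hx
    rw [inv_iff_cln]
    exact cln_eq_zero_of_dim_le_one (Dix.BlowIrr.ringKrullDim_le_one x h1) (stalkIdeal_ne_bot hI x)
  refine ⟨fun x hx => ?_, fun x _ => hX.regular x, fun x hx => (Dix.BlowIrr.coheight_eq_two_iff x).2 (hd x hx),
    fun x hx => ?_⟩
  · exact Ega4B.ElimPt.isClosed_of_coheight hX (hd x hx)
  · have hreg := hX.regular x
    exact cln_ne_top (Dix.BlowIrr.ringKrullDim_le_two x (hX.dim x)) (stalkIdeal_ne_bot hI x)

end K373.PrincipalApp
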