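import Groth.Agent.Ega4B.ElimAlg
import Groth.Agent.Dix.RegTwoDim

/-!
# The invertibility defect of an ideal of a local ring (helper373)

* `cln I`: the least length of `A ⧸ J` over all factorizations `I = (f) * J` with `f` a nonzerodivisor.
* `cln_eq_zero_iff`: `cln I = 0` iff `I` is generated by a nonzerodivisor.
* `cln_lt`: the defect drops under a quadratic transform of a regular local ring of dimension two.
* `cln_ne_top`: over a regular local ring of dimension at most two the defect of a nonzero ideal is finite.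
* `cln_eq_zero_of_dim_one`.
-/

set_option autoImplicit false

universe u

open IsLocalRing
open Groth.Agent.Ega4B Groth.Agent.Ega4B.ElimAlg

namespace K373.ColenAlg

section Defs

variable {A : Type u} [CommRing A]

/-- The invertibility defect of an ideal. -/
noncomputable def cln (I : Ideal A) : ℕ∞ :=
  ⨅ p : {p : A × Ideal A // p.1 ∈ nonZeroDivisors A ∧ I = Ideal.span {p.1} * p.2}, Module.length A (A ⧸ p.1.2)

theorem cln_le {I J : Ideal A} {f : A} (hf : f ∈ nonZeroDivisors A) (h : I = Ideal.span {f} * J) :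
    cln I ≤ Module.length A (A ⧸ J) :=
  iInf_le (fun p : {p : A × Ideal A // p.1 ∈ nonZeroDivisors A ∧ I = Ideal.span {p.1} * p.2} =>
    Module.length A (A ⧸ p.1.2)) ⟨(f, J), hf, h⟩

theorem exists_eq (I : Ideal A) : ∃ (f : A) (J : Ideal A), f ∈ nonZeroDivisors A ∧ I = Ideal.span {f} * J ∧
    Module.length A (A ⧸ J) = cln I := by
  have : Nonempty {p : A × Ideal A // p.1 ∈ nonZeroDivisors A ∧ I = Ideal.span {p.1} * p.2} :=
    ⟨⟨(1, I), one_mem _, by rw [Ideal.span_singleton_one, Ideal.top_mul]⟩⟩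
  obtain ⟨⟨⟨f, J⟩, hf, h⟩, hp⟩ := ENat.exists_eq_iInf
    (fun p : {p : A × Ideal A // p.1 ∈ nonZeroDivisors A ∧ I = Ideal.span {p.1} * p.2} =>
      Module.length A (A ⧸ p.1.2))
  exact ⟨f, J, hf, h, hp⟩

theorem cln_eq_zero_iff (I : Ideal A) : cln I = 0 ↔ ∃ f ∈ nonZeroDivisors A, I = Ideal.span {f} := by
  constructor
  · intro h
    obtain ⟨f, J, hf, hI, hJ⟩ := exists_eq I
    rw [h, Module.length_eq_zero_iff, Ideal.Quotient.subsingleton_iff] at hJ
    exact ⟨f, hf, by rw [hI, hJ, Ideal.mul_top]⟩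
  · rintro ⟨f, hf, h⟩
    refine le_antisymm ?_ zero_le
    refine (cln_le (J := ⊤) hf (by rw [h, Ideal.mul_top])).trans ?_
    have : Subsingleton (A ⧸ (⊤ : Ideal A)) := Ideal.Quotient.subsingleton_iff.2 rfl
    rw [Module.length_eq_zero]

theorem cln_le_of_equiv {B : Type u} [CommRing B] (e : A ≃+* B) (I : Ideal A) :
    cln (I.map (e : A →+* B)) ≤ cln I := by
  obtain ⟨f, J, hf, hI, hJ⟩ := exists_eq I
  have h1 : e f ∈ nonZeroDivisors B := by
    rw [mem_nonZeroDivisors_iff_right]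
    intro z hz
    have h2 : e.symm z * f = 0 := by
      apply e.injective
      rw [map_mul, e.apply_symm_apply, hz, map_zero]
    have h3 := (mem_nonZeroDivisors_iff_right.1 hf) _ h2
    rw [← e.apply_symm_apply z, h3, map_zero]
  refine (cln_le (J := J.map (e : A →+* B)) h1 ?_).trans ?_
  · rw [hI, Ideal.map_mul, Ideal.map_span, Set.image_singleton]
    rfl
  · rw [← hJ]
    let _ : Algebra A B := (e : A →+* B).toAlgebra
    have h2 : Module.length A (B ⧸ J.map (e : A →+* B)) = Module.length B (B ⧸ J.map (e : A →+* B)) :=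
      Module.length_eq_of_surjective e.surjective
    rw [← h2]
    let e' : A ≃ₐ[A] B := AlgEquiv.ofRingEquiv (f := e) fun _ => rfl
    exact (Ideal.quotientEquivAlg _ _ e' rfl).toLinearEquiv.length_eq.ge

theorem cln_equiv {B : Type u} [CommRing B] (e : A ≃+* B) (I : Ideal A) :
    cln (I.map (e : A →+* B)) = cln I := by
  refine le_antisymm (cln_le_of_equiv e I) ?_
  have h := cln_le_of_equiv e.symm (I.map (e : A →+* B))
  rw [Ideal.map_map] at h
  have h1 : (e.symm : B →+* A).comp (e : A →+* B) = RingHom.id A := by ext; simp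
  rwa [h1, Ideal.map_id] at h

end Defs

section Finite

theorem length_ne_top_of_pow_le {A : Type u} [CommRing A] [IsLocalRing A] [IsNoetherianRing A] {J : Ideal A} {n : ℕ}
    (hn : maximalIdeal A ^ n ≤ J) : Module.length A (A ⧸ J) ≠ ⊤ := by
  by_cases htop : J = ⊤
  · have : Subsingleton (A ⧸ J) := Ideal.Quotient.subsingleton_iff.2 htop
    rw [Module.length_eq_zero]
    exact ENat.zero_ne_top
  have : Nontrivial (A ⧸ J) := Ideal.Quotient.nontrivial_iff.2 htop
  have : IsLocalRing (A ⧸ J) := .of_surjective' _ Ideal.Quotient.mk_surjective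
  have h1 : IsNilpotent (maximalIdeal (A ⧸ J)) := by
    refine ⟨n, ?_⟩
    have h2 : maximalIdeal (A ⧸ J) = (maximalIdeal A).map (Ideal.Quotient.mk J) :=
      (IsLocalRing.map_maximalIdeal_of_surjective _ Ideal.Quotient.mk_surjective).symm
    rw [h2, ← Ideal.map_pow, Ideal.zero_eq_bot, Ideal.map_eq_bot_iff_le_ker, Ideal.mk_ker]
    exact hn
  have : IsArtinianRing (A ⧸ J) := (isArtinianRing_iff_isNilpotent_maximalIdeal _).2 h1
  rw [Module.length_eq_of_surjective (S := A) (R := A ⧸ J) Ideal.Quotient.mk_surjective]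
  exact Module.length_ne_top

theorem exists_pow_le_of_length {A : Type u} [CommRing A] [IsLocalRing A] [IsNoetherianRing A] {J : Ideal A}
    (h : Module.length A (A ⧸ J) ≠ ⊤) : ∃ n : ℕ, maximalIdeal A ^ n ≤ J := by
  by_cases htop : J = ⊤
  · exact ⟨0, htop ▸ le_top⟩
  have : Nontrivial (A ⧸ J) := Ideal.Quotient.nontrivial_iff.2 htop
  have : IsLocalRing (A ⧸ J) := .of_surjective' _ Ideal.Quotient.mk_surjective
  rw [Module.length_eq_of_surjective (S := A) (R := A ⧸ J) Ideal.Quotient.mk_surjective,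
    Module.length_ne_top_iff, isFiniteLength_iff_isNoetherian_isArtinian] at h
  have : IsArtinianRing (A ⧸ J) := h.2
  obtain ⟨n, hn⟩ := (isArtinianRing_iff_isNilpotent_maximalIdeal (A ⧸ J)).1 inferInstance
  refine ⟨n, ?_⟩
  have h2 : maximalIdeal (A ⧸ J) = (maximalIdeal A).map (Ideal.Quotient.mk J) :=
    (IsLocalRing.map_maximalIdeal_of_surjective _ Ideal.Quotient.mk_surjective).symm
  rwa [h2, ← Ideal.map_pow, Ideal.zero_eq_bot, Ideal.map_eq_bot_iff_le_ker, Ideal.mk_ker] at hn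

end Finite

section Div

variable {B : Type u} [CommRing B]

/-- The ideal `{b | c * b ∈ J}`. -/
def dv (J : Ideal B) (c : B) : Ideal B := Submodule.comap (LinearMap.mulLeft B c) J

theorem mem_dv {J : Ideal B} {c b : B} : b ∈ dv J c ↔ c * b ∈ J := Iff.rfl

theorem eq_mul_dv {J : Ideal B} {c : B} (h : J ≤ Ideal.span {c}) : J = Ideal.span {c} * dv J c := by
  apply le_antisymm
  · intro z hz
    obtain ⟨d, rfl⟩ := Ideal.mem_span_singleton.1 (h hz)
    exact Ideal.mul_mem_mul (Ideal.mem_span_singleton_self _) (mem_dv.2 hz)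
  · rw [Ideal.mul_le]
    intro a ha b hb
    obtain ⟨d, rfl⟩ := Ideal.mem_span_singleton.1 ha
    rw [mul_right_comm]
    exact Ideal.mul_mem_right _ _ (mem_dv.1 hb)

theorem le_dv (J : Ideal B) (c : B) : J ≤ dv J c := fun _ hz => Ideal.mul_mem_left _ _ hz

end Div

section Main

/-- The colength comparison for arbitrary ideals. -/
theorem length_lt_ideal {A B : Type u} [CommRing A] [CommRing B] [IsDomain B] [IsLocalRing A]
    (φ : A →+* B) {x y : A} (hm : maximalIdeal A = Ideal.span {x, y})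
    {T : B} (hy : φ y = φ x * T) (hx0 : φ x ≠ 0)
    (hB : ∀ b : B, ∃ n : ℕ, ∃ s₁ ∈ maximalIdeal A ^ n, ∃ s₂ ∈ maximalIdeal A ^ n,
      φ s₂ * b = φ s₁ ∧ (maximalIdeal A ^ n).map φ = Ideal.span {φ s₂})
    {J : Ideal A} {r : ℕ} (hr : 1 ≤ r) (hJ : J ≤ maximalIdeal A ^ r) (hJ' : ¬ J ≤ maximalIdeal A ^ (r + 1))
    (hN : ∃ N : ℕ, maximalIdeal A ^ N ≤ J) (hfin : Module.length A (A ⧸ J) ≠ ⊤) :
    ∃ J' : Ideal B, J.map φ = Ideal.span {φ x ^ r} * J' ∧
      Module.length B (B ⧸ J') < Module.length A (A ⧸ J) := by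
  let _ : Algebra A B := φ.toAlgebra
  have hx : φ x ^ r ≠ 0 := pow_ne_zero r hx0
  have hdiv : ∀ w ∈ maximalIdeal A ^ r, ∃ v, φ w = φ x ^ r * v := by
    intro w hw
    rw [hm] at hw
    obtain ⟨F, hF, rfl⟩ := exists_hsum x y r hw
    exact ⟨_, map_hsum φ hy hF⟩
  have hmap : ∀ w : ↥(maximalIdeal A ^ r), ∃ v, φ w = φ x ^ r * v := fun w => hdiv w w.2
  choose D hD using hmap
  let L : ↥(maximalIdeal A ^ r) →ₗ[A] B :=
    { toFun := D
      map_add' := fun a b => by
        apply mul_left_cancel₀ hx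
        rw [← hD, mul_add, ← hD, ← hD, ← map_add]
        rfl
      map_smul' := fun a b => by
        apply mul_left_cancel₀ hx
        rw [RingHom.id_apply, Algebra.smul_def, mul_left_comm, ← hD, ← hD]
        change φ (a * (b : A)) = φ a * φ b
        rw [map_mul] }
  -- the ideal `J'`
  let J' : Ideal B := dv (J.map φ) (φ x ^ r)
  have hmem' : ∀ b, b ∈ J' ↔ φ x ^ r * b ∈ J.map φ := fun b => mem_dv
  have hJJ' : J.map φ = Ideal.span {φ x ^ r} * J' := by
    apply eq_mul_dv
    rw [Ideal.map_le_iff_le_comap]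
    intro w hw
    rw [Ideal.mem_comap, Ideal.mem_span_singleton]
    exact hdiv w (hJ hw)
  refine ⟨J', hJJ', ?_⟩
  -- an element of minimal order
  obtain ⟨f, hfJ, hf'⟩ := Set.not_subset.1 hJ'
  obtain ⟨N, hN⟩ := hN
  have hxm : x ∈ maximalIdeal A := by
    rw [hm]
    exact Ideal.subset_span (by simp)
  let q : ↥(maximalIdeal A ^ r) →ₗ[A] B ⧸ J' := ((Submodule.mkQ J').restrictScalars A).comp L
  have hq : Function.Surjective q := by
    intro b
    obtain ⟨b, rfl⟩ := Ideal.Quotient.mk_surjective b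
    obtain ⟨w, hw, c, d, h1⟩ := exists_key_pow φ hm hy hx0 hB (hJ hfJ) hf' N b
    refine ⟨⟨w, hw⟩, ?_⟩
    change Ideal.Quotient.mk J' (D ⟨w, hw⟩) = _
    rw [Ideal.Quotient.eq, hmem', mul_sub, ← hD]
    simp only
    rw [h1]
    have h2 : φ w - (φ w + φ x ^ (r + N) * c + φ f * d) = -(φ (x ^ (r + N)) * c + φ f * d) := by
      rw [map_pow]
      ring
    rw [h2]
    refine neg_mem (add_mem ?_ ?_)
    · refine Ideal.mul_mem_right _ _ (Ideal.mem_map_of_mem φ (hN ?_))
      rw [pow_add]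
      exact Ideal.mul_mem_left _ _ (Ideal.pow_mem_pow hxm N)
    · exact Ideal.mul_mem_right _ _ (Ideal.mem_map_of_mem φ hfJ)
  let S : Submodule A ↥(maximalIdeal A ^ r) := Submodule.comap (maximalIdeal A ^ r).subtype J
  have hS : S ≤ LinearMap.ker q := by
    intro w hw
    have hw' : (w : A) ∈ J := hw
    rw [LinearMap.mem_ker]
    change Ideal.Quotient.mk J' (D w) = 0
    rw [Ideal.Quotient.eq_zero_iff_mem, hmem', ← hD]
    exact Ideal.mem_map_of_mem φ hw'
  have h1 : Module.length A (B ⧸ J') ≤ Module.length A (↥(maximalIdeal A ^ r) ⧸ S) := by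
    refine Module.length_le_of_surjective (S.liftQ q hS) fun b => ?_
    obtain ⟨w, hw⟩ := hq b
    exact ⟨S.mkQ w, hw⟩
  have h2 : Module.length A (A ⧸ J) =
      Module.length A (↥(maximalIdeal A ^ r) ⧸ S) + Module.length A (A ⧸ maximalIdeal A ^ r) := by
    refine Module.length_eq_add_of_exact (Submodule.mapQ S J (maximalIdeal A ^ r).subtype le_rfl)
      (Submodule.factor hJ) ?_ (Submodule.factor_surjective hJ) ?_
    · rw [← LinearMap.ker_eq_bot, LinearMap.ker_eq_bot']
      intro w hw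
      obtain ⟨w, rfl⟩ := S.mkQ_surjective w
      rw [Submodule.mkQ_apply, Submodule.mapQ_apply, Submodule.Quotient.mk_eq_zero] at hw
      exact (Submodule.Quotient.mk_eq_zero _).2 hw
    · intro a
      obtain ⟨a, rfl⟩ := J.mkQ_surjective a
      constructor
      · intro h3
        rw [Submodule.factor_mk, Submodule.mkQ_apply, Submodule.Quotient.mk_eq_zero] at h3
        exact ⟨S.mkQ ⟨a, h3⟩, rfl⟩
      · rintro ⟨w, hw⟩
        obtain ⟨w, rfl⟩ := S.mkQ_surjective w
        rw [← hw]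
        change Submodule.factor hJ (J.mkQ (w : A)) = 0
        rw [Submodule.factor_mk, Submodule.mkQ_apply, Submodule.Quotient.mk_eq_zero]
        exact w.2
  have : Nontrivial (A ⧸ maximalIdeal A ^ r) := by
    rw [Ideal.Quotient.nontrivial_iff]
    intro h3
    have h4 : maximalIdeal A ^ r ≤ maximalIdeal A := Ideal.pow_le_self (by omega)
    rw [h3, top_le_iff] at h4
    exact Ideal.IsPrime.ne_top inferInstance h4
  have h3 : 0 < Module.length A (A ⧸ maximalIdeal A ^ r) := Module.length_pos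
  refine (length_le_restrict J').trans_lt (h1.trans_lt ?_)
  rw [h2] at hfin ⊢
  have h4 : Module.length A (↥(maximalIdeal A ^ r) ⧸ S) ≠ ⊤ := fun h => hfin (by rw [h, top_add])
  have h5 := (ENat.add_lt_add_iff_left h4).2 h3
  rwa [add_zero] at h5

variable {A : Type u} [CommRing A] [IsRegularLocalRing A]

/-- The order of a nonzero proper ideal. -/
theorem exists_order_ideal {A : Type u} [CommRing A] [IsLocalRing A] [IsNoetherianRing A] {J : Ideal A} (h0 : J ≠ ⊥)
    (h1 : J ≠ ⊤) : ∃ r : ℕ, 1 ≤ r ∧ J ≤ maximalIdeal A ^ r ∧ ¬ J ≤ maximalIdeal A ^ (r + 1) := by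
  classical
  obtain ⟨f, hf, hf0⟩ := Submodule.exists_mem_ne_zero_of_ne_bot h0
  obtain ⟨s, hs1, hs2⟩ := BiratReg.exists_order hf0
  have hex : ∃ n, ¬ J ≤ maximalIdeal A ^ n := ⟨s + 1, fun h => hs2 (h hf)⟩
  have hJm : J ≤ maximalIdeal A := le_maximalIdeal h1
  obtain ⟨r, hr⟩ : ∃ r, Nat.find hex = r + 1 := by
    refine Nat.exists_eq_succ_of_ne_zero fun h2 => ?_
    have h3 := Nat.find_spec hex
    rw [h2, pow_zero] at h3
    exact h3 (by simp)
  refine ⟨r, ?_, ?_, ?_⟩
  · by_contra hcon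
    obtain rfl : r = 0 := by omega
    have h3 := Nat.find_spec hex
    rw [hr] at h3
    exact h3 (by simpa using hJm)
  · have h3 := Nat.find_min hex (m := r) (by omega)
    exact not_not.1 h3
  · have h3 := Nat.find_spec hex
    rwa [hr] at h3

/-- **Decrease of the invertibility defect** under a quadratic transform. -/
theorem cln_lt (hA : ringKrullDim A = 2) {B : Type u} [CommRing B] [IsLocalRing B] [IsDomain B]
    (φ : A →+* B) (hφ : Function.Injective φ)
    (hprin : ∃ d, (maximalIdeal A).map φ = Ideal.span {d})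
    (hB : ∀ b : B, ∃ n : ℕ, ∃ s₁ ∈ maximalIdeal A ^ n, ∃ s₂ ∈ maximalIdeal A ^ n,
      φ s₂ * b = φ s₁ ∧ (maximalIdeal A ^ n).map φ = Ideal.span {φ s₂})
    {I : Ideal A} (h0 : cln I ≠ 0) (hfin : cln I ≠ ⊤) : cln (I.map φ) < cln I := by
  obtain ⟨hdom, hufd⟩ := Groth.Agent.S2821.result A
  have hxyT : ∃ x y : A, ∃ T : B, maximalIdeal A = Ideal.span {x, y} ∧ x ≠ 0 ∧ φ y = φ x * T := by
    obtain ⟨x, y, hm, hx0, hy0, -⟩ := BiratReg.exists_params hA
    obtain ⟨d, hd⟩ := hprin
    rw [hm, Ideal.map_span, Set.image_pair] at hd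
    have h1 : φ x ∈ Ideal.span {d} := hd ▸ Ideal.subset_span (by simp)
    have h2 : φ y ∈ Ideal.span {d} := hd ▸ Ideal.subset_span (by simp)
    have h3 : d ∈ Ideal.span {φ x, φ y} := hd ▸ Ideal.mem_span_singleton_self d
    rw [Ideal.mem_span_singleton] at h1 h2
    rw [Ideal.mem_span_pair] at h3
    obtain ⟨a, ha⟩ := h1
    obtain ⟨b, hb⟩ := h2
    obtain ⟨s, t, hst⟩ := h3
    have hd0 : d ≠ 0 := by
      rintro rfl
      rw [zero_mul] at ha
      exact hx0 (hφ (by rw [ha, map_zero]))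
    have h4 : s * a + t * b = 1 := by
      apply mul_left_cancel₀ hd0
      rw [mul_one]
      conv_rhs => rw [← hst, ha, hb]
      ring
    rcases IsLocalRing.isUnit_or_isUnit_of_add_one h4 with h5 | h5
    · obtain ⟨u, rfl⟩ := isUnit_of_mul_isUnit_right h5
      refine ⟨x, y, ↑u⁻¹ * b, hm, hx0, ?_⟩
      rw [ha, hb, mul_assoc, ← mul_assoc (u : B), Units.mul_inv, one_mul]
    · obtain ⟨u, rfl⟩ := isUnit_of_mul_isUnit_right h5
      refine ⟨y, x, ↑u⁻¹ * a, by rw [hm, Set.pair_comm], hy0, ?_⟩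
      rw [ha, hb, mul_assoc, ← mul_assoc (u : B), Units.mul_inv, one_mul]
  obtain ⟨x, y, T, hm, hx0, hy⟩ := hxyT
  have hφx : φ x ≠ 0 := fun h => hx0 (hφ (by rw [h, map_zero]))
  obtain ⟨f, J, hf, hI, hJ⟩ := exists_eq I
  rw [← hJ] at hfin h0
  have hJtop : J ≠ ⊤ := by
    intro h
    apply h0
    rw [Module.length_eq_zero_iff, Ideal.Quotient.subsingleton_iff]
    exact h
  obtain ⟨N, hN⟩ := exists_pow_le_of_length hfin
  have hJbot : J ≠ ⊥ := by
    rintro rfl
    have hxm : x ∈ maximalIdeal A := by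
      rw [hm]
      exact Ideal.subset_span (by simp)
    exact pow_ne_zero N hx0 ((Submodule.mem_bot A).1 (hN (Ideal.pow_mem_pow hxm N)))
  obtain ⟨r, hr1, hr2, hr3⟩ := exists_order_ideal hJbot hJtop
  obtain ⟨J', h1, h2⟩ := length_lt_ideal φ hm hy hφx hB hr1 hr2 hr3 ⟨N, hN⟩ hfin
  rw [hJ] at h2
  refine (cln_le (f := φ f * φ x ^ r) (J := J') ?_ ?_).trans_lt h2
  · apply mem_nonZeroDivisors_of_ne_zero
    refine mul_ne_zero ?_ (pow_ne_zero r hφx)
    intro h
    have h3 : f = 0 := hφ (by rw [h, map_zero])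
    exact nonZeroDivisors.ne_zero hf h3
  · rw [hI, Ideal.map_mul, h1, Ideal.map_span, Set.image_singleton, ← mul_assoc,
      Ideal.span_singleton_mul_span_singleton]

/-- Over a regular local ring of dimension at most two the defect of a nonzero ideal is finite. -/
theorem cln_ne_top (hA : ringKrullDim A ≤ 2) {I : Ideal A} (hI : I ≠ ⊥) : cln I ≠ ⊤ := by
  obtain ⟨hdom, hufd⟩ := Groth.Agent.S2821.result A
  -- a maximal cofactor
  let S : Set (Ideal A) := {J | ∃ f : A, f ≠ 0 ∧ I = Ideal.span {f} * J}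
  have hS : S.Nonempty := ⟨I, 1, one_ne_zero, by rw [Ideal.span_singleton_one, Ideal.top_mul]⟩
  obtain ⟨J, ⟨f, hf0, hIJ⟩, hmax⟩ := set_has_maximal_iff_noetherian.2 (inferInstance : IsNoetherian A A) S hS
  have hJ0 : J ≠ ⊥ := by
    rintro rfl
    rw [Ideal.mul_bot] at hIJ
    exact hI hIJ
  have hprime : ∀ p : A, Prime p → ¬ J ≤ Ideal.span {p} := by
    intro p hp hJp
    let J' : Ideal A := dv J p
    have hJ' : J = Ideal.span {p} * J' := eq_mul_dv hJp
    have hle : J ≤ J' := le_dv J p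
    have hne : J < J' := by
      refine lt_of_le_of_ne hle fun heq => hJ0 ?_
      have h1 : J ≤ Ideal.span {p} • J := by
        rw [smul_eq_mul]
        conv_lhs => rw [hJ', ← heq]
      refine Submodule.eq_bot_of_le_smul_of_le_jacobson_bot (Ideal.span {p}) J (IsNoetherian.noetherian J) h1 ?_
      rw [IsLocalRing.jacobson_eq_maximalIdeal ⊥ bot_ne_top]
      rw [Ideal.span_singleton_le_iff_mem]
      exact (IsLocalRing.mem_maximalIdeal p).2 hp.not_isUnit
    refine hmax J' ⟨f * p, mul_ne_zero hf0 hp.ne_zero, ?_⟩ hne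
    calc I = Ideal.span {f} * J := hIJ
      _ = Ideal.span {f} * (Ideal.span {p} * J') := congrArg _ hJ'
      _ = _ := by rw [← mul_assoc, Ideal.span_singleton_mul_span_singleton]
  refine ne_top_of_le_ne_top ?_ (cln_le (mem_nonZeroDivisors_of_ne_zero hf0) hIJ)
  have hrad : maximalIdeal A ≤ Ideal.radical J := by
    rw [Ideal.radical_eq_sInf]
    refine le_sInf ?_
    rintro P ⟨hP, hPp⟩
    have hPb : P ≠ ⊥ := by
      rintro rfl
      exact hJ0 (le_bot_iff.1 hP)
    obtain ⟨p, hpP, hp⟩ := Ideal.IsPrime.exists_mem_prime_of_ne_bot hPp hPb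
    have hpp : (Ideal.span {p} : Ideal A).IsPrime := (Ideal.span_singleton_prime hp.ne_zero).2 hp
    have h7 : (⊥ : Ideal A) < Ideal.span {p} := by
      rw [bot_lt_iff_ne_bot, Ne, Ideal.span_singleton_eq_bot]
      exact hp.ne_zero
    have h9 : Ideal.span {p} < P := by
      refine lt_of_le_of_ne ((Ideal.span_singleton_le_iff_mem _).2 hpP) ?_
      rintro rfl
      exact hprime p hp hP
    have h10 := Ideal.height_add_one_le_of_lt_of_isPrime h7
    have h11 := Ideal.height_add_one_le_of_lt_of_isPrime h9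
    by_contra hne
    have h12 : P < maximalIdeal A := lt_of_le_of_ne (le_maximalIdeal hPp.ne_top) fun h => hne h.ge
    have h13 := Ideal.height_add_one_le_of_lt_of_isPrime h12
    have h2 := IsLocalRing.maximalIdeal_height_eq_ringKrullDim (R := A)
    rw [← h2] at hA
    have h3 : (maximalIdeal A).height ≤ 2 := WithBot.coe_le_coe.1 hA
    have h4 : (3 : ℕ∞) ≤ 2 := by
      calc (3 : ℕ∞) = 0 + 1 + 1 + 1 := by norm_num
        _ ≤ (⊥ : Ideal A).height + 1 + 1 + 1 := by gcongr; exact zero_le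
        _ ≤ (Ideal.span {p} : Ideal A).height + 1 + 1 := by gcongr
        _ ≤ P.height + 1 := by gcongr
        _ ≤ 2 := h13.trans h3
    exact absurd h4 (by decide)
  obtain ⟨n, hn⟩ := Ideal.exists_pow_le_of_le_radical_of_fg hrad (IsNoetherian.noetherian _)
  exact length_ne_top_of_pow_le hn

/-- Over a regular local ring of dimension one the defect of a nonzero ideal is zero. -/
theorem cln_eq_zero_of_dim_le_one (hA : ringKrullDim A ≤ 1) {I : Ideal A} (hI : I ≠ ⊥) : cln I = 0 := by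
  have hdom := (Groth.Agent.S2821.result A).1
  have h1 := Groth.Agent.Dix.RegTwoDim.isPrincipalIdealRing A hA
  rw [cln_eq_zero_iff]
  obtain ⟨f, hf⟩ := (IsPrincipalIdealRing.principal I).principal
  refine ⟨f, mem_nonZeroDivisors_of_ne_zero ?_, hf⟩
  rintro rfl
  apply hI
  rw [hf]
  simp

end Main

end K373.ColenAlg
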