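import Groth.Agent.Desc.DimMap
import Groth.Agent.CurvesB.N1OfNormal
import Groth.Agent.VarietyB.NormalizationVar
import Groth.Agent.CurvesC.RegNormal
import Groth.Agent.CurvesB.DimPts
import Groth.Prelude.Def_Curv2
import Mathlib.RingTheory.KrullDimension.Zero
import Mathlib.RingTheory.DiscreteValuationRing.TFAE
import Mathlib.AlgebraicGeometry.Morphisms.QuasiFinite

/-!
# Finiteness of the normalization of an integral Noetherian scheme (helper373)
-/

set_option autoImplicit false
universe u

open CategoryTheory CategoryTheory.Limits AlgebraicGeometry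

namespace K373.NormFin

open Groth.Agent Groth.Agent.VarietyB.NormalizationVar

/-- Noetherian local integrally closed domains of dimension at most one are regular. -/
theorem isRegular_of_normal (R : Type u) [CommRing R] [IsLocalRing R] [IsNoetherianRing R] [IsDomain R]
    [IsIntegrallyClosed R] (hd : ringKrullDim R ≤ 1) : IsRegularLocalRing R := by
  have h1 : IsPrincipalIdealRing R := by
    have hT : (IsIntegrallyClosed R ∧ ∀ P : Ideal R, P ≠ ⊥ → P.IsPrime → P = IsLocalRing.maximalIdeal R) ↔
        IsPrincipalIdealRing R := (tfae_of_isNoetherianRing_of_isLocalRing_of_isDomain R).out 3 0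
    refine hT.mp ⟨inferInstance, ?_⟩
    intro P hP hPp
    have : Ring.KrullDimLE 1 R := Ring.krullDimLE_iff.mpr hd
    have h2 := Ring.krullDimLE_one_iff_of_isPrime_bot.mp this P hP hPp
    exact IsLocalRing.eq_maximalIdeal h2
  infer_instance

theorem finite_integralClosure_of_isN1 (A : Type u) [CommRing A] [IsDomain A] (h : CAlg.IsN1 A)
    (L : Type u) [CommRing L] [Algebra A L] [IsFractionRing A L] : Module.Finite A (integralClosure A L) := by
  have h1 : Module.Finite A (integralClosure A (FractionRing A)) := h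
  exact Module.Finite.equiv (AlgEquiv.mapIntegralClosure (FractionRing.algEquiv A L)).toLinearEquiv

theorem isN1_of_finite_integralClosure (A : Type u) [CommRing A] [IsDomain A]
    (L : Type u) [CommRing L] [Algebra A L] [IsFractionRing A L] (h : Module.Finite A (integralClosure A L)) :
    CAlg.IsN1 A :=
  Module.Finite.equiv (AlgEquiv.mapIntegralClosure (FractionRing.algEquiv A L)).symm.toLinearEquiv

variable (X : Scheme.{u}) [IsIntegral X]
  [QuasiCompact (X.fromSpecStalk (genericPoint X))] [QuasiSeparated (X.fromSpecStalk (genericPoint X))]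

theorem isFinite_of_isN1 (h : ∀ (U : X.Opens), IsAffineOpen U → ∀ _ : Nonempty U, CAlg.IsN1 Γ(X, U)) :
    IsFinite (Curv2.normalizationι X) := by
  refine isFinite_fromNormalization X fun U hU hne => ?_
  let := ((gen X).app U).hom.toAlgebra
  have hfrac := isFractionRing_gen_app X hU
  exact finite_integralClosure_of_isN1 _ (h U hU hne) _

theorem finite_of_isFinite (h : IsFinite (Curv2.normalizationι X)) (U : X.Opens) (hU : IsAffineOpen U)
    (hne : Nonempty U) :
    letI := ((gen X).app U).hom.toAlgebra
    Module.Finite Γ(X, U) (integralClosure Γ(X, U)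
      Γ(Spec (X.presheaf.stalk (genericPoint X)), (gen X) ⁻¹ᵁ U)) := by
  let := ((gen X).app U).hom.toAlgebra
  have h1 : ((gen X).fromNormalization.app U).hom.Finite := ((isFinite_iff _).1 h).2 U hU
  rw [Scheme.Hom.fromNormalization_app _ hU, CommRingCat.hom_comp] at h1
  have h2 := RingHom.Finite.comp (RingHom.Finite.of_surjective _
    ((gen X).normalizationObjIso hU).commRingCatIsoToRingEquiv.surjective) h1
  have h3 : ((((gen X).normalizationObjIso hU).commRingCatIsoToRingEquiv : _ →+* _)).comp
      (((gen X).normalizationObjIso hU).inv.hom.comp (CommRingCat.ofHom (algebraMap Γ(X, U) (integralClosure Γ(X, U)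
        Γ(Spec (X.presheaf.stalk (genericPoint X)), (gen X) ⁻¹ᵁ U)))).hom) =
      algebraMap Γ(X, U) (integralClosure Γ(X, U)
        Γ(Spec (X.presheaf.stalk (genericPoint X)), (gen X) ⁻¹ᵁ U)) := by
    refine RingHom.ext fun z => ?_
    change (((gen X).normalizationObjIso hU).hom.hom (((gen X).normalizationObjIso hU).inv.hom _)) = _
    rw [← CommRingCat.comp_apply, Iso.inv_hom_id]
    rfl
  have h4 : RingHom.Finite (algebraMap Γ(X, U) (integralClosure Γ(X, U)
        Γ(Spec (X.presheaf.stalk (genericPoint X)), (gen X) ⁻¹ᵁ U))) := by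
    rw [← h3]
    exact h2
  exact h4

theorem isN1_of_isFinite (h : IsFinite (Curv2.normalizationι X)) (U : X.Opens) (hU : IsAffineOpen U)
    (hne : Nonempty U) : CAlg.IsN1 Γ(X, U) := by
  let := ((gen X).app U).hom.toAlgebra
  have hfrac := isFractionRing_gen_app X hU
  exact isN1_of_finite_integralClosure _ _ (finite_of_isFinite X h U hU hne)

/-- If the normalization is finite, it is an isomorphism over a nonempty open. -/
theorem exists_isIso (h : IsFinite (Curv2.normalizationι X)) :
    ∃ V : X.Opens, (V : Set X).Nonempty ∧ IsIso (Curv2.normalizationι X ∣_ V) := by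
  obtain ⟨U, hU, hxU, -⟩ := exists_isAffineOpen_mem_and_subset (X := X) (x := genericPoint X)
    (U := ⊤) trivial
  have hne : Nonempty U := ⟨⟨_, hxU⟩⟩
  let := ((gen X).app U).hom.toAlgebra
  have hfrac := isFractionRing_gen_app X hU
  have := finite_of_isFinite X h U hU hne
  obtain ⟨s, hs0, hs⟩ := exists_isIntegrallyClosed_localization Γ(X, U)
    Γ(Spec (X.presheaf.stalk (genericPoint X)), (gen X) ⁻¹ᵁ U)
  have hV : IsAffineOpen (X.basicOpen s) := hU.basicOpen s
  have hVne : (X.basicOpen s : Set X).Nonempty := by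
    by_contra h
    rw [Set.not_nonempty_iff_eq_empty] at h
    exact hs0 ((basicOpen_eq_bot_iff s).mp (TopologicalSpace.Opens.ext h))
  refine ⟨X.basicOpen s, hVne, ?_⟩
  have : Nonempty (X.basicOpen s) := hVne.to_subtype
  refine isIso_fromNormalization_restrict X _ hV ?_
  have hloc := hU.isLocalization_basicOpen s
  exact IsIntegrallyClosed.of_equiv
    (IsLocalization.algEquiv (Submonoid.powers s) (Localization.Away s)
      Γ(X, X.basicOpen s)).toRingEquiv

/-- A finite normalization of a scheme of dimension at most one is regular. -/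
theorem isRegular_of_dim_le_one [IsLocallyNoetherian X] (h : IsFinite (Curv2.normalizationι X))
    (hd : topologicalKrullDim X ≤ 1) (x : Curv2.normalization X) :
    IsRegularLocalRing ((Curv2.normalization X).presheaf.stalk x) := by
  have h1 : Pi1.IsNormalScheme (Curv2.normalization X) := isNormalScheme_normalization X
  have h2 : IsLocallyNoetherian (Curv2.normalization X) :=
    LocallyOfFiniteType.isLocallyNoetherian (Curv2.normalizationι X)
  have h3 : topologicalKrullDim (Curv2.normalization X) ≤ topologicalKrullDim X := by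
    refine Desc.DimMap.topologicalKrullDim_le_of_fibres (Curv2.normalizationι X)
      (Curv2.normalizationι X).continuous fun x y hxy h => ?_
    have h1 := (Curv2.normalizationι X).isDiscrete_preimage_singleton (Curv2.normalizationι X x)
    have := h1.to_subtype
    have h2 : (⟨x, rfl⟩ : (Curv2.normalizationι X ⁻¹' {Curv2.normalizationι X x} : Set _)) ⤳ ⟨y, h.symm⟩ :=
      Topology.IsInducing.subtypeVal.specializes_iff.1 hxy
    exact congrArg Subtype.val (specializes_iff_eq.1 h2)
  obtain ⟨h4, h5⟩ := h1 x
  exact isRegular_of_normal _ ((CurvesB.DimPts.ringKrullDim_stalk_le x).trans (h3.trans hd))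

/-- A proper dominant morphism from a normal integral scheme shows that the normalization is finite. -/
theorem isFinite_of_normal [IsLocallyNoetherian X] {Z : Scheme.{u}} [IsIntegral Z] (hZ : Pi1.IsNormalScheme Z)
    (g : Z ⟶ X) [IsProper g] [IsDominant g] : IsFinite (Curv2.normalizationι X) := by
  refine isFinite_of_isN1 X fun U hU hne => ?_
  have : IsNoetherianRing Γ(X, U) := IsLocallyNoetherian.component_noetherian ⟨U, hU⟩
  have hgU : genericPoint X ∈ U := by
    obtain ⟨⟨x, hx⟩⟩ := hne
    exact ((genericPoint_spec X).specializes (Set.mem_univ x)).mem_open U.2 hx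
  have hne' : Nonempty (g ⁻¹ᵁ U) := by
    obtain ⟨z, hz⟩ := g.denseRange.exists_mem_open U.2 ⟨_, hgU⟩
    exact ⟨⟨z, hz⟩⟩
  have hnorm : Pi1.IsNormalScheme (g ⁻¹ᵁ U : Scheme.{u}) := by
    intro z
    obtain ⟨h1, h2⟩ := hZ z.1
    have e := ((g ⁻¹ᵁ U).stalkIso z).commRingCatIsoToRingEquiv
    exact ⟨e.toMulEquiv.isDomain _, IsIntegrallyClosed.of_equiv e.symm⟩
  have hiso : IsIso hU.isoSpec.hom := inferInstance
  have hd1 : IsDominant (g ∣_ U) := by
    refine ⟨?_⟩
    rw [DenseRange, dense_iff_inter_open]
    rintro W hW ⟨w, hw⟩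
    have hW' : IsOpen (Subtype.val '' W : Set X) := U.2.isOpenMap_subtype_val _ hW
    obtain ⟨z, hz⟩ := g.denseRange.exists_mem_open hW' ⟨_, w, hw, rfl⟩
    obtain ⟨w', hw', hww⟩ := hz
    have hzU : z ∈ g ⁻¹ᵁ U := by
      change g z ∈ U
      rw [← hww]; exact w'.2
    refine ⟨(g ∣_ U) ⟨z, hzU⟩, ?_, ⟨z, hzU⟩, rfl⟩
    have : (g ∣_ U) ⟨z, hzU⟩ = w' := by
      apply Subtype.ext
      rw [hww]
      exact morphismRestrict_base_coe g U ⟨z, hzU⟩
    rw [this]; exact hw'
  refine CurvesB.N1OfNormal.isN1 Γ(X, U) (g ⁻¹ᵁ U : Scheme.{u}) ((g ∣_ U) ≫ hU.isoSpec.hom) hnorm ?_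
  infer_instance

end K373.NormFin
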