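import Groth.Agent.Grpsch.PicGrp
import Groth.Agent.Fdesc.LocGenPullback

/-!
# Descent of invertible modules along a morphism `b` with `O → b_* O` an isomorphism (helper373)

* `pull_injective`: pullback along `b` is injective on Picard groups.
* `pushforward_invertible`: an invertible module which is trivial locally on the target descends.
-/

set_option autoImplicit false
set_option backward.isDefEq.respectTransparency false
universe u

open CategoryTheory CategoryTheory.Limits AlgebraicGeometry TopologicalSpace Opposite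

namespace K373.PicDesc

open Groth.Agent.Fdesc.LocGen Groth.Agent.Grpsch.PicGrp

variable {X Y : Scheme.{u}} {b : X ⟶ Y}

theorem isGen_pushforward (hb : ∀ V : Y.Opens, Function.Bijective (b.app V).hom) {L : X.Modules} {V : Y.Opens}
    (e : Γ((Scheme.Modules.pushforward b).obj L, V))
    (he : IsGen (M := L) (U := b ⁻¹ᵁ V) e) : IsGen e := by
  intro W hW
  exact (he (b ⁻¹ᵁ W) (b.preimage_mono hW)).comp (hb W)

/-- The counit. -/
noncomputable def counit (b : X ⟶ Y) (L : X.Modules) :
    (Scheme.Modules.pullback b).obj ((Scheme.Modules.pushforward b).obj L) ⟶ L :=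
  ((Scheme.Modules.pullbackPushforwardAdjunction b).homEquiv _ _).symm (𝟙 _)

theorem counit_pullSec {L : X.Modules} {V : Y.Opens} (e : Γ((Scheme.Modules.pushforward b).obj L, V)) :
    (counit b L).app (b ⁻¹ᵁ V) (pullSec b e) = e := by
  rw [← homEquiv_app, counit, Equiv.apply_symm_apply]
  rfl

theorem pushforward_invertible (hb : ∀ V : Y.Opens, Function.Bijective (b.app V).hom) {L : X.Modules}
    (hL : ∀ y : Y, ∃ (V : Y.Opens) (e : Γ(L, b ⁻¹ᵁ V)), y ∈ V ∧ IsGen e) :
    PicF.IsInvertible ((Scheme.Modules.pushforward b).obj L) ∧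
      Nonempty ((Scheme.Modules.pullback b).obj ((Scheme.Modules.pushforward b).obj L) ≅ L) := by
  constructor
  · rw [isInvertible_iff]
    intro y
    obtain ⟨V, e, hy, he⟩ := hL y
    exact ⟨V, e, hy, isGen_pushforward hb _ he⟩
  · have : IsIso (counit b L) := by
      apply isIso_of_isGen
      intro x
      obtain ⟨V, e, hy, he⟩ := hL (b x)
      let e' : Γ((Scheme.Modules.pushforward b).obj L, V) := e
      refine ⟨b ⁻¹ᵁ V, pullSec b e', hy, (isGen_pushforward hb e' he).pullSec b, ?_⟩
      rw [counit_pullSec]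
      exact he
    exact ⟨asIso (counit b L)⟩

theorem isIso_unit (hb : ∀ V : Y.Opens, Function.Bijective (b.app V).hom) {L : Y.Modules}
    (hL : PicF.IsInvertible L) : IsIso ((Scheme.Modules.pullbackPushforwardAdjunction b).unit.app L) := by
  apply isIso_of_isGen
  intro y
  obtain ⟨V, e, hy, he⟩ := (isInvertible_iff L).mp hL y
  refine ⟨V, e, hy, he, ?_⟩
  exact isGen_pushforward hb _ (he.pullSec b)

theorem pull_injective (hb : ∀ V : Y.Opens, Function.Bijective (b.app V).hom) :
    Function.Injective (pull b) := by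
  rw [injective_iff_map_eq_one]
  intro c hc
  obtain ⟨L, hL, rfl⟩ := exists_mk c
  rw [pull_mk, mk_eq_one_iff] at hc
  obtain ⟨θ⟩ := hc
  rw [mk_eq_one_iff]
  have h1 := isIso_unit hb hL
  let α : L ≅ (Scheme.Modules.pushforward b).obj ((Scheme.Modules.pullback b).obj L) :=
    asIso ((Scheme.Modules.pullbackPushforwardAdjunction b).unit.app L)
  let β : (Scheme.Modules.pushforward b).obj ((Scheme.Modules.pullback b).obj L) ≅
    (Scheme.Modules.pushforward b).obj (Coh.structureModule X) := (Scheme.Modules.pushforward b).mapIso θ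
  let e : Γ((Scheme.Modules.pushforward b).obj (Coh.structureModule X), ⊤) := one (X := X) ⊤
  have he : IsGen e := isGen_pushforward hb e (isGen_one (X := X) ⊤)
  have h2 : IsIso (homOf e) := (isIso_iff_isGen _).mpr (by rw [sec_homOf, res_refl]; exact he)
  exact ⟨α ≪≫ β ≪≫ (asIso (homOf e)).symm⟩

theorem exists_isGen_of_pull_eq_one {G : X.Opens} {L : X.Modules} (hL : PicF.IsInvertible L)
    (h : pull G.ι (mk L hL) = 1) : ∃ e : Γ(L, G), IsGen e := by
  rw [pull_mk, mk_eq_one_iff] at h
  obtain ⟨θ⟩ := h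
  let θ' : L.restrict G.ι ≅ Coh.structureModule G.toScheme :=
    (Scheme.Modules.restrictFunctorIsoPullback G.ι).app L ≪≫ θ
  have h1 : IsGen (θ'.inv.app ⊤ (one ⊤)) := (isGen_one ⊤).app θ'.inv
  obtain ⟨m, hm⟩ := (toRestrict (M := L) G.ι (U := ⊤)).surjective (θ'.inv.app ⊤ (one ⊤))
  rw [← hm, isGen_toRestrict_iff] at h1
  have h2 : G = G.ι ''ᵁ ⊤ := by simp
  exact ⟨res L h2.le m, (isGen_congr h2 m).mpr h1⟩

/-- Triviality can be checked on a larger open immersion. -/
theorem pull_eq_one_of_range {A B X : Scheme.{u}} (j : A ⟶ X) (j' : B ⟶ X) [IsOpenImmersion j']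
    (h : Set.range j ⊆ Set.range j') {c : Pic X} (hc : pull j' c = 1) : pull j c = 1 := by
  rw [← IsOpenImmersion.lift_fac j' j h, pull_comp, hc, map_one]

end K373.PicDesc
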