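import Groth.Agent.Resolve.K373.ContrThm
import Groth.Agent.Dix.CastMain
import Groth.Agent.CurvesC.ProjMap
import Groth.Agent.S2327

/-!
# Contraction in the presence of an ample module (helper373)
-/

set_option autoImplicit false
set_option backward.isDefEq.respectTransparency false
universe u

open CategoryTheory CategoryTheory.Limits AlgebraicGeometry Opposite TopologicalSpace IsLocalRing

namespace K373.ContrAmple

open Groth.Agent.Fdesc.LocGen Groth.Agent.PerfA.IdealModule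
open Groth.Agent.Grpsch.PicGrp Groth.Agent.Dix Groth.Agent.Dix.CastPic Groth.Agent.Dix.CastLift
open Groth.Agent.CurvesC.ProjSpaceBasic (Dp)

/-- A proper morphism which is affine over an affine open is quasi-finite over it. -/
theorem quasiFiniteAt_of_isAffineOpen {X P : Scheme.{u}} (φ : X ⟶ P) [IsProper φ] {U : P.Opens}
    (hU : IsAffineOpen U) (hU' : IsAffineOpen (φ ⁻¹ᵁ U)) {x : X} (hx : φ x ∈ U) : φ.QuasiFiniteAt x := by
  have : IsAffine U := hU
  have : IsAffine (φ ⁻¹ᵁ U) := hU'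
  have hfin : IsFinite (φ ∣_ U) := by
    have : IsAffineHom (φ ∣_ U) := isAffineHom_of_isAffine _
    exact IsFinite.iff_isProper_and_isAffineHom.2 ⟨inferInstance, inferInstance⟩
  have h1 : (φ ∣_ U).QuasiFiniteAt ⟨x, hx⟩ := Scheme.Hom.quasiFiniteAt _ _
  rw [← Scheme.Hom.quasiFiniteAt_comp_iff (g := U.ι), morphismRestrict_ι,
    Scheme.Hom.quasiFiniteAt_comp_iff_of_isOpenImmersion] at h1
  exact h1

/-- The morphism to projective space contracting the curve. -/
theorem exists_mor {R : Type u} [CommRing R] [IsNoetherianRing R] {X : Scheme.{u}}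
    (p : X ⟶ Spec (CommRingCat.of R)) [IsProper p] {k : Type u} [Field k]
    (ι : CohB1.ProjSpace 1 k ⟶ X) [IsClosedImmersion ι] (heff : BlowUp.IsEffCartierIdeal ι.ker)
    (hI : pull ι (idc ι heff) = o k 1) {A : X.Modules} (hA : CohB1.IsAmple A) :
    ∃ (r N a : ℕ) (φ : X ⟶ CohB1.ProjSpace r R), φ ≫ CohB1.ProjSpace.toSpec r R = p ∧ 1 ≤ N ∧
      pull ι (mk A hA.1) = o k a ∧
      pull φ (mk (Twist.twistProjSpace r R 1) (Groth.Agent.VarietyA.AmpleField.isAmple_twistProjSpace r R).1) =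
        (mk A hA.1 * (idc ι heff)⁻¹ ^ a) ^ N ∧
      (∀ e e', φ (ι e) = φ (ι e')) ∧ ∀ x, x ∉ Set.range ι → φ.QuasiFiniteAt x := by
  obtain ⟨a, ha, hAa⟩ := CastAmple.exists_deg ι hA
  obtain ⟨H, hH, n, h, J, hJ, σ, hn, hh, hHc, hHp, hHV, hσa, hσc⟩ := CastAmple.exists_H p ι hA
  have hna : h = n * a := by
    rw [hHc, map_pow, hAa, o_pow] at hHp
    have := PtIdeal.o_injective _ hHp
    exact_mod_cast this.symm
  obtain ⟨sE, hsE⟩ := Cast5.exists_section ι heff
  have hinv := (IdealModCartier.isInvertible_idealMod_iff ι.ker).2 heff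
  have hD : PicF.IsInvertible (dual (ClSub.idealMod ι.ker)) := isInvertible_dual hinv
  have hDc : mk (dual (ClSub.idealMod ι.ker)) hD = (idc ι heff)⁻¹ := (inv_mk hinv).symm
  let P := CohB1.tensorPow (dual (ClSub.idealMod ι.ker)) h
  have hP : PicF.IsInvertible P := isInvertible_tensorPow hD h
  have hPc : mk P hP = (idc ι heff)⁻¹ ^ h := by rw [mk_tensorPow hD h, hDc]
  let M := CohB1.tensorMod H P
  have hM : PicF.IsInvertible M := isInvertible_tensorMod hH hP
  have hMc : mk M hM = mk H hH * (idc ι heff)⁻¹ ^ h := by rw [← mk_mul_mk hH hP, hPc]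
  have hc1 : mk M hM * idc ι heff = mk H hH * (idc ι heff)⁻¹ ^ (h - 1) := by
    obtain ⟨m, rfl⟩ : ∃ m, h = m + 1 := ⟨h - 1, by omega⟩
    rw [hMc, Nat.add_sub_cancel, pow_succ, mul_assoc, mul_assoc, inv_mul_cancel, mul_one]
  have hMp : pull ι (mk M hM) = 1 := by
    rw [hMc, map_mul, map_pow, map_inv, hHp, hI, ← o_neg, o_pow, ← o_add, ← o_zero]
    congr 1; ring
  obtain ⟨t, ht⟩ := exists_gen ι heff M hM (by
    rw [hc1]; exact V1_ind ι heff hI (mk H hH) h hHp hHV _ (by omega)) hMp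
  obtain ⟨r, ⟨eJ⟩⟩ := Finite.exists_equiv_fin J
  let s' : Fin r → (Coh.structureModule X ⟶ M) := fun j =>
    tmulHom (σ (eJ.symm j)) (powHom sE h)
  have hs' : ∀ j, CohB1.genLocus M (s' j) =
      CohB1.genLocus H (σ (eJ.symm j)) ⊓ CohB1.genLocus _ sE := by
    intro j
    rw [genLocus_tmulHom hH hP]
    congr 1
    obtain ⟨m, rfl⟩ : ∃ m, h = m + 1 := ⟨h - 1, by omega⟩
    exact genLocus_powHom hD sE m
  let s : Fin (r + 1) → (Coh.structureModule X ⟶ M) := Fin.cons t s'
  have hs0 : s 0 = t := rfl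
  have hsj : ∀ j : Fin r, s j.succ = s' j := fun j => rfl
  have hEc : ∀ x, x ∉ Set.range ι ↔ x ∈ CohB1.genLocus _ sE := by
    intro x
    have : x ∈ (CohB1.genLocus _ sE : Set X) ↔ x ∈ (Set.range ι)ᶜ := by rw [hsE]
    exact this.symm
  have hex : ∀ x, x ∉ Set.range ι → ∃ j : Fin r, x ∈ CohB1.genLocus M (s j.succ) := by
    intro x hx
    have h2 : x ∈ ⨆ j, CohB1.genLocus H (σ j) := by rw [hσc]; trivial
    obtain ⟨j, hj⟩ := Opens.mem_iSup.mp h2
    refine ⟨eJ j, ?_⟩
    rw [hsj, hs', Equiv.symm_apply_apply]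
    exact ⟨hj, (hEc x).1 hx⟩
  have hcov' : ⨆ i, CohB1.genLocus M (s i) = ⊤ := by
    rw [eq_top_iff]
    intro x _
    by_cases hx : x ∈ Set.range ι
    · exact Opens.mem_iSup.2 ⟨0, ht hx⟩
    · obtain ⟨j, hj⟩ := hex x hx
      exact Opens.mem_iSup.2 ⟨j.succ, hj⟩
  obtain ⟨φ, -, hφ, hpre, -, e, -⟩ := Groth.Agent.CurvesC.ProjMap.exists_morphism p M s hcov'
  have hprop : IsProper (φ ≫ CohB1.ProjSpace.toSpec r R) := by rw [hφ]; infer_instance
  have hφp : IsProper φ := IsProper.of_comp φ (CohB1.ProjSpace.toSpec r R)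
  have hPaff : ∀ k, IsAffineOpen (Dp r R k) := fun k =>
    Proj.isAffineOpen_basicOpen (CohB1.polyGrading r R) (m := 1) _
      (MvPolynomial.isHomogeneous_X _ k) Nat.one_pos
  refine ⟨r, n, a, φ, hφ, hn, hAa, ?_, ?_, ?_⟩
  · rw [pull_mk, mul_pow, ← pow_mul, mul_comm a n, ← hna, ← hHc, ← hMc, mk_eq_iff]
    exact ⟨e⟩
  · have hE : IsField Γ(CohB1.ProjSpace 1 k, ⊤) := Cast2.wp2_isField k
    intro x y
    rw [← Scheme.Hom.comp_apply, ← Scheme.Hom.comp_apply]
    refine ContractBasic.eq_of_isField_of_range (hPaff 0) (ι ≫ φ) ?_ hE x y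
    rintro _ ⟨z, rfl⟩
    have h1 : ι z ∈ φ ⁻¹ᵁ Dp r R 0 := by rw [hpre]; exact ht ⟨z, rfl⟩
    rw [Scheme.Hom.comp_apply]
    exact h1
  · intro x hx
    obtain ⟨j, hj⟩ := hex x hx
    rw [← hpre] at hj
    refine quasiFiniteAt_of_isAffineOpen φ (hPaff _) ?_ hj
    rw [hpre, hsj, hs', inf_comm]
    exact isAffineOpen_genLocus_inf hD sE (hσa _)

/-- **Castelnuovo contraction** over a Noetherian ring, with descent of an ample module. -/
theorem main (R : Type u) [CommRing R] [IsNoetherianRing R] {E X : Scheme.{u}}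
    (f : X ⟶ Spec (CommRingCat.of R)) [IsProper f] (L : X.Modules) (hL : CohB1.IsAmple L)
    (ι : E ⟶ X) [IsClosedImmersion ι] (hE : Models.IsExcCurve ι)
    (M : X.Modules) (hM : ClSub.IsInverseOf M (ClSub.idealMod ι.ker)) :
    ∃ (X' : Scheme.{u}) (b : X ⟶ X') (g : X' ⟶ Spec (CommRingCat.of R)), Models.IsContractionOf ι b ∧ b ≫ g = f ∧
      IsProper g ∧ ∃ (n : ℕ) (L' : X'.Modules), CohB1.IsAmple L' ∧
        Nonempty ((Scheme.Modules.pullback b).obj L' ≅ CohB1.tensorMod L (CohB1.tensorPow M n)) := by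
  obtain ⟨hEi, -⟩ := K372.Contr.isIntegral_of_isExcCurve hE
  obtain ⟨k, _, e, heff, hker, hI⟩ := PicContr.exists_param hE
  obtain ⟨r, N, a, φ, hφ, hN, hLa, hpull, hconst, hqf⟩ := exists_mor f (e.hom ≫ ι) heff hI hL
  have hinv : PicF.IsInvertible (ClSub.idealMod ι.ker) := (IdealModCartier.isInvertible_idealMod_iff ι.ker).2 hE.1
  have hinv' := (IdealModCartier.isInvertible_idealMod_iff (e.hom ≫ ι).ker).2 heff
  have hidc : mk (ClSub.idealMod ι.ker) hinv = idc (e.hom ≫ ι) heff :=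
    mk_congr (eqToIso (by rw [hker]))
  have hMinv : PicF.IsInvertible M := (IdealModCartier.isInvertible_of_isInverseOf hM).1
  have hMc : mk M hMinv = (idc (e.hom ≫ ι) heff)⁻¹ := by
    obtain ⟨θ⟩ := hM
    rw [eq_inv_iff_mul_eq_one, ← hidc, mk_mul_mk, mk_eq_one_iff]
    exact ⟨θ⟩
  have hLL : PicF.IsInvertible (CohB1.tensorMod L (CohB1.tensorPow M a)) :=
    isInvertible_tensorMod hL.1 (isInvertible_tensorPow hMinv a)
  have hLLc : mk (CohB1.tensorMod L (CohB1.tensorPow M a)) hLL = mk L hL.1 * (idc (e.hom ≫ ι) heff)⁻¹ ^ a := by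
    rw [← mk_mul_mk hL.1 (isInvertible_tensorPow hMinv a), mk_tensorPow hMinv a, hMc]
  have hdeg : pull ι (mk (CohB1.tensorMod L (CohB1.tensorPow M a)) hLL) = 1 := by
    apply PicLocal.pull_injective_of_isIso e.hom
    rw [← pull_comp, map_one, hLLc, map_mul, map_pow, map_inv, hLa, hI, ← o_neg, o_pow, ← o_add, ← o_zero]
    congr 1; ring
  have hprop : IsProper (φ ≫ CohB1.ProjSpace.toSpec r R) := by rw [hφ]; infer_instance
  have hφp : IsProper φ := IsProper.of_comp φ (CohB1.ProjSpace.toSpec r R)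
  have hrange : Set.range (e.hom ≫ ι) = Set.range ι := by
    ext x
    constructor
    · rintro ⟨z, rfl⟩
      exact ⟨e.hom z, (Scheme.Hom.comp_apply _ _ _).symm⟩
    · rintro ⟨z, rfl⟩
      obtain ⟨w, rfl⟩ := e.hom.homeomorph.surjective z
      exact ⟨w, Scheme.Hom.comp_apply _ _ _⟩
  obtain ⟨z⟩ : Nonempty E := hEi.nonempty
  have hP : IsProper (CohB1.ProjSpace.toSpec r R) := Groth.Agent.Ega3B.ProjProper.isProper_toSpec r R
  have hNoe : IsNoetherian (CohB1.ProjSpace r R) := by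
    have h1 : IsLocallyNoetherian (CohB1.ProjSpace r R) :=
      LocallyOfFiniteType.isLocallyNoetherian (CohB1.ProjSpace.toSpec r R)
    have h2 : CompactSpace (CohB1.ProjSpace r R) :=
      QuasiCompact.compactSpace_of_compactSpace (CohB1.ProjSpace.toSpec r R)
    exact { }
  obtain ⟨hcontr, hfin, -⟩ := ContrThm.stein φ ι hE (φ (ι z)) (fun v => by
      obtain ⟨z', rfl⟩ := e.hom.homeomorph.surjective z
      obtain ⟨v', rfl⟩ := e.hom.homeomorph.surjective v
      have := hconst v' z'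
      rw [Scheme.Hom.comp_apply, Scheme.Hom.comp_apply] at this
      exact this) (fun x hx => hqf x (by rwa [hrange]))
  obtain ⟨L', hL', ⟨θ⟩⟩ := PicContr.exists_descent ι φ.toNormalization hE hcontr _ hLL hdeg
  have hg : IsProper (φ.fromNormalization ≫ CohB1.ProjSpace.toSpec r R) :=
    MorphismProperty.comp_mem (W := @IsProper) _ _ inferInstance inferInstance
  refine ⟨φ.normalization, φ.toNormalization, φ.fromNormalization ≫ CohB1.ProjSpace.toSpec r R, hcontr, ?_, hg,
    a, L', ?_, ⟨θ⟩⟩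
  · rw [← Category.assoc, Scheme.Hom.toNormalization_fromNormalization, hφ]
  · have hsep : φ.normalization.IsSeparated := by
      refine ⟨?_⟩
      rw [← terminal.comp_from (φ.fromNormalization ≫ CohB1.ProjSpace.toSpec r R)]
      infer_instance
    have hcpt : CompactSpace φ.normalization :=
      QuasiCompact.compactSpace_of_compactSpace (φ.fromNormalization ≫ CohB1.ProjSpace.toSpec r R)
    rw [Groth.Agent.S2327.result φ.normalization L' hL' N hN]
    have hO := Groth.Agent.VarietyA.AmpleField.isAmple_twistProjSpace r R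
    have hamp : CohB1.IsAmple ((Scheme.Modules.pullback φ.fromNormalization).obj (Twist.twistProjSpace r R 1)) :=
      Groth.Agent.CohqB.AmpCocycle.isAmple_pullback φ.fromNormalization hO
    have h1 : pull φ.fromNormalization (mk (Twist.twistProjSpace r R 1) hO.1) = mk L' hL' ^ N := by
      apply PicDesc.pull_injective (PicContr.bijective_app ι φ.toNormalization hcontr)
      rw [← pull_comp, Scheme.Hom.toNormalization_fromNormalization, hpull, map_pow, ← hLLc, pull_mk,
        mk_congr θ]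
    rw [← mk_tensorPow hL' N, pull_mk, mk_eq_iff] at h1
    obtain ⟨ψ⟩ := h1
    exact Groth.Agent.CohqB.AmpCocycle.isAmple_of_iso ψ hamp

end K373.ContrAmple
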