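import Groth.Agent.Divis.BlowChart2
import Groth.Agent.Ega1.IdealGen
import Groth.Agent.Fdesc.LocGenGlue

/-!
# Charts of pulled back ideals (helper373)

* `chart_preimage`: the chart of `f = h ≫ β` is the preimage of the chart of `β`.
* `genLocus_eq_chart`: the locus where a section of the exceptional ideal generates is the chart.
-/

set_option autoImplicit false
set_option backward.isDefEq.respectTransparency false
universe u

open CategoryTheory CategoryTheory.Limits AlgebraicGeometry Opposite TopologicalSpace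

namespace K373.ChartPre

open Groth.Agent.Fdesc.LocGen Groth.Agent.PerfA.IdealModule Groth.Agent.Divis.EffCartier
open Groth.Agent.Ega1.IdealGen Groth.Agent.Divis.BlowChart2 Groth.Agent.Divis.IdealComap

variable {W B Y : Scheme.{u}} {J : Y.IdealSheafData} {U : Y.affineOpens} {f : W ⟶ Y} {β : B ⟶ Y} {h : W ⟶ B}

theorem ideal_comap_eq (hh : h ≫ β = f) (a : Γ(Y, U.1)) {T : B.affineOpens} (e : T.1 ≤ β ⁻¹ᵁ U.1)
    (hT : (J.comap β).ideal T = Ideal.span {(β.appLE U.1 T.1 e).hom a}) {A : W.affineOpens}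
    (hA : A.1 ≤ h ⁻¹ᵁ T.1) (e' : A.1 ≤ f ⁻¹ᵁ U.1) :
    (J.comap f).ideal A = Ideal.span {(f.appLE U.1 A.1 e').hom a} := by
  subst hh
  rw [Scheme.IdealSheafData.comap_comp, ideal_comap (J.comap β) h T A hA, hT, Ideal.map_span,
    Set.image_singleton]
  have h1 : β.appLE U.1 T.1 e ≫ h.appLE T.1 A.1 hA = (h ≫ β).appLE U.1 A.1 e' := by
    rw [Scheme.Hom.appLE_comp_appLE]
  rw [← h1]
  rfl

theorem chart_preimage (hβ : BlowUp.IsEffCartierIdeal (J.comap β)) (hf : BlowUp.IsEffCartierIdeal (J.comap f))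
    (hh : h ≫ β = f) (a : Γ(Y, U.1)) (ha : a ∈ J.ideal U) : h ⁻¹ᵁ chart β J U a = chart f J U a := by
  apply le_antisymm
  · intro x hx
    obtain ⟨T, e, hxT, hT⟩ := (mem_chart_iff β J U a (h x)).1 hx
    obtain ⟨A, hxA, hA⟩ := exists_affine (V := h ⁻¹ᵁ T.1) (x := x) hxT
    have e' : A.1 ≤ f ⁻¹ᵁ U.1 := by
      rw [← hh]
      exact hA.trans (h.preimage_mono e)
    exact (mem_chart_iff f J U a x).2 ⟨A, e', hxA, ideal_comap_eq hh a e hT hA e'⟩
  · intro x hx
    obtain ⟨A₀, e₀, hxA₀, hA₀⟩ := (mem_chart_iff f J U a x).1 hx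
    have hxU : h x ∈ β ⁻¹ᵁ U.1 := by
      have h1 : x ∈ f ⁻¹ᵁ U.1 := e₀ hxA₀
      rw [← hh] at h1
      exact h1
    obtain ⟨w, hw, hxw⟩ := exists_mem_chart_of_span β J U hβ (s := (J.ideal U : Set Γ(Y, U.1)))
      (Ideal.span_eq _).symm (h x) hxU
    obtain ⟨T, e, hxT, hT⟩ := (mem_chart_iff β J U w (h x)).1 hxw
    have haT : (β.appLE U.1 T.1 e).hom a ∈ (J.comap β).ideal T := by
      rw [ideal_comap J β U T e]
      exact Ideal.mem_map_of_mem _ ha
    rw [hT, Ideal.mem_span_singleton'] at haT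
    obtain ⟨σ, hσ⟩ := haT
    obtain ⟨A, hxA, hA⟩ := exists_affine (V := A₀.1 ⊓ h ⁻¹ᵁ T.1) (x := x) ⟨hxA₀, hxT⟩
    have e' : A.1 ≤ f ⁻¹ᵁ U.1 := (hA.trans inf_le_left).trans e₀
    have hAT : A.1 ≤ h ⁻¹ᵁ T.1 := hA.trans inf_le_right
    have h1 : (J.comap f).ideal A = Ideal.span {(f.appLE U.1 A.1 e').hom w} := ideal_comap_eq hh w e hT hAT e'
    have h2 : (J.comap f).ideal A = Ideal.span {(f.appLE U.1 A.1 e').hom a} := by
      have h3 := ideal_eq_span_ores (J.comap f) (A := A₀) (B := A) (hA.trans inf_le_left) hA₀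
      rw [h3]
      congr 2
      change (f.appLE U.1 A₀.1 e₀ ≫ W.presheaf.map (homOfLE _).op).hom a = _
      rw [Scheme.Hom.appLE_map]
    have hnzd := mem_nonZeroDivisors_of_ideal_eq_span hf A _ h2
    have h4 : (f.appLE U.1 A.1 e').hom w ∈ Ideal.span {(f.appLE U.1 A.1 e').hom a} := by
      rw [← h2, h1]; exact Ideal.mem_span_singleton_self _
    obtain ⟨c, hc⟩ := Ideal.mem_span_singleton'.1 h4
    have hcomp : ∀ z : Γ(Y, U.1), (f.appLE U.1 A.1 e').hom z =
        (h.appLE T.1 A.1 hAT).hom ((β.appLE U.1 T.1 e).hom z) := by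
      intro z
      subst hh
      rw [← Scheme.Hom.appLE_comp_appLE (f := h) (g := β) (e₁ := e) (e₂ := hAT)]
      rfl
    have h5 : (h.appLE T.1 A.1 hAT).hom σ * c = 1 := by
      have h6 : (f.appLE U.1 A.1 e').hom a = (h.appLE T.1 A.1 hAT).hom σ * (c * (f.appLE U.1 A.1 e').hom a) := by
        rw [hc, hcomp w, ← map_mul, hσ, ← hcomp]
      have h7 : ((h.appLE T.1 A.1 hAT).hom σ * c - 1) * (f.appLE U.1 A.1 e').hom a = 0 := by
        rw [sub_mul, one_mul, mul_assoc, ← h6, sub_self]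
      exact sub_eq_zero.1 ((mem_nonZeroDivisors_iff_right.1 hnzd) _ h7)
    have hunit : IsUnit ((h.appLE T.1 A.1 hAT).hom σ) := IsUnit.of_mul_eq_one _ h5
    have hxσ : h x ∈ B.basicOpen σ := by
      have h6 : x ∈ W.basicOpen ((h.appLE T.1 A.1 hAT).hom σ) := by
        rw [Scheme.basicOpen_of_isUnit _ hunit]
        exact hxA
      have h7 : W.basicOpen ((h.appLE T.1 A.1 hAT).hom σ) ≤ h ⁻¹ᵁ B.basicOpen σ := by
        rw [Scheme.preimage_basicOpen]
        change W.basicOpen ((W.presheaf.map (homOfLE hAT).op).hom ((h.app T.1).hom σ)) ≤ _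
        exact (Scheme.basicOpen_res _ _ _).trans_le inf_le_right
      exact h7 h6
    have hle : B.basicOpen σ ≤ T.1 := B.basicOpen_le σ
    let T' : B.affineOpens := B.affineBasicOpen σ
    have h8 : (J.comap β).ideal T' = Ideal.span {(β.appLE U.1 T'.1 (hle.trans e)).hom a} := by
      have h9 := ideal_eq_span_ores (J.comap β) (A := T) (B := T') hle hT
      have h10 : ores hle ((β.appLE U.1 T.1 e).hom a) = (β.appLE U.1 T'.1 (hle.trans e)).hom a := by
        change (β.appLE U.1 T.1 e ≫ B.presheaf.map (homOfLE _).op).hom a = _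
        rw [Scheme.Hom.appLE_map]
        rfl
      have h11 : IsUnit (ores hle σ) := RingedSpace.isUnit_res_basicOpen _ σ
      rw [h9, ← h10, ← hσ, map_mul, Ideal.span_singleton_mul_left_unit h11]
      rfl
    exact le_chart β J U a T' (hle.trans e) h8 hxσ

/-- The locus where a section of the exceptional ideal generates is the chart. -/
theorem genLocus_eq_chart (hf : BlowUp.IsEffCartierIdeal (J.comap f)) (hU : U.1 = ⊤) (a : Γ(Y, U.1))
    (t : Γ(ClSub.idealMod (J.comap f), ⊤))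
    (ht : ∀ (A : W.Opens) (e : A ≤ f ⁻¹ᵁ U.1), ores le_top (val (J.comap f) t) = (f.appLE U.1 A e).hom a) :
    CohB1.genLocus _ (homOf t) = chart f J U a := by
  ext x
  rw [SetLike.mem_coe, SetLike.mem_coe, mem_genLocus_iff, mem_chart_iff]
  have hall : ∀ A : W.Opens, A ≤ f ⁻¹ᵁ U.1 := fun A => by rw [hU]; exact le_top
  constructor
  · rintro ⟨V, hxV, hV⟩
    obtain ⟨A, hxA, hA⟩ := exists_affine (V := V) (x := x) hxV
    rw [sec_homOf] at hV
    have h1 : IsGen (res _ (le_top : A.1 ≤ ⊤) t) := by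
      have := hV.res hA
      rwa [res_res] at this
    refine ⟨A, hall _, hxA, ?_⟩
    rw [span_of_isGen _ h1, val_res', ht A.1 (hall _)]
  · rintro ⟨A, e, hxA, hA⟩
    refine ⟨A.1, hxA, ?_⟩
    rw [sec_homOf]
    have hv : val (J.comap f) (res _ (le_top : A.1 ≤ ⊤) t) = (f.appLE U.1 A.1 e).hom a := by
      rw [val_res', ht A.1 e]
    apply isGen_of_span
    · rw [hv, hA]
    · rw [hv]
      exact mem_nonZeroDivisors_of_ideal_eq_span hf A _ hA

end K373.ChartPre
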