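import Groth.Agent.Dix.CastLift
import Groth.Agent.S0051
import Groth.Agent.S2329
import Groth.Agent.Ega1.AmpFamBlow
import Mathlib.AlgebraicGeometry.Noetherian

/-!
# The Picard group near a curve with conormal sheaf `O(1)` (helper373)

* `exists_V1_mul`: Serre vanishing for classes.
* `V1_of_deg`: if the ideal of `E` is ample (up to powers), classes of degree `≥ -1` on `E` have no `H^1`.
* `exists_pull_eq_one`: classes trivial on `E` are trivial near `E`.
-/

set_option autoImplicit false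
set_option backward.isDefEq.respectTransparency false
universe u

open CategoryTheory CategoryTheory.Limits AlgebraicGeometry TopologicalSpace Opposite

namespace K373.PicLoc

open Groth.Agent.Fdesc.LocGen Groth.Agent.Grpsch.PicGrp Groth.Agent.Dix.CastPic Groth.Agent.Dix.CastLift
open Groth.Agent.Dix

/-- Serre vanishing for classes. -/
theorem exists_V1_mul {R : Type u} [CommRing R] [IsNoetherianRing R] {X : Scheme.{u}}
    (p : X ⟶ Spec (CommRingCat.of R)) [IsProper p] {A : X.Modules} (hA : CohB1.IsAmple A) (c : Pic X) :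
    ∃ n₀ : ℕ, ∀ n, n₀ ≤ n → V1 (c * mk A hA.1 ^ n) := by
  have hX : IsLocallyNoetherian X := LocallyOfFiniteType.isLocallyNoetherian p
  obtain ⟨L, hL, rfl⟩ := exists_mk c
  obtain ⟨n₀, h⟩ := (Groth.Agent.S0051.result R X p A hA.1).1 hA L (Groth.Agent.S2329.isCoh_of_isInvertible hL)
  refine ⟨n₀, fun n hn => ?_⟩
  have h1 := h n hn 1 one_pos
  have h2 := (V1_mk (isInvertible_tensorMod hL (isInvertible_tensorPow hA.1 n))).2 h1
  rwa [← mk_mul_mk hL (isInvertible_tensorPow hA.1 n), mk_tensorPow] at h2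

section

variable {k : Type u} [Field k] {W : Scheme.{u}} (ι : CohB1.ProjSpace 1 k ⟶ W) [IsClosedImmersion ι]
  (heff : BlowUp.IsEffCartierIdeal ι.ker)

theorem V1_desc (hI : pull ι (idc ι heff) = o k 1) (c : Pic W) (m : ℤ) (hm : -1 ≤ m) (hc : pull ι c = o k m)
    (j : ℕ) (h : V1 (c * idc ι heff ^ j)) : V1 c := by
  induction j with
  | zero => rwa [pow_zero, mul_one] at h
  | succ j ih =>
    apply ih
    refine V1_step ι heff _ (m + j) (by omega) ?_ (by rwa [pow_succ, ← mul_assoc] at h)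
    rw [map_mul, map_pow, hI, hc, o_pow, ← o_add, mul_one]

/-- Classes of degree at least `-1` on `E` have no `H^1` if the ideal of `E` is ample (up to powers). -/
theorem V1_of_deg {R : Type u} [CommRing R] [IsNoetherianRing R]
    (p : W ⟶ Spec (CommRingCat.of R)) [IsProper p] (hI : pull ι (idc ι heff) = o k 1)
    {A : W.Modules} (hA : CohB1.IsAmple A) (n h : ℕ) (hn : 1 ≤ n) (hrel : mk A hA.1 ^ n = idc ι heff ^ h)
    (c : Pic W) (m : ℤ) (hm : -1 ≤ m) (hc : pull ι c = o k m) : V1 c := by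
  obtain ⟨n₀, hn₀⟩ := exists_V1_mul p hA c
  refine V1_desc ι heff hI c m hm hc (h * n₀) ?_
  rw [pow_mul, ← hrel, ← pow_mul]
  exact hn₀ _ (Nat.le_mul_of_pos_left _ hn)

theorem pull_eq_one_of_le_genLocus {X : Scheme.{u}} {L : X.Modules} (hL : PicF.IsInvertible L)
    (t : Coh.structureModule X ⟶ L) (G : X.Opens) (h : G ≤ CohB1.genLocus L t) : pull G.ι (mk L hL) = 1 := by
  rw [pull_mk, mk_eq_one_iff]
  have hg : CohB1.genLocus _ (pullHom G.ι t) = ⊤ := by
    rw [Groth.Agent.Ega1.AmpFam.genLocus_pullHom _ hL, eq_top_iff]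
    rintro x -
    exact h x.2
  have h1 := isGen_sec_genLocus (pullHom G.ι t)
  rw [hg] at h1
  have h2 : IsIso (pullHom G.ι t) := (isIso_iff_isGen _).2 h1
  exact ⟨(asIso (pullHom G.ι t)).symm⟩

/-- Classes which are trivial on `E` are trivial in a neighbourhood of `E`. -/
theorem exists_pull_eq_one {Y : Scheme.{u}} [IsAffine Y] [IsLocallyNoetherian Y] (f : W ⟶ Y) [IsProper f]
    (hI : pull ι (idc ι heff) = o k 1)
    {A : W.Modules} (hA : CohB1.IsAmple A) (n h : ℕ) (hn : 1 ≤ n) (hrel : mk A hA.1 ^ n = idc ι heff ^ h)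
    (y : Y) (hE : ∀ w, f w = y → w ∈ Set.range ι) (c : Pic W) (hc : pull ι c = 1) :
    ∃ V : Y.Opens, IsAffineOpen V ∧ y ∈ V ∧ pull (f ⁻¹ᵁ V).ι c = 1 := by
  obtain ⟨L, hL, rfl⟩ := exists_mk c
  have hnoe : IsNoetherianRing Γ(Y, ⊤) := IsLocallyNoetherian.component_noetherian ⟨⊤, isAffineOpen_top Y⟩
  let p : W ⟶ Spec (CommRingCat.of Γ(Y, ⊤)) := f ≫ Y.isoSpec.hom
  have hp : IsProper p := inferInstanceAs (IsProper (f ≫ Y.isoSpec.hom))
  have hV : V1 (mk L hL * idc ι heff) := by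
    refine V1_of_deg ι heff p hI hA n h hn hrel _ 1 (by norm_num) ?_
    rw [map_mul, hc, one_mul, hI]
  obtain ⟨t, ht⟩ := exists_gen ι heff L hL hV hc
  obtain ⟨V, hV, hyV, -, hle⟩ : ∃ Y₁ : Y.Opens, IsAffineOpen Y₁ ∧ y ∈ Y₁ ∧ Y₁ ≤ ⊤ ∧
      f ⁻¹ᵁ Y₁ ≤ CohB1.genLocus L t := by
    have hcl : IsClosed (f '' (CohB1.genLocus L t : Set W)ᶜ) :=
      f.isClosedMap _ (CohB1.genLocus L t).isOpen.isClosed_compl
    let U : Y.Opens := ⟨(f '' (CohB1.genLocus L t : Set W)ᶜ)ᶜ, hcl.isOpen_compl⟩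
    have hy : y ∈ U := by
      rintro ⟨x, hx, hxy⟩
      exact hx (ht (hE x hxy))
    obtain ⟨Y₁, hY₁, hyY₁, hle⟩ := exists_isAffineOpen_mem_and_subset (U := U) (x := y) hy
    refine ⟨Y₁, hY₁, hyY₁, le_top, ?_⟩
    intro x hx
    by_contra hxG
    exact (hle hx) ⟨x, hxG, rfl⟩
  exact ⟨V, hV, hyV, pull_eq_one_of_le_genLocus hL t _ hle⟩

end

end K373.PicLoc
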