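import Groth.Agent.Resolve.K373.GenRing
import Groth.Agent.Resolve.K373.ChartPre
import Groth.Agent.Resolve.K373.PicLoc
import Groth.Agent.Resolve.K372.Contr
import Groth.Agent.Sga5.AmpleFib
import Groth.Agent.Ega2.AmpleUnit
import Groth.Agent.Dix.SteinNorm
import Groth.Agent.Flat2C.BlowExist

/-!
# A criterion for a proper morphism to be a blow-up (helper373)

`isIso_of_affine`: `f : W ⟶ Y` proper, `Y` affine, `Γ(Y, O) → Γ(W, O)` surjective, `J = (u, v)` an ideal whose inverse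
image `I` on `W` is effective Cartier and ample, `H^1(W, I^j) = 0` for `j ≥ -1`.  Then the comparison with the blow-up
of `J` is an isomorphism as soon as it is one over the complement of the exceptional divisor.
-/

set_option autoImplicit false
set_option backward.isDefEq.respectTransparency false
universe u

open CategoryTheory CategoryTheory.Limits AlgebraicGeometry Opposite TopologicalSpace

namespace K373.BlowCrit

open Groth.Agent.Fdesc.LocGen Groth.Agent.PerfA.IdealModule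
open Groth.Agent.Ega1.IdealGen Groth.Agent.Divis.BlowChart2 Groth.Agent.Divis.IdealComap
open Groth.Agent.Grpsch.PicGrp Groth.Agent.Dix Groth.Agent.Dix.CastPic ChartPre

theorem app_injective {W B : Scheme.{u}} {D : B.IdealSheafData} (hE : BlowUp.IsEffCartierIdeal D) (h : W ⟶ B)
    (hiso : IsIso (h ∣_ D.support.compl)) (Z : B.Opens) : Function.Injective (h.app Z).hom := by
  rw [injective_iff_map_eq_zero]
  intro c hc
  have h1 := K372.Contr.res_injective_of_isEff hE (W := Z) (W' := Z ⊓ D.support.compl) inf_le_left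
    (fun x hx hn => ⟨hx, hn⟩)
  rw [injective_iff_map_eq_zero] at h1
  apply h1
  have h2 : IsIso (h.app (Z ⊓ D.support.compl)) :=
    Groth.Agent.Dix.Descend515.isIso_app_of_le h D.support.compl hiso _ inf_le_right
  have h3 : Function.Bijective (h.app (Z ⊓ D.support.compl)).hom :=
    (ConcreteCategory.isIso_iff_bijective (h.app (Z ⊓ D.support.compl))).mp h2
  apply h3.1
  rw [map_zero]
  have h4 := congrArg (fun k => k.hom c)
    (Scheme.Hom.naturality h (homOfLE (inf_le_left : Z ⊓ D.support.compl ≤ Z)).op)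
  refine Eq.trans h4 ?_
  change (W.presheaf.map _).hom ((h.app Z).hom c) = 0
  rw [hc, map_zero]

section

variable {Y W B : Scheme.{u}} [IsAffine Y] {J : Y.IdealSheafData} (f : W ⟶ Y)

theorem exists_section (a : Γ(Y, ⊤)) (ha : a ∈ J.ideal ⟨⊤, isAffineOpen_top Y⟩) :
    ∃ t : Γ(ClSub.idealMod (J.comap f), ⊤), val (J.comap f) t = f.appTop.hom a := by
  refine exists_val_eq_of_forall (J.comap f) (V := ⊤) (f.appTop.hom a) fun A hA => ?_
  rw [ideal_comap J f ⟨⊤, isAffineOpen_top Y⟩ A le_top]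
  exact Ideal.mem_map_of_mem (f.appLE ⊤ A.1 le_top).hom ha

omit [IsAffine Y] in
theorem ores_val (a : Γ(Y, ⊤)) (t : Γ(ClSub.idealMod (J.comap f), ⊤))
    (ht : val (J.comap f) t = f.appTop.hom a) (A : W.Opens) (e : A ≤ f ⁻¹ᵁ ⊤) :
    ores le_top (val (J.comap f) t) = (f.appLE ⊤ A e).hom a := by
  rw [ht]; rfl

omit [IsAffine Y] in
theorem app_appLE {β : B ⟶ Y} {h : W ⟶ B} {f : W ⟶ Y} (hh : h ≫ β = f) (T : B.Opens) (U : Y.Opens)
    (heT : T ≤ β ⁻¹ᵁ U) (heW : h ⁻¹ᵁ T ≤ f ⁻¹ᵁ U) (z : Γ(Y, U)) :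
    (f.appLE U (h ⁻¹ᵁ T) heW).hom z = (h.app T).hom ((β.appLE U T heT).hom z) := by
  subst hh
  rw [← Scheme.Hom.appLE_comp_appLE (f := h) (g := β) (e₁ := heT) (e₂ := le_rfl), ← Scheme.Hom.app_eq_appLE]
  rfl

variable [IsProper f] (hf : Function.Surjective f.appTop.hom) (hWJ : BlowUp.IsEffCartierIdeal (J.comap f))
  (β : B ⟶ Y) (hβ : BlowUp.IsBlowUp β J) (h : W ⟶ B) (hh : h ≫ β = f)
  (hiso : IsIso (h ∣_ (J.comap β).support.compl))
  (hV : ∀ n : ℕ, V1 (mk _ ((IdealModCartier.isInvertible_idealMod_iff (J.comap f)).2 hWJ) ^ n *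
    (mk _ ((IdealModCartier.isInvertible_idealMod_iff (J.comap f)).2 hWJ))⁻¹))

include hf hh hV in
theorem surjective_aux (u v : Γ(Y, ⊤)) (hv : v ∈ J.ideal ⟨⊤, isAffineOpen_top Y⟩)
    (tu tv : Γ(ClSub.idealMod (J.comap f), ⊤)) (htu : val (J.comap f) tu = f.appTop.hom u)
    (htv : val (J.comap f) tv = f.appTop.hom v)
    (hgen : CohB1.genLocus _ (homOf tu) ⊔ CohB1.genLocus _ (homOf tv) = ⊤)
    (T : B.Opens) (hT : IsAffineOpen T) (heT : T ≤ β ⁻¹ᵁ (⊤ : Y.Opens))
    (hideal : (J.comap β).ideal ⟨T, hT⟩ = Ideal.span {(β.appLE ⊤ T heT).hom u})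
    (hG : h ⁻¹ᵁ T = CohB1.genLocus _ (homOf tu)) : Function.Surjective (h.app T).hom := by
  intro g
  have hinv := (IdealModCartier.isInvertible_idealMod_iff (J.comap f)).2 hWJ
  have heW : h ⁻¹ᵁ T ≤ f ⁻¹ᵁ (⊤ : Y.Opens) := le_top
  have hcompat := app_appLE hh T ⊤ heT heW
  have hvT : (β.appLE ⊤ T heT).hom v ∈ (J.comap β).ideal ⟨T, hT⟩ := by
    rw [ideal_comap J β ⟨⊤, isAffineOpen_top Y⟩ ⟨T, hT⟩ heT]
    exact Ideal.mem_map_of_mem _ hv
  rw [hideal, Ideal.mem_span_singleton'] at hvT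
  obtain ⟨ρ, hρ⟩ := hvT
  have hW1 : CompactSpace W := QuasiCompact.compactSpace_of_compactSpace f
  have hW2 : QuasiSeparatedSpace W := quasiSeparatedSpace_of_quasiSeparated f
  have hρ' : res (ClSub.idealMod (J.comap f)) (le_top : h ⁻¹ᵁ T ≤ ⊤) tv =
      (h.app T).hom ρ • res _ (le_top : h ⁻¹ᵁ T ≤ ⊤) tu := by
    apply val_injective (J.comap f)
    rw [val_smul, val_res', val_res', ores_val f v tv htv _ heW, ores_val f u tu htu _ heW, hcompat, hcompat,
      ← map_mul]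
    congr 1
    exact hρ.symm
  have hS : ∀ a : Γ(W, ⊤), ores le_top a ∈ (h.app T).hom.range := by
    intro a
    obtain ⟨a₀, rfl⟩ := hf a
    exact ⟨(β.appLE ⊤ T heT).hom a₀, (hcompat a₀).symm⟩
  exact GenRing.mem_of_eq_genLocus hinv tu tv hgen hV (h ⁻¹ᵁ T) hG ((h.app T).hom ρ) hρ' (h.app T).hom.range hS
    ⟨ρ, rfl⟩ g

include hf hβ hh hiso hV in
theorem app_bijective (u v : Γ(Y, ⊤)) (hJ : J.ideal ⟨⊤, isAffineOpen_top Y⟩ = Ideal.span {u, v}) :
    Function.Bijective (h.app (chart β J ⟨⊤, isAffineOpen_top Y⟩ u)).hom := by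
  refine ⟨app_injective hβ.1 h hiso _, ?_⟩
  have hu : u ∈ J.ideal ⟨⊤, isAffineOpen_top Y⟩ := by
    rw [hJ]; exact Ideal.subset_span (Set.mem_insert _ _)
  have hv : v ∈ J.ideal ⟨⊤, isAffineOpen_top Y⟩ := by
    rw [hJ]; exact Ideal.subset_span (Set.mem_insert_of_mem _ rfl)
  obtain ⟨tu, htu⟩ := exists_section f u hu
  obtain ⟨tv, htv⟩ := exists_section f v hv
  have hgu := genLocus_eq_chart (U := ⟨⊤, isAffineOpen_top Y⟩) hWJ rfl u tu (ores_val f u tu htu)
  have hgv := genLocus_eq_chart (U := ⟨⊤, isAffineOpen_top Y⟩) hWJ rfl v tv (ores_val f v tv htv)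
  have hgen : CohB1.genLocus _ (homOf tu) ⊔ CohB1.genLocus _ (homOf tv) = ⊤ := by
    rw [eq_top_iff]
    rintro x -
    obtain ⟨a, ha, hxa⟩ := exists_mem_chart_of_span f J ⟨⊤, isAffineOpen_top Y⟩ hWJ hJ x trivial
    rcases ha with rfl | ha
    · exact Or.inl (hgu.ge hxa)
    · obtain rfl : a = v := ha
      exact Or.inr (hgv.ge hxa)
  have hT : IsAffineOpen (chart β J ⟨⊤, isAffineOpen_top Y⟩ u) := isAffineOpen_chart β J _ hβ hu
  have hG : h ⁻¹ᵁ (chart β J ⟨⊤, isAffineOpen_top Y⟩ u) = CohB1.genLocus _ (homOf tu) := by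
    rw [hgu]
    exact chart_preimage (U := ⟨⊤, isAffineOpen_top Y⟩) hβ.1 hWJ hh u hu
  exact surjective_aux f hf hWJ β h hh hV u v hv tu tv htu htv hgen _ hT _
    (ideal_chart β J ⟨⊤, isAffineOpen_top Y⟩ u hT) hG

include hf hβ hh hiso hV in
theorem isIso_of_affine [IsProper β] (hA : CohB1.IsAmple (ClSub.idealMod (J.comap f)))
    (u v : Γ(Y, ⊤)) (hJ : J.ideal ⟨⊤, isAffineOpen_top Y⟩ = Ideal.span {u, v}) : IsIso h := by
  have hprop : IsProper h := by
    have : IsProper (h ≫ β) := hh ▸ ‹_›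
    exact IsProper.of_comp h β
  have hWs : W.IsSeparated := by
    constructor
    have h6 : IsSeparated (f ≫ terminal.from _) := inferInstance
    rwa [Subsingleton.elim (terminal.from W) (f ≫ terminal.from _)]
  have hBs : B.IsSeparated := by
    constructor
    have h6 : IsSeparated (β ≫ terminal.from _) := inferInstance
    rwa [Subsingleton.elim (terminal.from B) (β ≫ terminal.from _)]
  have hBinv := (IdealModCartier.isInvertible_idealMod_iff (J.comap β)).2 hβ.1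
  have hcc : (J.comap β).comap h = J.comap f := by
    rw [← Scheme.IdealSheafData.comap_comp, hh]
  have hfin : IsFinite h := by
    refine Groth.Agent.Sga5.AmpleFib.isFinite_of_isAmple_pullback (fun Z _ _ hZ =>
      Groth.Agent.Ega2.Weight.isQuasiAffine_of_isAmple_structureModule hZ) h hBinv ?_
    obtain ⟨e⟩ := IdealModCartier.pullback_idealMod h hβ.1 (by rw [hcc]; exact hWJ)
    refine Groth.Agent.CohqB.AmpCocycle.isAmple_of_iso e.symm ?_
    rw [hcc]
    exact hA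
  have key : ∀ u v : Γ(Y, ⊤), J.ideal ⟨⊤, isAffineOpen_top Y⟩ = Ideal.span {u, v} →
      IsIso (h ∣_ chart β J ⟨⊤, isAffineOpen_top Y⟩ u) := by
    intro u v hJ
    have hu : u ∈ J.ideal ⟨⊤, isAffineOpen_top Y⟩ := by
      rw [hJ]; exact Ideal.subset_span (Set.mem_insert _ _)
    have hT : IsAffineOpen (chart β J ⟨⊤, isAffineOpen_top Y⟩ u) := isAffineOpen_chart β J _ hβ hu
    exact SteinNorm.isIso_restrict_of_isIso_app h hT (hT.preimage h)
      ((ConcreteCategory.isIso_iff_bijective (h.app (chart β J ⟨⊤, isAffineOpen_top Y⟩ u))).mpr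
        (app_bijective f hf hWJ β hβ h hh hiso hV u v hJ))
  refine IsZariskiLocalAtTarget.of_forall_exists_morphismRestrict
    (P := MorphismProperty.isomorphisms Scheme.{u}) (f := h) ?_
  intro x
  obtain ⟨a, ha, hxa⟩ := exists_mem_chart_of_span β J ⟨⊤, isAffineOpen_top Y⟩ hβ.1 hJ x trivial
  rcases ha with rfl | ha
  · exact ⟨_, hxa, key _ v hJ⟩
  · obtain rfl : a = v := ha
    exact ⟨_, hxa, key _ u (by rw [hJ, Set.pair_comm])⟩

end

end K373.BlowCrit
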