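import Groth.Agent.Dix.ExcCurve

/-!
# The blow-up in an ideal with two generators is a closed subscheme of the projective line (helper373)
-/

set_option autoImplicit false
universe u

open CategoryTheory CategoryTheory.Limits AlgebraicGeometry Opposite TopologicalSpace Polynomial

namespace K373.BlowP1

open Groth.Agent
open Groth.Agent.Fdesc.LocGen Groth.Agent.Dix.IdealModSec Groth.Agent.Dix.IdealModCartier
open Groth.Agent.CurvesC.BlowUpCharts Groth.Agent.CurvesC.BlowUpInter Groth.Agent.CurvesC.BlowUpSec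
open Groth.Agent.CurvesC.BlowUpRegAlg Groth.Agent.Dix.ExcP1
open Groth.Agent.CurvesC.ProjMap Groth.Agent.CurvesC.ProjSpaceBasic Groth.Agent.CurvesC.ProjClosed

variable {A : Type u} [CommRing A] {I : Ideal A} {X : Scheme.{u}} {b : X ⟶ Spec (CommRingCat.of A)}
  {v : Fin 2 → A} (hv : ∀ j, Ideal.span {v j, v (Fin.rev j)} = I)

include hv in
lemma mem (j : Fin 2) : v j ∈ I := by
  rw [← hv j]; exact Ideal.subset_span (by simp)

variable (b) in
/-- The two sections of the exceptional ideal. -/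
noncomputable def ts (j : Fin 2) : Coh.structureModule X ⟶ ClSub.idealMod (excI b I) :=
  tsec (b := b) (mem hv j)

lemma genLocus_ts (j : Fin 2) : CohB1.genLocus _ (ts b hv j) = chart b I (v j) := by
  rw [ts, genLocus_tsec]

lemma iSup_genLocus_ts (hb : BlowUp.IsBlowUp b (Curv2.idealSheaf A I)) :
    ⨆ j, CohB1.genLocus _ (ts b hv j) = ⊤ := by
  rw [eq_top_iff]
  intro z _
  obtain ⟨s, hs, hz⟩ := exists_mem_chart (S := {v 0, v 1}) hb.1 (hv 0) z
  rw [Opens.mem_iSup]
  rcases hs with rfl | rfl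
  · exact ⟨0, by rw [genLocus_ts]; exact hz⟩
  · exact ⟨1, by rw [genLocus_ts]; exact hz⟩

lemma rat_ts (j : Fin 2) :
    rat _ (ts b hv) j (Fin.rev j) = X.presheaf.map (homOfLE (genLocus_ts (b := b) hv j).le).op
      (ratio b I (v j) (mem hv (Fin.rev j))) := by
  apply rat_eq
  have h1 := sec_tsec_eq (b := b) (mem hv j) (mem hv (Fin.rev j))
  have h2 := congr(res (ClSub.idealMod (excI b I)) (genLocus_ts (b := b) hv j).le $h1)
  rw [res_smul, res_sec, res_sec] at h2
  exact h2.symm

lemma locHom_surjective (hb : BlowUp.IsBlowUp b (Curv2.idealSheaf A I)) (j : Fin 2) :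
    Function.Surjective (locHom b _ (ts b hv) j) := by
  intro y
  obtain ⟨P, hP⟩ := exists_eval₂_ratio hb (hv j) (mem hv j) (mem hv (Fin.rev j))
    (X.presheaf.map (homOfLE (genLocus_ts (b := b) hv j).ge).op y)
  obtain ⟨q, hq⟩ := deh_surj j P
  refine ⟨q, ?_⟩
  have h1 : locHom b _ (ts b hv) j q = (MvPolynomial.eval₂Hom (Polynomial.C : A →+* A[X])
      (fun l => if l = j then 1 else Polynomial.X) q).eval₂ (struct b _) (rat _ (ts b hv) j (Fin.rev j)) :=
    eval₂_eq_eval₂ (struct b _) (rat _ (ts b hv) j) j (rat_self _ _ _) q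
  rw [h1, hq, rat_ts]
  have h2 := congr(X.presheaf.map (homOfLE (genLocus_ts (b := b) hv j).le).op $hP)
  rw [Groth.Agent.CurvesC.Gen.map_map_function, Groth.Agent.CurvesC.Gen.map_self_function] at h2
  rw [h2]
  symm
  refine (Polynomial.hom_eval₂ P (phi b (chart b I (v j)))
    (X.presheaf.map (homOfLE (genLocus_ts (b := b) hv j).le).op).hom _).trans ?_
  congr 1
  ext a
  exact map_struct b _ a

include hv in
/-- **The blow-up of a two-generated ideal as a closed subscheme of the projective line.** -/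
theorem exists_closedImmersion (hb : BlowUp.IsBlowUp b (Curv2.idealSheaf A I)) :
    ∃ r : X ⟶ CohB1.ProjSpace 1 A, IsClosedImmersion r ∧ r ≫ CohB1.ProjSpace.toSpec 1 A = b ∧
      Nonempty ((Scheme.Modules.pullback r).obj (Twist.twistProjSpace 1 A 1) ≅ ClSub.idealMod (excI b I)) := by
  have hs := iSup_genLocus_ts hv hb
  obtain ⟨φ, h, h1, -, -, e, -⟩ := exists_morphism b (ClSub.idealMod (excI b I)) (ts b hv) hs
  refine ⟨φ, ?_, h1, ⟨e⟩⟩
  refine isClosedImmersion_of_forall h hs (fun j => ?_) (locHom_surjective hv hb)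
  rw [genLocus_ts]
  exact isAffineOpen_chart hb (mem hv j)

/-- The kernel of a composition with an isomorphism. -/
theorem isExcCurve (A : Type u) [CommRing A] [IsRegularLocalRing A] (hA : ringKrullDim A = 2)
    (X : Scheme.{u}) (b : X ⟶ Spec (CommRingCat.of A))
    (hb : BlowUp.IsBlowUp b (Curv2.idealSheaf A (IsLocalRing.maximalIdeal A))) :
    BlowUp.IsEffCartierIdeal (BlowUp.exceptional b (Curv2.idealSheaf A (IsLocalRing.maximalIdeal A))).subschemeι.ker ∧
    ∃ (k : Type u) (_ : Field k) (e : CohB1.ProjSpace 1 k ≅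
      (BlowUp.exceptional b (Curv2.idealSheaf A (IsLocalRing.maximalIdeal A))).subscheme),
    Nonempty ((Scheme.Modules.pullback (e.hom ≫
      (BlowUp.exceptional b (Curv2.idealSheaf A (IsLocalRing.maximalIdeal A))).subschemeι)).obj
        (ClSub.idealMod (BlowUp.exceptional b (Curv2.idealSheaf A (IsLocalRing.maximalIdeal A))).subschemeι.ker) ≅
          Twist.twistProjSpace 1 k 1) := by
  set D := BlowUp.exceptional b (Curv2.idealSheaf A (IsLocalRing.maximalIdeal A)) with hD
  have hker : D.subschemeι.ker = D := Scheme.IdealSheafData.ker_subschemeι D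
  refine ⟨hker.symm ▸ hb.1, ?_⟩
  obtain ⟨e, ⟨φ⟩⟩ := Dix.ExcCurve.exists_iso_local A hA hb D.subschemeι hker
  let _ : Field (A ⧸ IsLocalRing.maximalIdeal A) := Ideal.Quotient.field _
  refine ⟨A ⧸ IsLocalRing.maximalIdeal A, inferInstance, e.symm, ⟨?_⟩⟩
  rw [hker]
  refine (Scheme.Modules.pullbackComp e.inv D.subschemeι).symm.app _ ≪≫ ?_
  refine (Scheme.Modules.pullback e.inv).mapIso φ.symm ≪≫ ?_
  refine (Scheme.Modules.pullbackComp e.inv e.hom).app _ ≪≫ ?_
  refine (Scheme.Modules.pullbackCongr e.inv_hom_id).app _ ≪≫ ?_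
  exact (Scheme.Modules.pullbackId _).app _

end K373.BlowP1
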