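import Groth.Agent.Dix.ExcCurve
import Groth.Prelude.Def_ModelsG
import Groth.Agent.Flat2C.BlowProper
import Groth.Agent.Divis.BlowUpFormal
import Groth.Agent.Sga4h.H912.P1Irr

/-!
# Blow-ups of regular closed points of codimension two as contractions (helper373)

* `exists_contractionOf`: the blow-up of a Noetherian scheme in a closed point with regular two-dimensional
  local ring is the contraction of an exceptional curve of the first kind.
* `step`: adding such a blow-up at the source of a contraction sequence.
* `contrSeq_comp`: contraction sequences compose.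
-/

set_option autoImplicit false
universe u

open CategoryTheory CategoryTheory.Limits AlgebraicGeometry
open Groth.Agent.Dix.PointIdeal

namespace K373.ContrBasic

theorem isProper_blowUp {W V : Scheme.{u}} [IsLocallyNoetherian V] {I : V.IdealSheafData} {π : W ⟶ V}
    (hπ : BlowUp.IsBlowUp π I) : IsProper π := by
  have hft : BlowUp.IsFiniteTypeIdeal I := by
    intro U
    have : IsNoetherianRing Γ(V, U.1) := IsLocallyNoetherian.component_noetherian U
    exact Ideal.fg_of_isNoetherianRing _
  exact Groth.Agent.Flat2C.BlowProper.isProper_of_isBlowUp hπ hft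

theorem isNoetherian_of_isProper {W V : Scheme.{u}} [IsNoetherian V] (π : W ⟶ V) [IsProper π] : IsNoetherian W := by
  have h2 : IsLocallyNoetherian W := LocallyOfFiniteType.isLocallyNoetherian π
  have h3 : CompactSpace W := QuasiCompact.compactSpace_of_compactSpace π
  exact { }

/-- The blow-up of a closed point with regular two-dimensional local ring contracts an exceptional curve of the
first kind. -/
theorem exists_contractionOf {W V : Scheme.{u}} [IsNoetherian V] (π : W ⟶ V) (x : V) (hx : IsClosed ({x} : Set V))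
    (hreg : IsRegularLocalRing (V.presheaf.stalk x)) (hdim : ringKrullDim (V.presheaf.stalk x) = 2)
    (hπ : BlowUp.IsBlowUp π (pt x hx)) :
    ∃ (E : Scheme.{u}) (ι : E ⟶ W), IsClosedImmersion ι ∧ Models.IsExcCurve ι ∧ Models.IsContractionOf ι π ∧
      Set.range ι = π ⁻¹' {x} := by
  obtain ⟨i, hi, hker, ⟨φ⟩⟩ := Groth.Agent.Dix.ExcCurve.exists_curve π x hx hdim hπ
  let _ : Field (V.presheaf.stalk x ⧸ IsLocalRing.maximalIdeal (V.presheaf.stalk x)) :=
    Ideal.Quotient.field _
  have hrange : Set.range i = π ⁻¹' {x} := by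
    have h1 : (i.ker.support : Set W) = Set.range i := by
      rw [Scheme.Hom.support_ker, i.isClosedEmbedding.isClosed_range.closure_eq]
    rw [← h1, hker, Scheme.IdealSheafData.support_comap, TopologicalSpace.Closeds.coe_preimage]
    congr 1
  have hprop : IsProper π := isProper_blowUp hπ
  refine ⟨_, i, hi, ⟨hker ▸ hπ.1, _, inferInstance, Iso.refl _, ⟨?_⟩⟩, ⟨inferInstance, hprop, x, hx, ?_, hreg, hdim, hπ⟩,
    hrange⟩
  · exact (Scheme.Modules.pullbackCongr (Category.id_comp i)).app _ ≪≫ φ
  · have h1 : ∀ e, (i ≫ π) e = x := by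
      intro e
      have h2 : i e ∈ Set.range i := ⟨e, rfl⟩
      rw [hrange] at h2
      exact h2
    apply Set.eq_singleton_iff_unique_mem.2
    have := Groth.Agent.Sga4h.H912.P1Irr.irreducibleSpace_projSpace 1
      (V.presheaf.stalk x ⧸ IsLocalRing.maximalIdeal (V.presheaf.stalk x))
    refine ⟨⟨genericPoint (CohB1.ProjSpace 1 (V.presheaf.stalk x ⧸ IsLocalRing.maximalIdeal (V.presheaf.stalk x))),
      h1 _⟩, ?_⟩
    rintro _ ⟨e, rfl⟩
    exact h1 e

/-- Adding the blow-up of a regular closed point of codimension two at the source. -/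
theorem step {W V X : Scheme.{u}} [IsNoetherian V] (π : W ⟶ V) (x : V) (hx : IsClosed ({x} : Set V))
    (hreg : IsRegularLocalRing (V.presheaf.stalk x)) (hdim : ringKrullDim (V.presheaf.stalk x) = 2)
    (hπ : BlowUp.IsBlowUp π (pt x hx)) (r : V ⟶ X) (hr : Models.IsContractionSeq r) :
    Models.IsContractionSeq (π ≫ r) := by
  obtain ⟨E, ι, h1, h2, h3, -⟩ := exists_contractionOf π x hx hreg hdim hπ
  exact Models.IsContractionSeq.step ι π r h1 h2 h3 hr

theorem contrSeq_id (X : Scheme.{u}) : Models.IsContractionSeq (𝟙 X) := Models.IsContractionSeq.iso (Iso.refl X)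

theorem contrSeq_of_isIso {Y X : Scheme.{u}} (b : Y ⟶ X) [IsIso b] : Models.IsContractionSeq b :=
  Models.IsContractionSeq.iso (asIso b)

theorem contrSeq_comp_iso {Y X : Scheme.{u}} {b : Y ⟶ X} (hb : Models.IsContractionSeq b) :
    ∀ {X' : Scheme.{u}} (e : X ≅ X'), Models.IsContractionSeq (b ≫ e.hom) := by
  induction hb with
  | iso e' => exact fun e => Models.IsContractionSeq.iso (e' ≪≫ e)
  | step ι b r hι hE hb hr ih =>
    intro X' e
    rw [Category.assoc]
    exact Models.IsContractionSeq.step ι b _ hι hE hb (ih e)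

/-- Precomposition of a contraction sequence with an isomorphism. -/
theorem contrSeq_iso_comp {Y X : Scheme.{u}} {b : Y ⟶ X} (hb : Models.IsContractionSeq b)
    {Y' : Scheme.{u}} (e : Y' ≅ Y) : Models.IsContractionSeq (e.hom ≫ b) := by
  cases hb with
  | iso e' => exact Models.IsContractionSeq.iso (e ≪≫ e')
  | step ι b r hι hE hb hr =>
    obtain ⟨h1, h2, y, hy, h3, h4, h5, h6⟩ := hb
    rw [← Category.assoc]
    exact step (e.hom ≫ b) y hy h4 h5 (Groth.Agent.Divis.BlowUpFormal.isBlowUp_of_iso h6 e rfl) r hr

/-- Composition of contraction sequences. -/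
theorem contrSeq_comp {Z Y : Scheme.{u}} {b : Z ⟶ Y} (hb : Models.IsContractionSeq b) :
    ∀ {X : Scheme.{u}} {c : Y ⟶ X}, Models.IsContractionSeq c → Models.IsContractionSeq (b ≫ c) := by
  induction hb with
  | iso e => exact fun hc => contrSeq_iso_comp hc e
  | step ι b r hι hE hb hr ih =>
    intro X' c hc
    rw [Category.assoc]
    exact Models.IsContractionSeq.step ι b _ hι hE hb (ih hc)

theorem contrSeq_isProper {Y X : Scheme.{u}} {c : Y ⟶ X} (hc : Models.IsContractionSeq c) : IsProper c := by
  induction hc with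
  | iso e => infer_instance
  | step ι b r hι hE hb hr ih =>
    have := hb.2.1
    infer_instance

end K373.ContrBasic
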