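import Groth.Agent.Resolve.K373.ContrBasic
import Groth.Agent.Resolve.K373.ColenAlg
import Groth.Agent.Sga7.H558.QuadBlow
import Groth.Agent.Ega4B.BlowStalk
import Groth.Agent.Dix.HasBlow

/-!
# Principalization of ideals by blowing up regular points of codimension two (helper373)

* `Inv I x`: the ideal sheaf `I` is invertible at `x`.
* `Ok I`: every point at which `I` is not invertible is closed with regular two-dimensional local ring and finite
  invertibility defect.
* `exists_principalization`: then a contraction sequence makes `I` effective Cartier and is an isomorphism over the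
  points at which `I` is invertible.
-/

set_option autoImplicit false
universe u

open CategoryTheory CategoryTheory.Limits AlgebraicGeometry IsLocalRing
open Groth.Agent Groth.Agent.Dix.PointIdeal Groth.Agent.Divis.CartierBasic Groth.Agent.Divis.CartierStalk
open K373.ColenAlg

namespace K373.Principal

variable {X Y W V : Scheme.{u}}

/-- Restriction of isomorphisms. -/
theorem isIso_restrict_of_le (f : X ⟶ Y) {U V : Y.Opens} (h : U ≤ V) (hV : IsIso (f ∣_ V)) : IsIso (f ∣_ U) := by
  have h1 : IsIso ((f ∣_ V) ∣_ (V.ι ⁻¹ᵁ U)) := inferInstance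
  have h2 := ((MorphismProperty.isomorphisms Scheme.{u}).arrow_mk_iso_iff
    (morphismRestrictRestrict f V (V.ι ⁻¹ᵁ U))).1 h1
  have h3 : V.ι ''ᵁ V.ι ⁻¹ᵁ U = U := by
    rw [Scheme.Hom.image_preimage_eq_opensRange_inf, Scheme.Opens.opensRange_ι]
    exact inf_eq_right.2 h
  exact ((MorphismProperty.isomorphisms Scheme.{u}).arrow_mk_iso_iff (morphismRestrictEq f h3)).1 h2

theorem isIso_restrict_comp (h : W ⟶ V) (g : V ⟶ X) (U : X.Opens) (h1 : IsIso (h ∣_ (g ⁻¹ᵁ U))) (h2 : IsIso (g ∣_ U)) :
    IsIso ((h ≫ g) ∣_ U) := by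
  rw [morphismRestrict_comp]
  exact IsIso.comp_isIso' h1 h2

theorem isIso_blowUp_restrict {π : W ⟶ V} {x : V} {hx : IsClosed ({x} : Set V)} (hπ : BlowUp.IsBlowUp π (pt x hx))
    (U : V.Opens) (hU : x ∉ U) : IsIso (π ∣_ U) := by
  apply Divis.BlowUpFormal.isIso_morphismRestrict_compl_support hπ U
  rw [Set.disjoint_left]
  intro z hz hz'
  rw [(mem_support_pt x hx z).1 hz'] at hz
  exact hU hz

theorem isIso_blowUp_stalkMap {π : W ⟶ V} {x : V} {hx : IsClosed ({x} : Set V)} (hπ : BlowUp.IsBlowUp π (pt x hx))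
    (w : W) (hw : π w ≠ x) : IsIso (π.stalkMap w) :=
  Dix.BirIso.isIso_stalkMap π ⟨{x}ᶜ, hx.isOpen_compl⟩ (isIso_blowUp_restrict hπ _ (fun h => h rfl)) w hw

theorem blowUp_inj {π : W ⟶ V} {x : V} {hx : IsClosed ({x} : Set V)} (hπ : BlowUp.IsBlowUp π (pt x hx))
    (w w' : W) (hw : π w ≠ x) (h : π w = π w') : w = w' :=
  Dix.BirIso.inj π ⟨{x}ᶜ, hx.isOpen_compl⟩ (isIso_blowUp_restrict hπ _ (fun h => h rfl)) w w' hw h

/-- The ideal sheaf `I` is invertible at `x`. -/
def Inv (I : X.IdealSheafData) (x : X) : Prop :=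
  ∃ g ∈ nonZeroDivisors (X.presheaf.stalk x), stalkIdeal I x = Ideal.span {g}

theorem inv_iff_cln (I : X.IdealSheafData) (x : X) : Inv I x ↔ cln (stalkIdeal I x) = 0 := (cln_eq_zero_iff _).symm

theorem isOpen_inv [IsLocallyNoetherian X] (I : X.IdealSheafData) : IsOpen {x | Inv I x} := by
  rw [isOpen_iff_forall_mem_open]
  rintro x ⟨g, hg, h⟩
  obtain ⟨U, hxU, f, hf, hU⟩ := exists_generator_of_stalkIdeal I x g hg h
  refine ⟨U.1, fun y hy => ?_, U.1.2, hxU⟩
  refine ⟨X.presheaf.germ U.1 y hy f, ?_, ?_⟩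
  · let _ := TopCat.Presheaf.algebra_section_stalk X.presheaf (⟨y, hy⟩ : U.1)
    have hloc := U.2.isLocalization_stalk ⟨y, hy⟩
    exact IsLocalization.map_nonZeroDivisors_le (U.2.primeIdealOf ⟨y, hy⟩).asIdeal.primeCompl _
      (Submonoid.mem_map_of_mem _ hf)
  · rw [stalkIdeal_eq I U hy, hU, Ideal.map_span, Set.image_singleton]

theorem inv_of_isEffCartier {I : X.IdealSheafData} (hI : BlowUp.IsEffCartierIdeal I) (x : X) : Inv I x :=
  exists_stalkIdeal_eq_span hI x

theorem isEffCartier_of_inv [IsLocallyNoetherian X] {I : X.IdealSheafData} (h : ∀ x, Inv I x) :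
    BlowUp.IsEffCartierIdeal I := (isEffCartierIdeal_iff_stalkIdeal I).2 h

/-- Every point at which `I` is not invertible is closed with regular two-dimensional local ring and finite
invertibility defect. -/
structure Ok (I : X.IdealSheafData) : Prop where
  closed : ∀ x, ¬ Inv I x → IsClosed ({x} : Set X)
  reg : ∀ x, ¬ Inv I x → IsRegularLocalRing (X.presheaf.stalk x)
  dim : ∀ x, ¬ Inv I x → ringKrullDim (X.presheaf.stalk x) = 2
  fin : ∀ x, ¬ Inv I x → cln (stalkIdeal I x) ≠ ⊤

theorem Ok.finite [IsNoetherian X] {I : X.IdealSheafData} (h : Ok I) : {x | ¬ Inv I x}.Finite :=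
  Dix.BlowIrr.finite_of_closedPoints _ (isOpen_inv I).isClosed_compl fun x hx => h.closed x hx

section blow

variable {π : W ⟶ V} {x : V} {hx : IsClosed ({x} : Set V)} (hπ : BlowUp.IsBlowUp π (pt x hx))

include hπ in
theorem cln_off (I : V.IdealSheafData) (w : W) (hw : π w ≠ x) :
    cln (stalkIdeal (I.comap π) w) = cln (stalkIdeal I (π w)) := by
  have := isIso_blowUp_stalkMap hπ w hw
  rw [stalkIdeal_comap]
  exact cln_equiv (asIso (π.stalkMap w)).commRingCatIsoToRingEquiv (stalkIdeal I (π w))

include hπ in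
theorem inv_off (I : V.IdealSheafData) (w : W) (hw : π w ≠ x) : Inv (I.comap π) w ↔ Inv I (π w) := by
  rw [inv_iff_cln, inv_iff_cln, cln_off hπ I w hw]

include hπ in
theorem cln_over (I : V.IdealSheafData) (hreg : IsRegularLocalRing (V.presheaf.stalk x))
    (hdim : ringKrullDim (V.presheaf.stalk x) = 2) (h0 : ¬ Inv I x) (hfin : cln (stalkIdeal I x) ≠ ⊤)
    (w : W) (hw : π w = x) : cln (stalkIdeal (I.comap π) w) < cln (stalkIdeal I x) := by
  subst hw
  have hs : stalkIdeal (pt (π w) hx) (π w) = maximalIdeal (V.presheaf.stalk (π w)) := stalkIdeal_pt (π w) hx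
  have hdom := CalgA.RegBasic.isDomain (V.presheaf.stalk (π w))
  have hq := Sga7.H558.QuadBlow.isQuad_stalkMap hπ w rfl
  have hregw := Sga7.H558.QuadBlow.isRegularLocalRing_stalk hπ hdim w rfl
  have hdomw := CalgA.RegBasic.isDomain (W.presheaf.stalk w)
  rw [stalkIdeal_comap]
  refine cln_lt hdim (π.stalkMap w).hom hq.1 ?_ ?_ (fun h => h0 ((inv_iff_cln I _).2 h)) hfin
  · rw [← hs]
    exact Ega4B.BlowStalk.exists_map_eq_span hπ w
  · intro c
    rw [← hs]
    exact Ega4B.BlowStalk.exists_frac hπ w c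

/-- A finite-defect ideal of a two-dimensional regular local ring is nonzero. -/
theorem ne_bot_of_cln {A : Type u} [CommRing A] [IsRegularLocalRing A] (hA : ringKrullDim A = 2) {I : Ideal A}
    (h : cln I ≠ ⊤) : I ≠ ⊥ := by
  rintro rfl
  have hdom := CalgA.RegBasic.isDomain A
  obtain ⟨f, J, hf, hI, hJ⟩ := exists_eq (⊥ : Ideal A)
  rw [← hJ] at h
  obtain ⟨N, hN⟩ := exists_pow_le_of_length h
  have hJ0 : J = ⊥ := by
    have h1 : Ideal.span {f} * J = ⊥ := hI.symm
    rcases Ideal.mul_eq_bot.1 h1 with h2 | h2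
    · rw [Ideal.span_singleton_eq_bot] at h2
      exact absurd h2 (nonZeroDivisors.ne_zero hf)
    · exact h2
  obtain ⟨x, y, hm, hx0, -⟩ := Ega4B.BiratReg.exists_params hA
  have hxm : x ∈ maximalIdeal A := by
    rw [hm]
    exact Ideal.subset_span (by simp)
  rw [hJ0] at hN
  exact pow_ne_zero N hx0 ((Submodule.mem_bot A).1 (hN (Ideal.pow_mem_pow hxm N)))

include hπ in
theorem over_props (I : V.IdealSheafData) (hreg : IsRegularLocalRing (V.presheaf.stalk x))
    (hdim : ringKrullDim (V.presheaf.stalk x) = 2) (hfin : cln (stalkIdeal I x) ≠ ⊤)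
    (w : W) (hw : π w = x) (hbad : ¬ Inv (I.comap π) w) :
    IsRegularLocalRing (W.presheaf.stalk w) ∧ ringKrullDim (W.presheaf.stalk w) = 2 := by
  subst hw
  have hdom := CalgA.RegBasic.isDomain (V.presheaf.stalk (π w))
  have hq := Sga7.H558.QuadBlow.isQuad_stalkMap hπ w rfl
  have hregw := Sga7.H558.QuadBlow.isRegularLocalRing_stalk hπ hdim w rfl
  have hle := Sga7.H558.QuadBlow.ringKrullDim_stalk_le hπ hdim w rfl
  refine ⟨hregw, ?_⟩
  have hne : stalkIdeal (I.comap π) w ≠ ⊥ := by
    rw [stalkIdeal_comap, Ne, Ideal.map_eq_bot_iff_of_injective hq.1]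
    exact ne_bot_of_cln hdim hfin
  rcases hle.lt_or_eq with h | h
  · exfalso
    apply hbad
    rw [inv_iff_cln]
    refine cln_eq_zero_of_dim_le_one ?_ hne
    rw [ringKrullDim_stalk_eq_coheight] at h ⊢
    have h1 : Order.coheight w < 2 := WithBot.coe_lt_coe.1 h
    exact WithBot.coe_le_coe.2 (Order.le_of_lt_add_one h1)
  · exact h

include hπ in
theorem ok_comap [IsLocallyNoetherian W] (I : V.IdealSheafData) (hI : Ok I) (hx0 : ¬ Inv I x) : Ok (I.comap π) := by
  have hreg := hI.reg x hx0
  have hdim := hI.dim x hx0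
  have hfin := hI.fin x hx0
  have hoff : ∀ w, π w ≠ x → ¬ Inv (I.comap π) w → ¬ Inv I (π w) := fun w hw h h1 => h ((inv_off hπ I w hw).2 h1)
  have hd : ∀ w, ¬ Inv (I.comap π) w → ringKrullDim (W.presheaf.stalk w) = 2 := by
    intro w hw
    by_cases h : π w = x
    · exact (over_props hπ I hreg hdim hfin w h hw).2
    · have := isIso_blowUp_stalkMap hπ w h
      rw [← hI.dim (π w) (hoff w h hw)]
      exact (ringKrullDim_eq_of_ringEquiv (asIso (π.stalkMap w)).commRingCatIsoToRingEquiv).symm
  refine ⟨fun w hw => ?_, fun w hw => ?_, hd, fun w hw => ?_⟩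
  · apply isClosed_of_closure_subset
    intro z hz
    have hwz : w ⤳ z := specializes_iff_mem_closure.mpr hz
    have hzbad : ¬ Inv (I.comap π) z := hwz.mem_closed (isOpen_inv (I.comap π)).isClosed_compl hw
    by_contra hne
    have h1 := hd w hw
    have h2 := hd z hzbad
    rw [Dix.BlowIrr.coheight_eq_two_iff] at h1 h2
    have h3 := Order.coheight_add_one_le (Dix.BlowIrr.lt_of_specializes hwz hne)
    rw [h1, h2] at h3
    exact absurd h3 (by decide)
  · by_cases h : π w = x
    · exact (over_props hπ I hreg hdim hfin w h hw).1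
    · have := isIso_blowUp_stalkMap hπ w h
      have := hI.reg (π w) (hoff w h hw)
      exact IsRegularLocalRing.of_ringEquiv (asIso (π.stalkMap w)).commRingCatIsoToRingEquiv
  · by_cases h : π w = x
    · exact ((cln_over hπ I hreg hdim hx0 hfin w h).trans_le le_top).ne
    · rw [cln_off hπ I w h]
      exact hI.fin _ (hoff w h hw)

end blow

/-- The conclusion of the principalization theorem. -/
def Concl (X : Scheme.{u}) (I : X.IdealSheafData) : Prop :=
  ∃ (X' : Scheme.{u}) (g : X' ⟶ X), Models.IsContractionSeq g ∧ BlowUp.IsEffCartierIdeal (I.comap g) ∧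
    ∀ U : X.Opens, (∀ x ∈ U, Inv I x) → IsIso (g ∣_ U)

theorem Concl.of_blowUp {π : W ⟶ V} {x : V} {hx : IsClosed ({x} : Set V)} [IsNoetherian V]
    (hπ : BlowUp.IsBlowUp π (pt x hx)) (I : V.IdealSheafData)
    (hreg : IsRegularLocalRing (V.presheaf.stalk x))
    (hdim : ringKrullDim (V.presheaf.stalk x) = 2) (hx0 : ¬ Inv I x) (h : Concl W (I.comap π)) : Concl V I := by
  obtain ⟨X', g, h1, h2, h3⟩ := h
  refine ⟨X', g ≫ π, ?_, ?_, fun U hU => ?_⟩
  · refine ContrBasic.contrSeq_comp h1 ?_
    rw [← Category.comp_id π]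
    exact ContrBasic.step π x hx hreg hdim hπ (𝟙 V) (ContrBasic.contrSeq_id V)
  · rw [Scheme.IdealSheafData.comap_comp]
    exact h2
  · have hxU : x ∉ U := fun h => hx0 (hU x h)
    refine isIso_restrict_comp g π U (h3 _ fun w hw => ?_) (isIso_blowUp_restrict hπ U hxU)
    have hwx : π w ≠ x := by
      rintro rfl
      exact hxU hw
    exact (inv_off hπ I w hwx).2 (hU _ hw)

theorem zero_ne_succ (N : ℕ) : (0 : ℕ∞) ≠ ((N + 1 : ℕ) : ℕ∞) := by
  exact_mod_cast (Nat.succ_ne_zero N).symm

/-- Principalization from a bound on the defects and a bound on the number of points attaining it. -/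
theorem main_aux (N : ℕ) :
    ∀ (X : Scheme.{u}) [IsNoetherian X] (I : X.IdealSheafData) (_ : Ok I) (_ : ∀ x, cln (stalkIdeal I x) ≤ N),
      Concl X I := by
  induction N with
  | zero =>
    intro X _ I hI hN
    refine ⟨X, 𝟙 X, ContrBasic.contrSeq_id X, ?_, fun U _ => inferInstance⟩
    rw [Scheme.IdealSheafData.comap_id]
    refine isEffCartier_of_inv fun x => ?_
    rw [inv_iff_cln]
    exact le_antisymm (by simpa using hN x) zero_le
  | succ N ih =>
    suffices H : ∀ (m : ℕ) (X : Scheme.{u}) [IsNoetherian X] (I : X.IdealSheafData) (_ : Ok I)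
        (_ : ∀ x, cln (stalkIdeal I x) ≤ (N + 1 : ℕ))
        (_ : {x | cln (stalkIdeal I x) = (N + 1 : ℕ)}.ncard ≤ m), Concl X I from
      fun X _ I hI hN => H _ X I hI hN le_rfl
    intro m
    induction m with
    | zero =>
      intro X _ I hI hN hm
      have hfin : {x | cln (stalkIdeal I x) = (N + 1 : ℕ)}.Finite := by
        refine hI.finite.subset fun x hx hg => ?_
        rw [inv_iff_cln] at hg
        rw [Set.mem_ofPred_eq, hg] at hx
        exact zero_ne_succ N hx
      have hemp := (Set.ncard_eq_zero hfin).mp (Nat.le_zero.mp hm)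
      refine ih X I hI fun x => ?_
      have h1 : cln (stalkIdeal I x) < (N + 1 : ℕ) := lt_of_le_of_ne (hN x) fun h2 => by
        have h3 : x ∈ {x | cln (stalkIdeal I x) = (N + 1 : ℕ)} := h2
        rw [hemp] at h3
        exact h3
      exact Order.le_of_lt_add_one (by exact_mod_cast h1)
    | succ m ihm =>
      intro X _ I hI hN hm
      have hfin : {x | cln (stalkIdeal I x) = (N + 1 : ℕ)}.Finite := by
        refine hI.finite.subset fun x hx hg => ?_
        rw [inv_iff_cln] at hg
        rw [Set.mem_ofPred_eq, hg] at hx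
        exact zero_ne_succ N hx
      rcases Set.eq_empty_or_nonempty {x | cln (stalkIdeal I x) = (N + 1 : ℕ)} with hemp | ⟨x, hx⟩
      · exact ihm X I hI hN (by rw [hemp, Set.ncard_empty]; exact Nat.zero_le m)
      have hbad : ¬ Inv I x := by
        rw [inv_iff_cln]
        intro h0
        rw [Set.mem_ofPred_eq, h0] at hx
        exact zero_ne_succ N hx
      have hxc := hI.closed x hbad
      have hreg := hI.reg x hbad
      have hdim := hI.dim x hbad
      obtain ⟨W, π, hπ⟩ := Flat2C.BlowExist.exists_isBlowUp (pt x hxc)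
      have hprop := ContrBasic.isProper_blowUp hπ
      have hWn := ContrBasic.isNoetherian_of_isProper π
      have hover : ∀ w, π w = x → cln (stalkIdeal (I.comap π) w) ≤ N := by
        intro w hw
        have h1 := cln_over hπ I hreg hdim hbad (hI.fin x hbad) w hw
        rw [Set.mem_ofPred_eq] at hx
        rw [hx] at h1
        exact Order.le_of_lt_add_one (by exact_mod_cast h1)
      have hoff := cln_off hπ I
      have hN' : ∀ w, cln (stalkIdeal (I.comap π) w) ≤ (N + 1 : ℕ) := by
        intro w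
        by_cases hw : π w = x
        · exact (hover w hw).trans (by exact_mod_cast Nat.le_succ N)
        · rw [hoff w hw]
          exact hN _
      have hne : ∀ w, cln (stalkIdeal (I.comap π) w) = (N + 1 : ℕ) → π w ≠ x := by
        intro w hw hwx
        have h1 := hover w hwx
        rw [hw] at h1
        have h2 : N + 1 ≤ N := by exact_mod_cast h1
        omega
      have hcard : {w | cln (stalkIdeal (I.comap π) w) = (N + 1 : ℕ)}.ncard ≤ m := by
        have h1 : {w | cln (stalkIdeal (I.comap π) w) = (N + 1 : ℕ)}.ncard ≤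
            ({y | cln (stalkIdeal I y) = (N + 1 : ℕ)} \ {x}).ncard := by
          refine Set.ncard_le_ncard_of_injOn π ?_ ?_ (hfin.subset Set.sdiff_subset)
          · intro w hw
            have h2 := hne w hw
            refine ⟨?_, h2⟩
            rw [Set.mem_ofPred_eq, ← hoff w h2]
            exact hw
          · intro w hw w' _ heq
            exact blowUp_inj hπ w w' (hne w hw) heq
        have h2 := Set.ncard_sdiff_singleton_lt_of_mem hx hfin
        omega
      exact Concl.of_blowUp hπ I hreg hdim hbad (ihm W (I.comap π) (ok_comap hπ I hI hbad) hN' hcard)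

/-- **Principalization.** -/
theorem exists_principalization (X : Scheme.{u}) [IsNoetherian X] (I : X.IdealSheafData) (hI : Ok I) : Concl X I := by
  have hfin := hI.finite
  have : ∃ N : ℕ, ∀ x, cln (stalkIdeal I x) ≤ N := by
    refine ⟨hfin.toFinset.sup fun x => (cln (stalkIdeal I x)).toNat, fun x => ?_⟩
    by_cases hx : Inv I x
    · rw [inv_iff_cln] at hx
      rw [hx]
      exact zero_le
    · rw [← ENat.natCast_toNat (hI.fin x hx)]
      exact_mod_cast Finset.le_sup (f := fun x => (cln (stalkIdeal I x)).toNat) (hfin.mem_toFinset.2 hx)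
  obtain ⟨N, hN⟩ := this
  exact main_aux N X I hI hN

end K373.Principal
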