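import Groth.Agent.Resolve.K373.ContrLocal
import Groth.Agent.Resolve.K373.Principal
import Groth.Agent.CalgB.AmpleBase
import Groth.Agent.Dix.Cast5
import Groth.Agent.Flat2C.BlowExist
import Groth.Agent.Dix.BlowIrr

/-!
# A contraction criterion on Noetherian schemes, not necessarily integral (helper373)

`criterion`: `f : X ⟶ X'` proper with `O_{X'} = f_* O_X`, an isomorphism away from the closed point `y`, with fibre
over `y` (set theoretically) a projective line with conormal sheaf `O(1)`, whose ideal is ample near it.  Then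
`O_{X',y}` is regular of dimension two and `f` is the blow-up of `y`.
-/

set_option autoImplicit false
set_option backward.isDefEq.respectTransparency false
universe u

open CategoryTheory CategoryTheory.Limits AlgebraicGeometry Opposite TopologicalSpace IsLocalRing

namespace K373.ContrCrit

open Groth.Agent.Fdesc.LocGen Groth.Agent.PerfA.IdealModule
open Groth.Agent.Grpsch.PicGrp Groth.Agent.Dix Groth.Agent.Dix.CastPic Groth.Agent.Dix.PointIdeal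
open Groth.Agent.Models.H69.Contr (compl isIso_compl)
open PicNear PicLoc

/-- Sections of the ideal generating on a smaller open subscheme. -/
theorem exists_sections_restrict {E W₁ W₂ : Scheme.{u}} (j : W₂ ⟶ W₁) [IsOpenImmersion j] (ι' : E ⟶ W₂)
    [IsClosedImmersion ι'] [IsClosedImmersion (ι' ≫ j)] (heff : BlowUp.IsEffCartierIdeal (ι' ≫ j).ker)
    (u v : Γ(ClSub.idealMod (ι' ≫ j).ker, ⊤))
    (hG : ∀ x : W₂, j x ∈ CohB1.genLocus _ (homOf u) ⊔ CohB1.genLocus _ (homOf v)) :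
    ∃ u' v' : Γ(ClSub.idealMod ι'.ker, ⊤), CohB1.genLocus _ (homOf u') ⊔ CohB1.genLocus _ (homOf v') = ⊤ := by
  obtain ⟨heff', hid⟩ := Cast5.pull_idc j ι' heff
  have hN := (IdealModCartier.isInvertible_idealMod_iff (ι' ≫ j).ker).2 heff
  rw [pull_mk, mk_eq_iff] at hid
  obtain ⟨θ⟩ := hid
  have hgl : ∀ w : Γ(ClSub.idealMod (ι' ≫ j).ker, ⊤), CohB1.genLocus _ (homOf (θ.hom.app ⊤ (pullTop j w))) =
      j ⁻¹ᵁ CohB1.genLocus _ (homOf w) := by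
    intro w
    have h3 : homOf (θ.hom.app ⊤ (pullTop j w)) = pullHom j (homOf w) ≫ θ.hom := by
      apply hom_ext_sec
      rw [sec_homOf, res_refl, sec_comp, pullHom, sec_homOf, sec_homOf, res_refl, res_refl]
    rw [h3, Groth.Agent.Ega2.SecCalc.genLocus_comp, Groth.Agent.Ega1.AmpFam.genLocus_pullHom _ hN]
  refine ⟨θ.hom.app ⊤ (pullTop j u), θ.hom.app ⊤ (pullTop j v), ?_⟩
  rw [hgl, hgl, eq_top_iff]
  rintro x -
  exact hG x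

variable {k : Type u} [Field k] {X X' : Scheme.{u}} [IsLocallyNoetherian X'] (f : X ⟶ X') [IsProper f]
  (ι : CohB1.ProjSpace 1 k ⟶ X) [IsClosedImmersion ι]
  (heff : BlowUp.IsEffCartierIdeal ι.ker) (hI : pull ι (idc ι heff) = o k 1) (y : X')
  (hE : ∀ w, f w = y ↔ w ∈ Set.range ι)

include heff hI hE in
/-- Sections generating the ideal near the curve. -/
theorem exists_pair_near (Y₁ : X'.Opens) (hY₁ : IsAffineOpen Y₁) (hyY₁ : y ∈ Y₁)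
    (hA : CohB1.IsAmple ((ClSub.idealMod ι.ker).restrict (f ⁻¹ᵁ Y₁).ι)) :
    ∃ Y₂ : X'.Opens, IsAffineOpen Y₂ ∧ y ∈ Y₂ ∧
      ∃ (ι₂ : CohB1.ProjSpace 1 k ⟶ (f ⁻¹ᵁ Y₂).toScheme) (_ : IsClosedImmersion ι₂)
        (heff₂ : BlowUp.IsEffCartierIdeal ι₂.ker),
        ι₂ ≫ (f ⁻¹ᵁ Y₂).ι = ι ∧ pull ι₂ (idc ι₂ heff₂) = o k 1 ∧ CohB1.IsAmple (ClSub.idealMod ι₂.ker) ∧
        ∃ u v : Γ(ClSub.idealMod ι₂.ker, ⊤), CohB1.genLocus _ (homOf u) ⊔ CohB1.genLocus _ (homOf v) = ⊤ := by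
  have hr : Set.range ι ⊆ (f ⁻¹ᵁ Y₁ : Set X) := by
    rintro _ ⟨e, rfl⟩
    change f (ι e) ∈ Y₁
    rw [(hE _).2 ⟨e, rfl⟩]
    exact hyY₁
  obtain ⟨ι₁, rfl, hc₁⟩ := exists_factor ι (f ⁻¹ᵁ Y₁) hr
  obtain ⟨heff₁, hid₁⟩ := Cast5.pull_idc (f ⁻¹ᵁ Y₁).ι ι₁ heff
  have hI₁ : pull ι₁ (idc ι₁ heff₁) = o k 1 := by
    have hid' : pull (f ⁻¹ᵁ Y₁).ι (idc (ι₁ ≫ (f ⁻¹ᵁ Y₁).ι) heff) = idc ι₁ heff₁ := hid₁
    rw [← hid', ← pull_comp]; exact hI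
  have hA₁ : CohB1.IsAmple (ClSub.idealMod ι₁.ker) := by
    rw [pull_mk, mk_eq_iff] at hid₁
    obtain ⟨θ⟩ := hid₁
    exact Groth.Agent.CohqB.AmpCocycle.isAmple_of_iso
      ((Scheme.Modules.restrictFunctorIsoPullback (f ⁻¹ᵁ Y₁).ι).app _ ≪≫ θ) hA
  have : IsAffine Y₁ := hY₁
  have hnoe : IsNoetherianRing Γ((Y₁ : Scheme.{u}), ⊤) :=
    IsLocallyNoetherian.component_noetherian ⟨⊤, isAffineOpen_top (Y₁ : Scheme.{u})⟩
  let p₁ : ((f ⁻¹ᵁ Y₁ : X.Opens) : Scheme.{u}) ⟶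
      Spec (CommRingCat.of Γ((Y₁ : Scheme.{u}), ⊤)) := (f ∣_ Y₁) ≫ (Y₁ : Scheme.{u}).isoSpec.hom
  have hp₁ : IsProper p₁ := inferInstanceAs (IsProper ((f ∣_ Y₁) ≫ (Y₁ : Scheme.{u}).isoSpec.hom))
  have hN₁ := (IdealModCartier.isInvertible_idealMod_iff ι₁.ker).2 heff₁
  have hV : V1 (mk (ClSub.idealMod ι₁.ker) hN₁ * idc ι₁ heff₁) := by
    refine V1_of_deg ι₁ heff₁ p₁ hI₁ hA₁ 1 1 le_rfl rfl _ 2 (by norm_num) ?_
    rw [map_mul]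
    change pull ι₁ (idc ι₁ heff₁) * _ = _
    rw [hI₁, ← o_add]
    norm_num
  obtain ⟨u, v, huv, -⟩ := CastLift.exists_pair ι₁ heff₁ _ hN₁ hV hI₁
  let G := CohB1.genLocus _ (homOf u) ⊔ CohB1.genLocus _ (homOf v)
  obtain ⟨Y₂, hY₂, hyY₂, hY₂₁, hG⟩ := exists_nhd_le f y ((f ⁻¹ᵁ Y₁).ι ''ᵁ G) (by
    intro x hx
    obtain ⟨e, rfl⟩ := (hE x).1 hx
    exact ⟨ι₁ e, huv ⟨e, rfl⟩, (Scheme.Hom.comp_apply _ _ _).symm⟩) Y₁ hyY₁
  have hle : f ⁻¹ᵁ Y₂ ≤ f ⁻¹ᵁ Y₁ := f.preimage_mono hY₂₁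
  let j : (f ⁻¹ᵁ Y₂).toScheme ⟶ (f ⁻¹ᵁ Y₁).toScheme := X.homOfLE hle
  have hj : j ≫ (f ⁻¹ᵁ Y₁).ι = (f ⁻¹ᵁ Y₂).ι := X.homOfLE_ι hle
  have hr₂ : Set.range (ι₁ ≫ (f ⁻¹ᵁ Y₁).ι) ⊆ (f ⁻¹ᵁ Y₂ : Set X) := by
    rintro _ ⟨e, rfl⟩
    change f ((ι₁ ≫ (f ⁻¹ᵁ Y₁).ι) e) ∈ Y₂
    rw [(hE _).2 ⟨e, rfl⟩]
    exact hyY₂
  obtain ⟨ι₂, hι₂, hc₂⟩ := exists_factor (ι₁ ≫ (f ⁻¹ᵁ Y₁).ι) (f ⁻¹ᵁ Y₂) hr₂
  obtain rfl : ι₂ ≫ j = ι₁ := by
    rw [← cancel_mono (f ⁻¹ᵁ Y₁).ι, Category.assoc, hj, hι₂]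
  obtain ⟨heff₂, hid₂⟩ := Cast5.pull_idc j ι₂ heff₁
  have hI₂ : pull ι₂ (idc ι₂ heff₂) = o k 1 := by
    have hid' : pull j (idc (ι₂ ≫ j) heff₁) = idc ι₂ heff₂ := hid₂
    rw [← hid', ← pull_comp]; exact hI₁
  have hW₁ : IsLocallyNoetherian (f ⁻¹ᵁ Y₁).toScheme := LocallyOfFiniteType.isLocallyNoetherian (f ∣_ Y₁)
  have hqc : QuasiCompact (f ∣_ Y₂) := inferInstance
  have hcpt : CompactSpace (f ⁻¹ᵁ Y₂).toScheme := by
    have : IsAffine Y₂ := hY₂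
    exact QuasiCompact.compactSpace_of_compactSpace (f ∣_ Y₂)
  have hA₂ : CohB1.IsAmple (ClSub.idealMod ι₂.ker) := by
    have h1 : QuasiCompact j := inferInstance
    have h2 := Groth.Agent.CalgB.AmpleBase.isAmple_pullback_of_isImmersion j hA₁
    rw [pull_mk, mk_eq_iff] at hid₂
    obtain ⟨θ⟩ := hid₂
    exact Groth.Agent.CohqB.AmpCocycle.isAmple_of_iso θ h2
  refine ⟨Y₂, hY₂, hyY₂, ι₂, hc₂, heff₂, hι₂, hI₂, hA₂, ?_⟩
  refine exists_sections_restrict j ι₂ heff₁ u v fun x => ?_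
  obtain ⟨z, hz, hzx⟩ := hG x.2
  have : j x = z := by
    apply (f ⁻¹ᵁ Y₁).ι.isOpenEmbedding.injective
    rw [← Scheme.Hom.comp_apply, hj]
    exact hzx.symm
  rw [this]
  exact hz

/-- The ideal of a closed point restricts well. -/
theorem pt_comap_ι {Y : Scheme.{u}} (y : Y) (hy : IsClosed ({y} : Set Y)) (V : Y.Opens) (hyV : y ∈ V)
    (hy' : IsClosed ({(⟨y, hyV⟩ : V)} : Set V.toScheme)) :
    (pt y hy).comap V.ι = pt (Y := V.toScheme) ⟨y, hyV⟩ hy' := by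
  apply Groth.Agent.Divis.CartierBasic.ext_stalkIdeal
  intro z
  rw [Groth.Agent.Divis.CartierStalk.stalkIdeal_comap]
  by_cases hz : z = ⟨y, hyV⟩
  · rw [BlowIrr.stalkIdeal_pt' (Y := V.toScheme) ⟨y, hyV⟩ hy' z hz, BlowIrr.stalkIdeal_pt' y hy (V.ι z) (by rw [hz]; rfl)]
    have h1 : IsIso (V.ι.stalkMap z) := inferInstance
    have e := (asIso (V.ι.stalkMap z)).commRingCatIsoToRingEquiv
    have h2 := IsLocalRing.map_ringEquiv_maximalIdeal (asIso (V.ι.stalkMap z)).commRingCatIsoToRingEquiv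
    exact h2
  · rw [BlowIrr.stalkIdeal_pt_of_ne (Y := V.toScheme) ⟨y, hyV⟩ hy' z hz, BlowIrr.stalkIdeal_pt_of_ne y hy (V.ι z)
      (fun h => hz (Subtype.ext h)), Ideal.map_top]

omit [IsLocallyNoetherian X'] [IsProper f] in
theorem inj_of_isIso (V : X'.Opens) (hV : IsIso (f ∣_ V)) (w w' : X) (hw : f w ∈ V) (h : f w = f w') : w = w' := by
  have h1 : (f ∣_ V) ⟨w, hw⟩ = (f ∣_ V) ⟨w', by change f w' ∈ V; rw [← h]; exact hw⟩ := by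
    apply V.ι.isOpenEmbedding.injective
    rw [← Scheme.Hom.comp_apply, ← Scheme.Hom.comp_apply, morphismRestrict_ι, Scheme.Hom.comp_apply,
      Scheme.Hom.comp_apply]
    exact h
  exact congrArg Subtype.val ((f ∣_ V).homeomorph.injective h1)

include heff hI hE in
/-- **The contraction criterion.** -/
theorem criterion (hf : ∀ V : X'.Opens, Function.Bijective (f.app V).hom) (hy : IsClosed ({y} : Set X'))
    (hiso : IsIso (f ∣_ compl y hy)) (Y₁ : X'.Opens) (hY₁ : IsAffineOpen Y₁) (hyY₁ : y ∈ Y₁)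
    (hA : CohB1.IsAmple ((ClSub.idealMod ι.ker).restrict (f ⁻¹ᵁ Y₁).ι)) :
    IsRegularLocalRing (X'.presheaf.stalk y) ∧ ringKrullDim (X'.presheaf.stalk y) = 2 ∧
      BlowUp.IsBlowUp f (pt y hy) := by
  obtain ⟨Y₂, hY₂, hyY₂, ι₂, hc₂, heff₂, hι₂, hI₂, hA₂, u, v, hgen⟩ :=
    exists_pair_near f ι heff hI y hE Y₁ hY₁ hyY₁ hA
  have : IsAffine Y₂ := hY₂
  have hy₂ : IsClosed ({(⟨y, hyY₂⟩ : Y₂)} : Set Y₂.toScheme) := by
    have h1 : IsClosed (Y₂.ι ⁻¹' ({y} : Set X')) := hy.preimage Y₂.ι.continuous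
    convert h1 using 1
    ext z
    constructor
    · rintro rfl; rfl
    · intro h; exact Subtype.ext h
  have hbase : ∀ w : (f ⁻¹ᵁ Y₂).toScheme, Y₂.ι ((f ∣_ Y₂) w) = f ((f ⁻¹ᵁ Y₂).ι w) := by
    intro w
    rw [← Scheme.Hom.comp_apply, ← Scheme.Hom.comp_apply, morphismRestrict_ι]
  have hE₂ : ∀ w, (f ∣_ Y₂) w = ⟨y, hyY₂⟩ ↔ w ∈ Set.range ι₂ := by
    intro w
    have h1 : (f ∣_ Y₂) w = ⟨y, hyY₂⟩ ↔ f ((f ⁻¹ᵁ Y₂).ι w) = y := by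
      rw [← hbase]
      constructor
      · intro h; rw [h]; rfl
      · intro h; exact Subtype.ext h
    rw [h1, hE, ← hι₂]
    constructor
    · rintro ⟨e, he⟩
      refine ⟨e, ?_⟩
      apply (f ⁻¹ᵁ Y₂).ι.isOpenEmbedding.injective
      rw [← he, Scheme.Hom.comp_apply]
    · rintro ⟨e, rfl⟩
      exact ⟨e, Scheme.Hom.comp_apply _ _ _⟩
  have hf₂ : ∀ V : Y₂.toScheme.Opens, Function.Bijective ((f ∣_ Y₂).app V).hom := by
    intro V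
    have h1 : IsIso (f.app (Y₂.ι ''ᵁ V)) := (ConcreteCategory.isIso_iff_bijective _).mpr (hf _)
    have h2 : IsIso ((f ∣_ Y₂).app V) := by
      rw [morphismRestrict_app]
      infer_instance
    exact (ConcreteCategory.isIso_iff_bijective _).mp h2
  have hiso₂ : IsIso ((f ∣_ Y₂) ∣_ compl (⟨y, hyY₂⟩ : Y₂) hy₂) := by
    have h1 : Y₂.ι ''ᵁ (compl (⟨y, hyY₂⟩ : Y₂) hy₂) ≤ compl y hy := by
      rintro _ ⟨z, hz, rfl⟩ h
      exact hz (Subtype.ext h)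
    have h2 := Principal.isIso_restrict_of_le f h1 hiso
    exact ((MorphismProperty.isomorphisms Scheme.{u}).arrow_mk_iso_iff
      (morphismRestrictRestrict f Y₂ (compl (⟨y, hyY₂⟩ : Y₂) hy₂))).2 h2
  have hinj₂ : ∀ w w', (f ∣_ Y₂) w ≠ ⟨y, hyY₂⟩ → (f ∣_ Y₂) w = (f ∣_ Y₂) w' → w = w' :=
    fun w w' hw hww' => inj_of_isIso (f ∣_ Y₂) (compl (⟨y, hyY₂⟩ : Y₂) hy₂) hiso₂ w w' hw hww'
  obtain ⟨au, hau⟩ := (hf₂ ⊤).2 (val ι₂.ker u)
  obtain ⟨av, hav⟩ := (hf₂ ⊤).2 (val ι₂.ker v)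
  have hreg := ContrLocal.regular (f ∣_ Y₂) hf₂ ι₂ heff₂ hI₂ ⟨y, hyY₂⟩ hy₂ hE₂ hA₂ u v hgen au av hau hav hinj₂
  have hcomap₂ := ContrLocal.comap_eq (f ∣_ Y₂) hf₂ ι₂ heff₂ hI₂ ⟨y, hyY₂⟩ hy₂ hE₂ hA₂ u v hgen au av hau hav
  have e := (Y₂.stalkIso ⟨y, hyY₂⟩).commRingCatIsoToRingEquiv
  refine ⟨?_, ?_, ?_⟩
  · have := hreg.1
    exact IsRegularLocalRing.of_ringEquiv e
  · rw [← hreg.2]
    exact (ringKrullDim_eq_of_ringEquiv e).symm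
  · have heffc : BlowUp.IsEffCartierIdeal ((pt y hy).comap f) := by
      apply Groth.Agent.Divis.EffCartier.isEff_of_forall_comap
      intro x
      by_cases hx : f x = y
      · refine ⟨(f ⁻¹ᵁ Y₂).toScheme, (f ⁻¹ᵁ Y₂).ι, inferInstance, ⟨⟨x, by change f x ∈ Y₂; rw [hx]; exact hyY₂⟩, rfl⟩, ?_⟩
        rw [← Scheme.IdealSheafData.comap_comp, ← morphismRestrict_ι, Scheme.IdealSheafData.comap_comp,
          pt_comap_ι y hy Y₂ hyY₂ hy₂, hcomap₂]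
        exact heff₂
      · refine ⟨(f ⁻¹ᵁ (compl y hy)).toScheme, (f ⁻¹ᵁ (compl y hy)).ι, inferInstance, ⟨⟨x, hx⟩, rfl⟩, ?_⟩
        have h1 : (((pt y hy).comap f).comap (f ⁻¹ᵁ (compl y hy)).ι) = ⊤ := by
          apply Groth.Agent.Divis.CartierBasic.ext_stalkIdeal
          intro z
          have hz : f ((f ⁻¹ᵁ (compl y hy)).ι z) ≠ y := z.2
          rw [Groth.Agent.Divis.CartierStalk.stalkIdeal_comap, Groth.Agent.Divis.CartierStalk.stalkIdeal_comap,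
            BlowIrr.stalkIdeal_pt_of_ne y hy _ hz, Ideal.map_top, Ideal.map_top,
            Groth.Agent.Divis.CartierBasic.stalkIdeal_top]
        rw [h1]
        exact Groth.Agent.Divis.EffCartier.isEff_top
    obtain ⟨B, β, hβ⟩ := Groth.Agent.Flat2C.BlowExist.exists_isBlowUp (pt y hy)
    obtain ⟨h, hh, -⟩ := hβ.2 X f heffc
    have key : IsIso h := by
      subst hh
      refine IsZariskiLocalAtTarget.of_forall_exists_morphismRestrict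
        (P := MorphismProperty.isomorphisms Scheme.{u}) (f := h) ?_
      intro b
      by_cases hb : β b = y
      · refine ⟨β ⁻¹ᵁ Y₂, by change β b ∈ Y₂; rw [hb]; exact hyY₂, ?_⟩
        have hβ₂ := Groth.Agent.Divis.BlowUpFormal.isBlowUp_morphismRestrict hβ Y₂
        rw [pt_comap_ι y hy Y₂ hyY₂ hy₂] at hβ₂
        exact ContrLocal.isIso_comparison ((h ≫ β) ∣_ Y₂) hf₂ ι₂ heff₂ hI₂ ⟨y, hyY₂⟩ hy₂ hE₂ hA₂ u v hgen au av
          hau hav hiso₂ (β ∣_ Y₂) hβ₂ (h ∣_ β ⁻¹ᵁ Y₂) (morphismRestrict_comp h β Y₂).symm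
      · refine ⟨β ⁻¹ᵁ (compl y hy), hb, ?_⟩
        have h1 : IsIso (β ∣_ compl y hy) := isIso_compl y hy hβ
        have h2 : h ∣_ β ⁻¹ᵁ (compl y hy) ≫ β ∣_ (compl y hy) = (h ≫ β) ∣_ (compl y hy) :=
          (morphismRestrict_comp h β _).symm
        have h3 : IsIso ((h ≫ β) ∣_ (compl y hy)) := hiso
        rw [← h2] at h3
        exact IsIso.of_isIso_comp_right _ (β ∣_ (compl y hy))
    exact Groth.Agent.Divis.BlowUpFormal.isBlowUp_of_iso hβ (asIso h) hh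

end K373.ContrCrit
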