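import Groth.Agent.Divis.CartierStalk
import Groth.Agent.Divis.BlowChart
import Groth.Agent.Ega4B.NormalLift
import Groth.Agent.Resolve.K372.Contr
import Mathlib.RingTheory.Ideal.KrullsHeightTheorem
import Mathlib.AlgebraicGeometry.Properties

/-!
# A point with a curve above it has codimension at least two (helper373)
-/

set_option autoImplicit false
universe u

open CategoryTheory CategoryTheory.Limits AlgebraicGeometry Opposite TopologicalSpace IsLocalRing

namespace K373.DimTwo

open Groth.Agent.Divis.CartierBasic Groth.Agent.Divis.CartierStalk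

theorem isEff_exists_stalk {Y : Scheme.{u}} {J : Y.IdealSheafData} (hE : BlowUp.IsEffCartierIdeal J) (y : Y) :
    ∃ e : Y.presheaf.stalk y, e ∈ nonZeroDivisors _ ∧ stalkIdeal J y = Ideal.span {e} := by
  obtain ⟨U, hyU, f, hf, hfU⟩ := hE y
  refine ⟨Y.presheaf.germ U.1 y hyU f, Groth.Agent.Divis.BlowChart.germ_mem_nonZeroDivisors U.2 hf y hyU, ?_⟩
  rw [stalkIdeal_eq J U hyU, hfU, Ideal.map_span, Set.image_singleton]

/-- In a Noetherian local ring with a principal prime `(g)`, `g` a nonzerodivisor, different from the maximal ideal,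
there is a nonzero prime not containing `g`. -/
theorem exists_prime (R : Type u) [CommRing R] [IsLocalRing R] [IsNoetherianRing R] (g : R)
    (hg : g ∈ nonZeroDivisors R) (hp : (Ideal.span {g}).IsPrime) (hne : Ideal.span {g} ≠ maximalIdeal R) :
    IsDomain R ∧ ∃ P : Ideal R, P.IsPrime ∧ P ≠ ⊥ ∧ g ∉ P := by
  have hdom : IsDomain R := Groth.Agent.Ega4B.NormalLift.isDomain_of_isPrime_span R g hg hp
  refine ⟨hdom, ?_⟩
  have hlt : Ideal.span {g} < maximalIdeal R := lt_of_le_of_ne (le_maximalIdeal hp.ne_top) hne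
  obtain ⟨t, htm, htg⟩ := SetLike.exists_of_lt hlt
  have ht0 : t ≠ 0 := by
    rintro rfl
    exact htg (zero_mem _)
  have hle : Ideal.span {t} ≤ maximalIdeal R := by
    rw [Ideal.span_singleton_le_iff_mem]; exact htm
  obtain ⟨P, hP, -⟩ := Ideal.exists_minimalPrimes_le hle
  have hPp : P.IsPrime := hP.1.1
  have htP : t ∈ P := hP.1.2 (Ideal.mem_span_singleton_self t)
  refine ⟨P, hPp, ?_, ?_⟩
  · rintro rfl
    exact ht0 (by simpa using htP)
  · intro hgP
    have h1 : P.height ≤ 1 := Ideal.height_le_one_of_isPrincipal_of_mem_minimalPrimes (Ideal.span {t}) P hP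
    have hgle : Ideal.span {g} ≤ P := by rwa [Ideal.span_singleton_le_iff_mem]
    have hg0 : g ≠ 0 := nonZeroDivisors.ne_zero hg
    have h2 : Ideal.span {g} ≠ P := by
      intro h
      exact htg (h ▸ htP)
    have h3 : (⊥ : Ideal R) < Ideal.span {g} := by
      rw [bot_lt_iff_ne_bot, Ne, Ideal.span_singleton_eq_bot]
      exact hg0
    have h4 : Ideal.span {g} < P := lt_of_le_of_ne hgle h2
    have h5 : (Ideal.span {g}).height < P.height := Ideal.height_strict_mono_of_isPrime h4
    have h6 : (⊥ : Ideal R).height < (Ideal.span {g}).height := Ideal.height_strict_mono_of_isPrime h3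
    have h7 : (Ideal.span {g}).height < 1 := lt_of_lt_of_le h5 h1
    rw [Order.lt_one_iff] at h7
    rw [h7] at h6
    exact not_lt_bot h6

theorem two_le_coheight {Y : Scheme.{u}} {a b y : Y} (h1 : a ⤳ b) (h2 : b ⤳ y) (h1' : a ≠ b) (h2' : b ≠ y) :
    2 ≤ ringKrullDim (Y.presheaf.stalk y) := by
  rw [ringKrullDim_stalk_eq_coheight]
  have hyb : y < b := lt_iff_le_not_ge.mpr ⟨h2, fun h => h2' (Specializes.antisymm h2 h).eq⟩
  have hba : b < a := lt_iff_le_not_ge.mpr ⟨h1, fun h => h1' (Specializes.antisymm h1 h).eq⟩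
  have h3 := Order.coheight_add_one_le hyb
  have h4 := Order.coheight_add_one_le hba
  have h5 : (2 : ℕ∞) ≤ Order.coheight y := by
    calc (2 : ℕ∞) = 0 + 1 + 1 := by norm_num
      _ ≤ Order.coheight a + 1 + 1 := by gcongr; exact bot_le
      _ ≤ Order.coheight b + 1 := by gcongr
      _ ≤ _ := h3
  exact (WithBot.coe_le_coe (a := (2 : ℕ∞)) (b := Order.coheight y)).mpr h5

/-- The image of an integral effective Cartier divisor of positive dimension, contracted to a point by a morphism
which is injective elsewhere, has codimension at least two. -/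
theorem two_le_dim {W Y E : Scheme.{u}} [IsLocallyNoetherian W] (f : W ⟶ Y) (ι : E ⟶ W) [IsClosedImmersion ι]
    [IsIntegral E] (heff : BlowUp.IsEffCartierIdeal ι.ker) (y : Y) (hE : ∀ w, f w = y ↔ w ∈ Set.range ι)
    (hinj : ∀ w w', f w ≠ y → f w = f w' → w = w') (e : E) (he : ¬ IsField (E.presheaf.stalk e)) :
    2 ≤ ringKrullDim (Y.presheaf.stalk y) := by
  obtain ⟨g, hg, hgI⟩ := isEff_exists_stalk heff (ι e)
  have hker := ker_stalkMap ι e
  rw [hgI] at hker
  have hsurj : Function.Surjective (ι.stalkMap e).hom := ι.stalkMap_surjective e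
  have hp : (Ideal.span {g}).IsPrime := hker ▸ RingHom.ker_isPrime (ι.stalkMap e).hom
  have hne : Ideal.span {g} ≠ maximalIdeal (W.presheaf.stalk (ι e)) := by
    intro h
    apply he
    rw [h] at hker
    have h1 : (RingHom.ker (ι.stalkMap e).hom).IsMaximal := hker ▸ inferInstance
    have h2 := RingHom.quotientKerEquivOfSurjective hsurj
    have h3 : IsField (W.presheaf.stalk (ι e) ⧸ RingHom.ker (ι.stalkMap e).hom) :=
      Ideal.Quotient.maximal_ideal_iff_isField_quotient _ |>.mp h1
    exact MulEquiv.isField h3 h2.symm.toMulEquiv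
  obtain ⟨hdom, P, hPp, hP0, hgP⟩ := exists_prime _ g hg hp hne
  let j := W.fromSpecStalk (ι e)
  let ξ : W := j ⟨P, hPp⟩
  let η : W := j ⟨⊥, Ideal.isPrime_bot⟩
  have hsupp : (ι.ker.support : Set W) = Set.range ι := by
    rw [Scheme.Hom.support_ker, ι.isClosedEmbedding.isClosed_range.closure_eq]
  have hξ : ξ ∉ Set.range ι := by
    rw [← hsupp, SetLike.mem_coe, fromSpecStalk_mem_support_iff, hgI]
    intro h
    exact hgP (h (Ideal.mem_span_singleton_self g))
  have hηξ : η ⤳ ξ := by
    have h1 : (⟨⊥, Ideal.isPrime_bot⟩ : PrimeSpectrum (W.presheaf.stalk (ι e))) ⤳ ⟨P, hPp⟩ := by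
      rw [← PrimeSpectrum.le_iff_specializes]
      exact bot_le (a := P)
    exact Specializes.map h1 j.continuous
  have hξx : ξ ⤳ ι e := by
    have h1 : ξ ∈ Set.range j := ⟨_, rfl⟩
    rw [Scheme.range_fromSpecStalk] at h1
    exact h1
  have hne' : η ≠ ξ := by
    intro h
    have h1 := j.isEmbedding.injective h
    exact hP0 (congrArg PrimeSpectrum.asIdeal h1).symm
  have hfx : f (ι e) = y := (hE _).2 ⟨e, rfl⟩
  have hfξ : f ξ ≠ y := fun h => hξ ((hE _).1 h)
  refine two_le_coheight (a := f η) (b := f ξ) (hηξ.map f.continuous) ?_ ?_ hfξ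
  · rw [← hfx]; exact hξx.map f.continuous
  · intro h
    exact hne' (hinj ξ η hfξ h.symm).symm

end K373.DimTwo
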