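import Groth.Agent.Resolve.K373.PicLocal
import Groth.Agent.Resolve.K373.PicDesc

/-!
# Classes trivial on an exceptional curve are trivial near it (helper373)
-/

set_option autoImplicit false
set_option backward.isDefEq.respectTransparency false
universe u

open CategoryTheory CategoryTheory.Limits AlgebraicGeometry TopologicalSpace Opposite

namespace K373.PicNear

open Groth.Agent.Fdesc.LocGen Groth.Agent.Grpsch.PicGrp Groth.Agent.Dix.CastPic Groth.Agent.Dix.CastLift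
open Groth.Agent.Dix PicLoc PicDesc

/-- Closedness: neighbourhoods of a fibre. -/
theorem exists_nhd_le {X Y : Scheme.{u}} (f : X ⟶ Y) [IsProper f] (y : Y) (G : X.Opens)
    (hG : ∀ x, f x = y → x ∈ G) (V : Y.Opens) (hV : y ∈ V) :
    ∃ Y₁ : Y.Opens, IsAffineOpen Y₁ ∧ y ∈ Y₁ ∧ Y₁ ≤ V ∧ f ⁻¹ᵁ Y₁ ≤ G := by
  have hc : IsClosed (f '' (G : Set X)ᶜ) := f.isClosedMap _ G.isOpen.isClosed_compl
  let U : Y.Opens := ⟨(f '' (G : Set X)ᶜ)ᶜ, hc.isOpen_compl⟩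
  have hy : y ∈ V ⊓ U := by
    refine ⟨hV, ?_⟩
    rintro ⟨x, hx, hxy⟩
    exact hx (hG x hxy)
  obtain ⟨Y₁, hY₁, hyY₁, hle⟩ := exists_isAffineOpen_mem_and_subset (U := V ⊓ U) (x := y) hy
  refine ⟨Y₁, hY₁, hyY₁, fun z hz => (hle hz).1, ?_⟩
  intro x hx
  by_contra hxG
  exact (hle hx).2 ⟨x, hxG, rfl⟩

/-- Factorization of a closed immersion through an open subscheme. -/
theorem exists_factor {E X : Scheme.{u}} (ι : E ⟶ X) [IsClosedImmersion ι] (W : X.Opens)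
    (h : Set.range ι ⊆ (W : Set X)) :
    ∃ ι' : E ⟶ (W : Scheme.{u}), ι' ≫ W.ι = ι ∧ IsClosedImmersion ι' := by
  have hW : Set.range ι ⊆ Set.range W.ι := by simpa using h
  refine ⟨IsOpenImmersion.lift W.ι ι hW, IsOpenImmersion.lift_fac _ _ _, ?_⟩
  have h1 : IsClosedImmersion (IsOpenImmersion.lift W.ι ι hW ≫ W.ι) := by
    rw [IsOpenImmersion.lift_fac]; infer_instance
  exact IsClosedImmersion.of_comp _ W.ι

variable {X Y : Scheme.{u}} [IsLocallyNoetherian Y] (f : X ⟶ Y) [IsProper f] {k : Type u} [Field k]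
  (ι : CohB1.ProjSpace 1 k ⟶ X) [IsClosedImmersion ι] (heff : BlowUp.IsEffCartierIdeal ι.ker)

/-- Classes which are trivial on `E` are trivial in a neighbourhood of `E`. -/
theorem exists_nhd (hI : pull ι (idc ι heff) = o k 1) (y : Y) (hE : ∀ w, f w = y ↔ w ∈ Set.range ι)
    (Y₁ : Y.Opens) (hY₁ : IsAffineOpen Y₁) (hyY₁ : y ∈ Y₁) {A : (f ⁻¹ᵁ Y₁).toScheme.Modules}
    (hA : CohB1.IsAmple A) (n h : ℕ) (hn : 1 ≤ n)
    (hrel : mk A hA.1 ^ n = pull (f ⁻¹ᵁ Y₁).ι (idc ι heff) ^ h) (c : Pic X) (hc : pull ι c = 1) :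
    ∃ V : Y.Opens, IsAffineOpen V ∧ y ∈ V ∧ V ≤ Y₁ ∧ pull (f ⁻¹ᵁ V).ι c = 1 := by
  have hr : Set.range ι ⊆ (f ⁻¹ᵁ Y₁ : Set X) := by
    rintro _ ⟨e, rfl⟩
    change f (ι e) ∈ Y₁
    rw [(hE _).2 ⟨e, rfl⟩]
    exact hyY₁
  obtain ⟨ι', rfl, hc'⟩ := exists_factor ι (f ⁻¹ᵁ Y₁) hr
  obtain ⟨heff', hid⟩ := Cast5.pull_idc (f ⁻¹ᵁ Y₁).ι ι' heff
  have hid' : pull (f ⁻¹ᵁ Y₁).ι (idc (ι' ≫ (f ⁻¹ᵁ Y₁).ι) heff) = idc ι' heff' := hid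
  have hI' : pull ι' (idc ι' heff') = o k 1 := by
    rw [← hid', ← pull_comp]; exact hI
  rw [hid'] at hrel
  have : IsAffine Y₁ := hY₁
  obtain ⟨V, hV, hyV, hpull⟩ := exists_pull_eq_one ι' heff' (f ∣_ Y₁) hI' hA n h hn hrel ⟨y, hyY₁⟩ (by
    intro w hw
    have h1 : f w.1 = y := by
      have h2 := congrArg Subtype.val hw
      rwa [morphismRestrict_base_coe] at h2
    obtain ⟨e, he⟩ := (hE _).1 h1
    refine ⟨e, ?_⟩
    apply (f ⁻¹ᵁ Y₁).ι.isOpenEmbedding.injective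
    exact he) (pull (f ⁻¹ᵁ Y₁).ι c) (by rw [← pull_comp]; exact hc)
  rw [← pull_comp] at hpull
  refine ⟨Y₁.ι ''ᵁ V, hV.image_of_isOpenImmersion _, ⟨⟨y, hyY₁⟩, hyV, rfl⟩, Y₁.ι_image_le V, ?_⟩
  refine pull_eq_one_of_range _ (((f ∣_ Y₁) ⁻¹ᵁ V).ι ≫ (f ⁻¹ᵁ Y₁).ι) ?_ hpull
  rintro _ ⟨x, rfl⟩
  obtain ⟨z, hz, hzx⟩ := x.2
  have hx1 : x.1 ∈ f ⁻¹ᵁ Y₁ := by
    change f x.1 ∈ Y₁
    rw [← hzx]; exact z.2
  have hz' : (f ∣_ Y₁) ⟨x.1, hx1⟩ = z := by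
    apply Subtype.ext
    rw [morphismRestrict_base_coe]
    exact hzx.symm
  refine ⟨⟨⟨x.1, hx1⟩, ?_⟩, rfl⟩
  change (f ∣_ Y₁) ⟨x.1, hx1⟩ ∈ V
  rw [hz']
  exact hz

end K373.PicNear
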