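import Groth.Agent.Resolve.K373.BlowCrit
import Groth.Agent.Resolve.K373.DimTwo
import Groth.Agent.Resolve.K373.PicNear
import Groth.Agent.Dix.CastLocal
import Groth.Agent.CurvesB.DimPts

/-!
# A local contraction criterion (helper373)
-/

set_option autoImplicit false
set_option backward.isDefEq.respectTransparency false
universe u

open CategoryTheory CategoryTheory.Limits AlgebraicGeometry Opposite TopologicalSpace IsLocalRing

namespace K373.ContrLocal

open Groth.Agent.Fdesc.LocGen Groth.Agent.PerfA.IdealModule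
open Groth.Agent.Ega1.IdealGen Groth.Agent.Divis.IdealComap Groth.Agent.Divis.CartierBasic
open Groth.Agent.Grpsch.PicGrp Groth.Agent.Dix Groth.Agent.Dix.CastPic Groth.Agent.Dix.PointIdeal
open Groth.Agent.Models.H69.Contr (compl isIso_compl)

theorem mem_ideal_pt_iff {Y : Scheme.{u}} [IsAffine Y] (y : Y) (hy : IsClosed ({y} : Set Y)) (a : Γ(Y, ⊤)) :
    a ∈ (pt y hy).ideal ⟨⊤, isAffineOpen_top Y⟩ ↔ y ∉ Y.basicOpen a := by
  rw [ideal_pt y hy ⊤ (isAffineOpen_top Y) trivial, IsAffineOpen.primeIdealOf_eq_map_closedPoint]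
  change Y.presheaf.germ ⊤ y trivial a ∈ maximalIdeal (Y.presheaf.stalk y) ↔ _
  rw [mem_maximalIdeal, mem_nonunits_iff, Scheme.mem_basicOpen Y a y (show y ∈ (⊤ : Y.Opens) from trivial)]

section

variable {k : Type u} [Field k] {W Y : Scheme.{u}} [IsAffine Y] [IsLocallyNoetherian Y] (f : W ⟶ Y) [IsProper f]
  (hf : ∀ V : Y.Opens, Function.Bijective (f.app V).hom) (ι : CohB1.ProjSpace 1 k ⟶ W) [IsClosedImmersion ι]
  (heff : BlowUp.IsEffCartierIdeal ι.ker) (hI : pull ι (idc ι heff) = o k 1) (y : Y) (hy : IsClosed ({y} : Set Y))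
  (hE : ∀ w, f w = y ↔ w ∈ Set.range ι) (hA : CohB1.IsAmple (ClSub.idealMod ι.ker))
  (u v : Γ(ClSub.idealMod ι.ker, ⊤)) (hgen : CohB1.genLocus _ (homOf u) ⊔ CohB1.genLocus _ (homOf v) = ⊤)
  (au av : Γ(Y, ⊤)) (hau : f.appTop.hom au = val ι.ker u) (hav : f.appTop.hom av = val ι.ker v)

include hI hA in
theorem V1_all (f : W ⟶ Y) [IsProper f] (n : ℕ) : V1 (idc ι heff ^ n * (idc ι heff)⁻¹) := by
  have hnoe : IsNoetherianRing Γ(Y, ⊤) := IsLocallyNoetherian.component_noetherian ⟨⊤, isAffineOpen_top Y⟩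
  let p : W ⟶ Spec (CommRingCat.of Γ(Y, ⊤)) := f ≫ Y.isoSpec.hom
  have hp : IsProper p := inferInstanceAs (IsProper (f ≫ Y.isoSpec.hom))
  refine PicLoc.V1_of_deg ι heff p hI hA 1 1 le_rfl rfl _ ((n : ℤ) - 1) (by omega) ?_
  rw [map_mul, map_pow, map_inv, hI, o_pow, ← o_neg, ← o_add]
  congr 1
  ring

theorem exists_point (k : Type u) [Field k] : ∃ e : CohB1.ProjSpace 1 k,
    ¬ IsField ((CohB1.ProjSpace 1 k).presheaf.stalk e) := by
  have h1 := K372.Contr.one_le_topologicalKrullDim_P1 k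
  have hint : IsIntegral (CohB1.ProjSpace 1 k) := inferInstance
  by_contra hcon
  push Not at hcon
  have hsub : Subsingleton (CohB1.ProjSpace 1 k) := by
    have h2 : ∀ x : CohB1.ProjSpace 1 k, x = genericPoint (CohB1.ProjSpace 1 k) := by
      intro x
      by_contra hx
      have h3 : genericPoint (CohB1.ProjSpace 1 k) ∈ Set.range ((CohB1.ProjSpace 1 k).fromSpecStalk x) := by
        rw [Scheme.range_fromSpecStalk]
        exact genericPoint_specializes x
      obtain ⟨P, hP⟩ := h3
      let _ := (hcon x).toField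
      have h4 : P = IsLocalRing.closedPoint ((CohB1.ProjSpace 1 k).presheaf.stalk x) :=
        (inferInstance : Subsingleton (PrimeSpectrum ((CohB1.ProjSpace 1 k).presheaf.stalk x))).elim _ _
      rw [h4, Scheme.fromSpecStalk_closedPoint] at hP
      exact hx hP
    exact ⟨fun a b => (h2 a).trans (h2 b).symm⟩
  have h5 : topologicalKrullDim (CohB1.ProjSpace 1 k) ≤ 0 := by
    rw [Groth.Agent.CurvesB.DimPts.krullDim_eq]
    exact Order.krullDim_nonpos_of_subsingleton
  have h6 := h1.trans h5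
  exact absurd h6 (by decide)

include hf hI heff hE hA hgen hau hav in
theorem ideal_eq : (pt y hy).ideal ⟨⊤, isAffineOpen_top Y⟩ = Ideal.span {au, av} := by
  have hfield := Cast2.wp2_isField k
  obtain ⟨e, -⟩ := exists_point k
  have hfe : f (ι e) = y := (hE _).2 ⟨e, rfl⟩
  have key : ∀ a : Γ(Y, ⊤), ι.appTop.hom (f.appTop.hom a) = 0 ↔ y ∉ Y.basicOpen a := by
    intro a
    have h1 : e ∈ (CohB1.ProjSpace 1 k).basicOpen (ι.appTop.hom (f.appTop.hom a)) ↔ y ∈ Y.basicOpen a := by
      have h2 : (CohB1.ProjSpace 1 k).basicOpen (ι.appTop.hom (f.appTop.hom a)) = ι ⁻¹ᵁ f ⁻¹ᵁ Y.basicOpen a := by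
        have h3 : f ⁻¹ᵁ Y.basicOpen a = W.basicOpen (f.appTop.hom a) := Scheme.preimage_basicOpen_top _ _
        rw [h3]
        exact (Scheme.preimage_basicOpen_top _ _).symm
      rw [h2]
      change f (ι e) ∈ Y.basicOpen a ↔ _
      rw [hfe]
    rw [← h1]
    constructor
    · intro h
      rw [h, Scheme.basicOpen_zero]
      exact fun h => h
    · intro h
      by_contra h0
      let _ := hfield.toField
      have hu : IsUnit (ι.appTop.hom (f.appTop.hom a)) := IsUnit.mk0 _ h0
      rw [Scheme.basicOpen_of_isUnit _ hu] at h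
      exact h trivial
  apply le_antisymm
  · intro a ha
    rw [mem_ideal_pt_iff, ← key] at ha
    obtain ⟨t, ht⟩ := CastLocal.exists_val ι _ ha
    have hinv := (Groth.Agent.Dix.IdealModCartier.isInvertible_idealMod_iff ι.ker).2 heff
    obtain ⟨L, hL, hLI, hLc⟩ := CastLocal.exists_inv (ClSub.idealMod ι.ker) hinv
    have hH1 : Subsingleton (Coh.HH W L 1) := by
      have h := V1_all ι heff hI hA f 0
      rw [pow_zero, one_mul, idc, ← hLc, V1_mk] at h
      exact h
    obtain ⟨α, γ, rfl⟩ := Cast4.wp4 (ClSub.idealMod ι.ker) L hinv hLI hH1 u v t hgen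
    obtain ⟨α₀, rfl⟩ : ∃ α₀, f.appTop.hom α₀ = α := (hf ⊤).2 α
    obtain ⟨γ₀, rfl⟩ : ∃ γ₀, f.appTop.hom γ₀ = γ := (hf ⊤).2 γ
    rw [Ideal.mem_span_pair]
    refine ⟨α₀, γ₀, ?_⟩
    apply (hf ⊤).1
    have h1 : val ι.ker (f.appTop.hom α₀ • u + f.appTop.hom γ₀ • v) =
        f.appTop.hom α₀ * val ι.ker u + f.appTop.hom γ₀ * val ι.ker v := by
      rw [← val_smul, ← val_smul]
      exact map_add ((ClSub.idealModι ι.ker).app ⊤).hom _ _
    change f.appTop.hom (α₀ * au + γ₀ * av) = f.appTop.hom a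
    rw [map_add, map_mul, map_mul, hau, hav, ← h1]
    exact ht
  · rw [Ideal.span_le]
    intro a ha
    rw [SetLike.mem_coe, mem_ideal_pt_iff, ← key]
    rcases ha with h | h
    · rw [h, hau]
      exact CastLocal.appTop_val ι u
    · rw [Set.mem_singleton_iff.1 h, hav]
      exact CastLocal.appTop_val ι v

include hf hI heff hE hA hgen hau hav in
theorem comap_eq : (pt y hy).comap f = ι.ker := by
  have hJ := ideal_eq f hf ι heff hI y hy hE hA u v hgen au av hau hav
  have hlocal : ∀ A : W.affineOpens, ι.ker.ideal A =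
      Ideal.span {val ι.ker (res _ (le_top : A.1 ≤ ⊤) u), val ι.ker (res _ (le_top : A.1 ≤ ⊤) v)} →
      ((pt y hy).comap f).ideal A = ι.ker.ideal A := by
    intro A hAI
    rw [ideal_comap (pt y hy) f ⟨⊤, isAffineOpen_top Y⟩ A le_top, hJ, Ideal.map_span, Set.image_pair, hAI,
      val_res', val_res', ← hau, ← hav]
    rfl
  apply ext_stalkIdeal
  intro x
  have hx : x ∈ CohB1.genLocus _ (homOf u) ⊔ CohB1.genLocus _ (homOf v) := by rw [hgen]; trivial
  rcases hx with hx | hx
  · obtain ⟨A, hxA, hA'⟩ := exists_affine (V := CohB1.genLocus _ (homOf u)) (x := x) hx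
    have h1 : IsGen (res _ (le_top : A.1 ≤ ⊤) u) := by
      have := (isGen_sec_genLocus (homOf u)).res hA'
      rwa [sec_homOf, res_res] at this
    have h2 := span_of_isGen _ h1
    rw [stalkIdeal_eq _ A hxA, stalkIdeal_eq _ A hxA, hlocal A ?_]
    apply le_antisymm
    · rw [h2]
      exact Ideal.span_mono (by simp)
    · rw [Ideal.span_le]
      intro a ha
      rcases ha with h | h
      · rw [SetLike.mem_coe, h]; exact val_mem _ A _
      · rw [SetLike.mem_coe, Set.mem_singleton_iff.1 h]; exact val_mem _ A _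
  · obtain ⟨A, hxA, hA'⟩ := exists_affine (V := CohB1.genLocus _ (homOf v)) (x := x) hx
    have h1 : IsGen (res _ (le_top : A.1 ≤ ⊤) v) := by
      have := (isGen_sec_genLocus (homOf v)).res hA'
      rwa [sec_homOf, res_res] at this
    have h2 := span_of_isGen _ h1
    rw [stalkIdeal_eq _ A hxA, stalkIdeal_eq _ A hxA, hlocal A ?_]
    apply le_antisymm
    · rw [h2]
      exact Ideal.span_mono (by simp)
    · rw [Ideal.span_le]
      intro a ha
      rcases ha with h | h
      · rw [SetLike.mem_coe, h]; exact val_mem _ A _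
      · rw [SetLike.mem_coe, Set.mem_singleton_iff.1 h]; exact val_mem _ A _

include hf hI heff hy hE hA hgen hau hav in
theorem regular (hinj : ∀ w w', f w ≠ y → f w = f w' → w = w') :
    IsRegularLocalRing (Y.presheaf.stalk y) ∧ ringKrullDim (Y.presheaf.stalk y) = 2 := by
  have hJ := ideal_eq f hf ι heff hI y hy hE hA u v hgen au av hau hav
  have hWn : IsLocallyNoetherian W := LocallyOfFiniteType.isLocallyNoetherian f
  have hint : IsIntegral (CohB1.ProjSpace 1 k) := inferInstance
  obtain ⟨e, he⟩ := exists_point k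
  have hge := DimTwo.two_le_dim f ι heff y hE hinj e he
  have hmax : maximalIdeal (Y.presheaf.stalk y) = Ideal.span {Y.presheaf.germ ⊤ y trivial au,
      Y.presheaf.germ ⊤ y trivial av} := by
    rw [← stalkIdeal_pt y hy, stalkIdeal_eq _ ⟨⊤, isAffineOpen_top Y⟩ trivial, hJ, Ideal.map_span,
      Set.image_pair]
  have hle : (maximalIdeal (Y.presheaf.stalk y)).spanFinrank ≤ 2 := by
    rw [hmax]
    refine (Submodule.spanFinrank_span_le_ncard_of_finite (Set.toFinite _)).trans ?_
    refine (Set.ncard_insert_le _ _).trans ?_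
    rw [Set.ncard_singleton]
  have hreg : IsRegularLocalRing (Y.presheaf.stalk y) := by
    apply IsRegularLocalRing.of_spanFinrank_maximalIdeal_le
    refine le_trans ?_ hge
    exact_mod_cast hle
  refine ⟨hreg, le_antisymm ?_ hge⟩
  rw [← hreg.spanFinrank_maximalIdeal]
  exact_mod_cast hle

include hf hI heff hE hA hgen hau hav in
theorem isIso_comparison (hiso : IsIso (f ∣_ compl y hy)) {B : Scheme.{u}} (β : B ⟶ Y)
    (hβ : BlowUp.IsBlowUp β (pt y hy)) (h : W ⟶ B) (hh : h ≫ β = f) : IsIso h := by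
  have hJ := ideal_eq f hf ι heff hI y hy hE hA u v hgen au av hau hav
  have hcomap := comap_eq f hf ι heff hI y hy hE hA u v hgen au av hau hav
  have hWJ : BlowUp.IsEffCartierIdeal ((pt y hy).comap f) := by rw [hcomap]; exact heff
  have hβp : IsProper β := ContrBasic.isProper_blowUp hβ
  have hcompl : ((pt y hy).comap β).support.compl = β ⁻¹ᵁ (compl y hy) := by
    ext x
    change x ∉ ((pt y hy).comap β).support ↔ β x ≠ y
    rw [Scheme.IdealSheafData.support_comap]
    exact not_congr (mem_support_pt y hy (β x))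
  have hiso' : IsIso (h ∣_ ((pt y hy).comap β).support.compl) := by
    rw [hcompl]
    have h1 : IsIso (β ∣_ compl y hy) := isIso_compl y hy hβ
    have h2 : h ∣_ β ⁻¹ᵁ (compl y hy) ≫ β ∣_ (compl y hy) = (h ≫ β) ∣_ (compl y hy) :=
      (morphismRestrict_comp h β _).symm
    have h3 : IsIso ((h ≫ β) ∣_ (compl y hy)) := by rw [hh]; exact hiso
    rw [← h2] at h3
    exact IsIso.of_isIso_comp_right _ (β ∣_ (compl y hy))
  have hmk : mk (ClSub.idealMod ((pt y hy).comap f)) ((IdealModCartier.isInvertible_idealMod_iff _).2 hWJ) =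
      idc ι heff := by
    refine mk_congr ?_
    exact eqToIso (by rw [hcomap])
  exact BlowCrit.isIso_of_affine f (hf ⊤).2 hWJ β hβ h hh hiso' (by
    intro n
    rw [hmk]
    exact V1_all ι heff hI hA f n) (by rw [hcomap]; exact hA) au av hJ

end

end K373.ContrLocal
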