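import Groth.Agent.Resolve.K373.PicNear
import Groth.Agent.Resolve.K372.Contr

/-!
# Picard groups of contractions (helper373)
-/

set_option autoImplicit false
set_option backward.isDefEq.respectTransparency false
universe u

open CategoryTheory CategoryTheory.Limits AlgebraicGeometry TopologicalSpace Opposite

namespace K373.PicContr

open Groth.Agent.Fdesc.LocGen Groth.Agent.Grpsch.PicGrp Groth.Agent.Dix.CastPic Groth.Agent.Dix.CastLift
open Groth.Agent.Dix PicLoc PicDesc PicNear PointIdeal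
open Groth.Agent.Models.H69.Contr (range_eq ker_eq exists_apply_eq eq_of_apply_eq)

/-- Data extracted from an exceptional curve. -/
theorem exists_param {E X : Scheme.{u}} {ι : E ⟶ X} [IsClosedImmersion ι] (hE : Models.IsExcCurve ι) :
    ∃ (k : Type u) (_ : Field k) (e : CohB1.ProjSpace 1 k ≅ E)
      (heff : BlowUp.IsEffCartierIdeal (e.hom ≫ ι).ker), (e.hom ≫ ι).ker = ι.ker ∧
      pull (e.hom ≫ ι) (idc (e.hom ≫ ι) heff) = o k 1 := by
  obtain ⟨heff, k, hk, e, ⟨φ⟩⟩ := hE
  have hker : (e.hom ≫ ι).ker = ι.ker := Scheme.Hom.ker_comp_of_isIso _ _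
  have heff' : BlowUp.IsEffCartierIdeal (e.hom ≫ ι).ker := hker ▸ heff
  refine ⟨k, hk, e, heff', hker, ?_⟩
  have e1 : ClSub.idealMod (e.hom ≫ ι).ker ≅ ClSub.idealMod ι.ker := eqToIso (by rw [hker])
  exact mk_congr ((Scheme.Modules.pullback (e.hom ≫ ι)).mapIso e1 ≪≫ φ)

variable {E X X' : Scheme.{u}} (ι : E ⟶ X) [IsClosedImmersion ι] (hE : Models.IsExcCurve ι) (b : X ⟶ X')

/-- A contraction has an open cover of the target over which invertible modules of degree zero are trivial. -/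
theorem exists_gen_nhd (hE : Models.IsExcCurve ι) (hb : Models.IsContractionOf ι b) (L : X.Modules)
    (hL : PicF.IsInvertible L) (h : pull ι (mk L hL) = 1) (y' : X') :
    ∃ (V : X'.Opens) (e : Γ(L, b ⁻¹ᵁ V)), y' ∈ V ∧ IsGen e := by
  obtain ⟨hE1, hE2⟩ := K372.Contr.isIntegral_of_isExcCurve hE
  obtain ⟨hN, hprop, y, hy, hrange, hreg, hdim, hbl⟩ := hb
  have hr : Set.range ι = b ⁻¹' {y} := range_eq (hy := hy) ι hbl hreg hdim hE2 hrange
  have hk : ι.ker = (pt y hy).comap b := ker_eq (hy := hy) ι hbl hreg hdim hE2 hrange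
  by_cases hyy : y' = y
  · subst hyy
    obtain ⟨k, _, e, heff, hker, hI⟩ := exists_param hE
    obtain ⟨Y₁, hY₁, hyY₁, -⟩ := exists_isAffineOpen_mem_and_subset (U := (⊤ : X'.Opens)) (x := y') trivial
    have hA := Groth.Agent.Ega1.AmpFamBlow.isAmple_restrict hbl ⟨Y₁, hY₁⟩ (b ⁻¹ᵁ Y₁) rfl
    have hcomap : (pt y' hy).comap b = (e.hom ≫ ι).ker := by rw [hker, hk]
    have hsurj : Function.Surjective e.hom := e.hom.homeomorph.surjective
    have hrange' : Set.range (e.hom ≫ ι) = Set.range ι := by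
      ext x
      constructor
      · rintro ⟨z, rfl⟩
        exact ⟨e.hom z, (Scheme.Hom.comp_apply _ _ _).symm⟩
      · rintro ⟨z, rfl⟩
        obtain ⟨w, rfl⟩ := hsurj z
        exact ⟨w, Scheme.Hom.comp_apply _ _ _⟩
    obtain ⟨V, hV, hyV, -, hpull⟩ := exists_nhd b (e.hom ≫ ι) heff hI y' (fun w => by
      rw [hrange', hr]; rfl) Y₁ hY₁ hyY₁ hA 1 1 le_rfl (by
        rw [pow_one, pow_one, idc, pull_mk]
        exact mk_congr ((Scheme.Modules.restrictFunctorIsoPullback (b ⁻¹ᵁ Y₁).ι).app _ ≪≫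
          (Scheme.Modules.pullback (b ⁻¹ᵁ Y₁).ι).mapIso (eqToIso (by rw [hcomap])))) (mk L hL) (by
        rw [pull_comp, h, map_one])
    obtain ⟨e, he⟩ := exists_isGen_of_pull_eq_one hL hpull
    exact ⟨V, e, hyV, he⟩
  · obtain ⟨x, hx⟩ := exists_apply_eq (hy := hy) hbl y' hyy
    obtain ⟨T, t, hxT, ht⟩ := (isInvertible_iff L).mp hL x
    obtain ⟨V, -, hyV, -, hle⟩ := exists_nhd_le b y' T (fun x' hx' => by
      have := eq_of_apply_eq (hy := hy) hbl x x' (by rw [hx]; exact hyy) (hx.trans hx'.symm)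
      rw [← this]; exact hxT) ⊤ trivial
    exact ⟨V, res L hle t, hyV, ht.res hle⟩

omit [IsClosedImmersion ι] in
theorem bijective_app (hb : Models.IsContractionOf ι b) (V : X'.Opens) : Function.Bijective (b.app V).hom := by
  obtain ⟨hN, hprop, y, hy, hrange, hreg, hdim, hbl⟩ := hb
  exact K372.Contr.bijective_app (hy := hy) hbl (Groth.Agent.Dix.Descend515.two_le_depth hdim) V

omit [IsClosedImmersion ι] in
/-- A class on the target of a contraction is trivial on the exceptional curve. -/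
theorem pull_pull_eq_one (hb : Models.IsContractionOf ι b) (c : Pic X') : pull ι (pull b c) = 1 := by
  obtain ⟨hN, hprop, y, hy, hrange, hreg, hdim, hbl⟩ := hb
  obtain ⟨L, hL, rfl⟩ := exists_mk c
  obtain ⟨V, e, hyV, he⟩ := (isInvertible_iff L).mp hL y
  rw [← pull_comp]
  refine pull_eq_one_of_range (ι ≫ b) V.ι ?_ ?_
  · rintro _ ⟨z, rfl⟩
    have h1 : (ι ≫ b) z ∈ Set.range ((ι ≫ b).base : E → X') := ⟨z, rfl⟩
    rw [hrange] at h1
    obtain rfl : (ι ≫ b) z = y := h1
    rw [Scheme.Opens.range_ι]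
    exact hyV
  · rw [pull_mk, mk_eq_one_iff]
    have h1 : IsGen (pullSec V.ι e) := he.pullSec V.ι
    have h2 : (⊤ : V.toScheme.Opens) = V.ι ⁻¹ᵁ V := by simp
    have h3 : IsGen (res _ h2.le (pullSec V.ι e)) := h1.res h2.le
    have h4 : IsIso (homOf (res _ h2.le (pullSec V.ι e))) :=
      (isIso_iff_isGen _).mpr (by rw [sec_homOf, res_refl]; exact h3)
    exact ⟨(asIso (homOf (res _ h2.le (pullSec V.ι e)))).symm⟩

/-- Descent of invertible modules of degree zero along a contraction. -/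
theorem exists_descent (hE : Models.IsExcCurve ι) (hb : Models.IsContractionOf ι b) (L : X.Modules)
    (hL : PicF.IsInvertible L) (h : pull ι (mk L hL) = 1) :
    ∃ L' : X'.Modules, PicF.IsInvertible L' ∧ Nonempty ((Scheme.Modules.pullback b).obj L' ≅ L) :=
  ⟨_, pushforward_invertible (bijective_app ι b hb) (exists_gen_nhd ι b hE hb L hL h)⟩

end K373.PicContr
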