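import Groth.Agent.Resolve.K373.ContrCrit
import Groth.Agent.Resolve.K373.PicContr
import Groth.Agent.Resolve.K373.FibAmple
import Groth.Agent.Dix.ContractBasic
import Groth.Agent.Dix.Cast2
import Groth.Agent.S1340
import Groth.Agent.S1297
import Groth.Agent.VarietyA.AmpleField
import Groth.Agent.Models.H36.H1Sum

/-!
# Contractions of exceptional curves on Noetherian schemes (helper373)

* `isContractionOf`: `b : X ⟶ X'` proper, `O_{X'} = b_* O_X`, iso away from the closed point `y`, fibre over `y` equal
  (as a set) to the exceptional curve: then `b` is a contraction.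
* `stein`: a proper morphism, constant on an exceptional curve of the first kind and quasi-finite elsewhere, has a
  Stein factorization whose first factor is a contraction.
-/

set_option autoImplicit false
set_option backward.isDefEq.respectTransparency false
universe u

open CategoryTheory CategoryTheory.Limits AlgebraicGeometry Opposite TopologicalSpace IsLocalRing

namespace K373.ContrThm

open Groth.Agent.Fdesc.LocGen Groth.Agent.PerfA.IdealModule
open Groth.Agent.Grpsch.PicGrp Groth.Agent.Dix Groth.Agent.Dix.CastPic Groth.Agent.Dix.PointIdeal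
open Groth.Agent.Models.H69.Contr (compl isIso_compl)
open PicNear PicLoc PicContr

/-- **Contraction criterion.** -/
theorem isContractionOf {E X X' : Scheme.{u}} [IsNoetherian X'] (b : X ⟶ X') [IsProper b] (ι : E ⟶ X)
    [IsClosedImmersion ι] (hE : Models.IsExcCurve ι) (hb : ∀ V : X'.Opens, Function.Bijective (b.app V).hom)
    (y : X') (hy : IsClosed ({y} : Set X')) (hfib : ∀ w, b w = y ↔ w ∈ Set.range ι)
    (hiso : IsIso (b ∣_ compl y hy)) : Models.IsContractionOf ι b := by
  obtain ⟨hEi, -⟩ := K372.Contr.isIntegral_of_isExcCurve hE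
  obtain ⟨k, _, e, heff, hker, hI⟩ := exists_param hE
  have hfib' : ∀ w, b w = y ↔ w ∈ Set.range (e.hom ≫ ι) := by
    intro w
    rw [hfib]
    constructor
    · rintro ⟨z, rfl⟩
      obtain ⟨v, rfl⟩ := e.hom.homeomorph.surjective z
      exact ⟨v, Scheme.Hom.comp_apply _ _ _⟩
    · rintro ⟨z, rfl⟩
      exact ⟨e.hom z, (Scheme.Hom.comp_apply _ _ _).symm⟩
  have hN := (IdealModCartier.isInvertible_idealMod_iff (e.hom ≫ ι).ker).2 heff
  have hred : IsReduced (CohB1.ProjSpace 1 k) := by
    have : IsIntegral (CohB1.ProjSpace 1 k) := inferInstance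
    infer_instance
  obtain ⟨V, hyV, hV⟩ := FibAmple.exists_isAmple_near (e.hom ≫ ι) b (ClSub.idealMod (e.hom ≫ ι).ker) hN y hy hfib' (by
    have h1 := hI
    rw [idc, pull_mk, o, mk_eq_iff] at h1
    obtain ⟨θ⟩ := h1
    exact Groth.Agent.CohqB.AmpCocycle.isAmple_of_iso θ.symm
      (Groth.Agent.VarietyA.AmpleField.isAmple_twistProjSpace 1 k))
  obtain ⟨Y₁, hY₁, hyY₁, hY₁V⟩ := exists_isAffineOpen_mem_and_subset (U := V) hyV
  obtain ⟨h1, h2, h3⟩ := ContrCrit.criterion b (e.hom ≫ ι) heff hI y hfib' hb hy hiso Y₁ hY₁ hyY₁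
    (hV Y₁ hY₁V hY₁)
  refine ⟨inferInstance, inferInstance, y, hy, ?_, h1, h2, h3⟩
  obtain ⟨z⟩ : Nonempty E := hEi.nonempty
  ext w
  constructor
  · rintro ⟨a, rfl⟩
    exact (hfib (ι a)).2 ⟨a, rfl⟩
  · rintro rfl
    exact ⟨z, (hfib (ι z)).2 ⟨z, rfl⟩⟩

/-- `unitToPush` is an isomorphism when the maps on sections are bijective. -/
theorem isIso_unitToPush {X Y : Scheme.{u}} (f : X ⟶ Y) (hf : ∀ U : Y.Opens, Function.Bijective (f.app U).hom) :
    IsIso (ClSub.unitToPush f) := by
  rw [Scheme.Modules.Hom.isIso_iff_isIso_app]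
  intro U
  rw [ConcreteCategory.isIso_iff_bijective]
  exact hf U

/-- An exceptional curve has at least two points. -/
theorem exists_ne {E X : Scheme.{u}} {ι : E ⟶ X} (hE : Models.IsExcCurve ι) : ∃ a b : E, a ≠ b := by
  by_contra h
  push Not at h
  have h1 : Subsingleton E := ⟨h⟩
  have h2 := (K372.Contr.isIntegral_of_isExcCurve hE).2
  have h3 : topologicalKrullDim E ≤ 0 := topologicalKrullDim_zero_of_discreteTopology E
  exact absurd (h2.trans h3) (by decide)

/-- **Stein factorization** of a morphism contracting an exceptional curve. -/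
theorem stein {E X Y : Scheme.{u}} [IsNoetherian Y] (f : X ⟶ Y) [IsProper f] (ι : E ⟶ X)
    [IsClosedImmersion ι] (hE : Models.IsExcCurve ι) (y : Y) (hy : ∀ e, f (ι e) = y)
    (hqf : ∀ x, x ∉ Set.range ι → f.QuasiFiniteAt x) :
    Models.IsContractionOf ι f.toNormalization ∧ IsFinite f.fromNormalization ∧
      IsIso (ClSub.unitToPush f.toNormalization) := by
  obtain ⟨hEi, -⟩ := K372.Contr.isIntegral_of_isExcCurve hE
  have hfin : IsFinite f.fromNormalization := Groth.Agent.S1297.result f
  have hN1 : IsLocallyNoetherian f.normalization := LocallyOfFiniteType.isLocallyNoetherian f.fromNormalization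
  have hN2 : CompactSpace f.normalization := QuasiCompact.compactSpace_of_compactSpace f.fromNormalization
  have hN : IsNoetherian f.normalization := { }
  have hprop : IsProper f.toNormalization := by
    have : IsProper (f.toNormalization ≫ f.fromNormalization) := by
      rw [Scheme.Hom.toNormalization_fromNormalization]; infer_instance
    exact IsProper.of_comp f.toNormalization f.fromNormalization
  have hbij : ∀ V : f.normalization.Opens, Function.Bijective (f.toNormalization.app V).hom := fun V =>
    (ConcreteCategory.isIso_iff_bijective _).mp (Groth.Agent.S1340.result f V)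
  have hEfield : IsField Γ(E, ⊤) := by
    obtain ⟨-, k, _, e, -⟩ := hE
    have h1 := (asIso (e.hom.appTop)).commRingCatIsoToRingEquiv
    exact h1.toMulEquiv.isField (Cast2.wp2_isField k)
  obtain ⟨U, hU, hUeq⟩ := f.exists_isIso_morphismRestrict_toNormalization
  obtain ⟨z⟩ : Nonempty E := hEi.nonempty
  obtain ⟨P, hP, hyP, -⟩ := exists_isAffineOpen_mem_and_subset (U := (⊤ : Y.Opens)) (x := y) trivial
  have hconst : ∀ a : E, (ι ≫ f.toNormalization) a = (ι ≫ f.toNormalization) z := by
    intro a
    refine ContractBasic.eq_of_isField_of_range (hP.preimage f.fromNormalization) (ι ≫ f.toNormalization) ?_ hEfield a z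
    rintro _ ⟨b, rfl⟩
    change f.fromNormalization ((ι ≫ f.toNormalization) b) ∈ P
    rw [← Scheme.Hom.comp_apply, Category.assoc, Scheme.Hom.toNormalization_fromNormalization,
      Scheme.Hom.comp_apply, hy]
    exact hyP
  have hιy : ∀ a : E, f.toNormalization (ι a) = (ι ≫ f.toNormalization) z := fun a => by
    rw [← Scheme.Hom.comp_apply]; exact hconst a
  generalize (ι ≫ f.toNormalization) z = y' at hιy
  have hrange : Set.range (ι ≫ f.toNormalization) = {y'} := by
    ext w
    constructor
    · rintro ⟨a, rfl⟩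
      exact hιy a
    · rintro rfl
      exact ⟨z, hιy z⟩
  have hclosed : IsClosed ({y'} : Set f.normalization) := by
    rw [← hrange]
    exact (ι ≫ f.toNormalization).isClosedMap.isClosed_range
  have hmemU : ∀ x, f.toNormalization x ∈ U ↔ f.QuasiFiniteAt x := by
    intro x
    have : x ∈ (f.toNormalization ⁻¹ᵁ U).1 ↔ x ∈ { x | f.QuasiFiniteAt x } := by rw [hUeq]
    exact this
  have hyU : y' ∉ U := by
    intro hyU
    obtain ⟨a, b, hab⟩ := exists_ne hE
    apply hab
    apply ι.isClosedEmbedding.injective
    exact ContrCrit.inj_of_isIso f.toNormalization U hU _ _ (by rw [hιy]; exact hyU) (by rw [hιy, hιy])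
  have hfib : ∀ w, f.toNormalization w = y' ↔ w ∈ Set.range ι := by
    intro w
    constructor
    · intro hw
      by_contra hc
      apply hyU
      rw [← hw]
      exact (hmemU w).2 (hqf w hc)
    · rintro ⟨a, rfl⟩
      exact hιy a
  have hUc : U = compl y' hclosed := by
    ext w
    constructor
    · intro hw h
      obtain rfl : w = y' := h
      exact hyU hw
    · intro hw
      obtain ⟨x, rfl⟩ := f.toNormalization.surjective w
      exact (hmemU x).2 (hqf x fun hx => hw ((hfib x).2 hx))
  subst hUc
  exact ⟨isContractionOf f.toNormalization ι hE hbij y' hclosed hfib hU, hfin, isIso_unitToPush _ hbij⟩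

end K373.ContrThm
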