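import Groth.Agent.Dix.Cast4

/-!
# Koszul complex of two sections generating an invertible module, with coefficients (helper373)

`koszul`: `u, v` generate `N`, `L ⊗ N ≅ F`, `H^1(L) = 0`; then every section of `F ⊗ N` is `a ⊗ u + b ⊗ v`.
-/

set_option autoImplicit false
universe u

open CategoryTheory CategoryTheory.Limits AlgebraicGeometry Opposite TopologicalSpace

namespace K373.Koszul

open Groth.Agent.Fdesc.LocGen Groth.Agent.Dix

variable {W : Scheme.{u}} {L N F : W.Modules}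

lemma tmul_gen_injective (hF : PicF.IsInvertible F) {U : W.Opens} {u : Γ(N, U)} (hu : IsGen u) {α α' : Γ(F, U)}
    (h : tmul α u = tmul α' u) : α = α' := by
  rw [isInvertible_iff] at hF
  choose T f hp hf using hF
  have hcov : U ≤ ⨆ p : U, T p.1 ⊓ U := fun y hy => Opens.mem_iSup.2 ⟨⟨y, hy⟩, hp y, hy⟩
  refine res_ext F (fun p : U => T p.1 ⊓ U) (fun _ => inf_le_right) hcov fun p => ?_
  have hf' := (hf p.1).res (inf_le_left : T p.1 ⊓ U ≤ T p.1)
  obtain ⟨a, ha⟩ := hf'.exists_eq (res F inf_le_right α)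
  obtain ⟨a', ha'⟩ := hf'.exists_eq (res F inf_le_right α')
  have h1 := congr(res _ (inf_le_right : T p.1 ⊓ U ≤ U) $h)
  rw [res_tmul, res_tmul, ha, ha', smul_tmul, smul_tmul] at h1
  rw [ha, ha', (hf'.tmul (hu.res _)).ext h1]

lemma exists_tmul_eq (hF : PicF.IsInvertible F) {U : W.Opens} {u : Γ(N, U)} (hu : IsGen u)
    (t : Γ(CohB1.tensorMod F N, U)) : ∃ α : Γ(F, U), tmul α u = t := by
  have hF' := hF
  rw [isInvertible_iff] at hF'
  have key : ∀ p : U, ∃ (T : W.Opens) (hT : T ≤ U) (α : Γ(F, T)), p.1 ∈ T ∧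
      tmul α (res N hT u) = res _ hT t := by
    intro p
    obtain ⟨T, f, hp, hf⟩ := hF' p.1
    have h1 := (hf.res (inf_le_left : T ⊓ U ≤ T)).tmul (hu.res (inf_le_right : T ⊓ U ≤ U))
    obtain ⟨c, hc⟩ := h1.exists_eq (res _ inf_le_right t)
    exact ⟨T ⊓ U, inf_le_right, c • res F inf_le_left f, ⟨hp, p.2⟩, by rw [smul_tmul, hc]⟩
  choose T hT α hp hα using key
  have hcov : U ≤ ⨆ p : U, T p := fun y hy => Opens.mem_iSup.2 ⟨⟨y, hy⟩, hp ⟨y, hy⟩⟩
  obtain ⟨z, hz⟩ := res_glue F T hT hcov (s := α) (by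
    intro p q
    refine tmul_gen_injective hF (hu.res ((inf_le_left : T p ⊓ T q ≤ T p).trans (hT p))) ?_
    have h1 := congr(res _ (inf_le_left : T p ⊓ T q ≤ T p) $(hα p))
    have h2 := congr(res _ (inf_le_right : T p ⊓ T q ≤ T q) $(hα q))
    rw [res_tmul, res_res, res_res] at h1 h2
    rw [h1, h2])
  refine ⟨z, ?_⟩
  refine res_ext _ T hT hcov fun p => ?_
  rw [res_tmul, hz, hα]

variable (e : CohB1.tensorMod L N ≅ F)

/-- The pairing `L × N → F`. -/
noncomputable def pr {U : W.Opens} (x : Γ(L, U)) (i : Γ(N, U)) : Γ(F, U) := e.hom.app U (tmul x i)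

lemma pr_smul {U : W.Opens} (a : Γ(W, U)) (x : Γ(L, U)) (i : Γ(N, U)) : pr e (a • x) i = a • pr e x i := by
  rw [pr, smul_tmul, Scheme.Modules.Hom.app_smul]; rfl

lemma pr_smul' {U : W.Opens} (a : Γ(W, U)) (x : Γ(L, U)) (i : Γ(N, U)) : pr e x (a • i) = a • pr e x i := by
  rw [pr, tmul_smul, Scheme.Modules.Hom.app_smul]; rfl

lemma pr_add {U : W.Opens} (x y : Γ(L, U)) (i : Γ(N, U)) : pr e (x + y) i = pr e x i + pr e y i := by
  rw [pr, add_tmul, map_add]; rfl

lemma pr_sub {U : W.Opens} (x y : Γ(L, U)) (i : Γ(N, U)) : pr e (x - y) i = pr e x i - pr e y i := by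
  rw [eq_sub_iff_add_eq, ← pr_add, sub_add_cancel]

lemma pr_res {U V : W.Opens} (h : V ≤ U) (x : Γ(L, U)) (i : Γ(N, U)) :
    res F h (pr e x i) = pr e (res L h x) (res N h i) := by
  rw [pr, pr, ← res_tmul, app_res]

/-- `⟨x, u⟩ ⊗ v = ⟨x, v⟩ ⊗ u` when `u` generates. -/
lemma pr_swap {U : W.Opens} (x : Γ(L, U)) {u : Γ(N, U)} (hu : IsGen u) (v : Γ(N, U)) :
    tmul (pr e x u) v = tmul (pr e x v) u := by
  obtain ⟨ρ, rfl⟩ := hu.exists_eq v
  rw [pr_smul', tmul_smul, smul_tmul]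

lemma exists_pr_eq (hL : PicF.IsInvertible L) {U : W.Opens} {v : Γ(N, U)} (hv : IsGen v) (a : Γ(F, U)) :
    ∃ x : Γ(L, U), pr e x v = a := by
  obtain ⟨x, hx⟩ := exists_tmul_eq hL hv (e.inv.app U a)
  refine ⟨x, ?_⟩
  rw [pr, hx]
  have h3 : e.inv ≫ e.hom = 𝟙 _ := e.inv_hom_id
  exact congr(($h3).app U a)

include e in
theorem koszul (hL : PicF.IsInvertible L) (hF : PicF.IsInvertible F)
    (hH1 : Subsingleton (Coh.HH W L 1)) (u v : Γ(N, ⊤))
    (hgen : CohB1.genLocus _ (homOf u) ⊔ CohB1.genLocus _ (homOf v) = ⊤) (g : Γ(CohB1.tensorMod F N, ⊤)) :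
    ∃ a b : Γ(F, ⊤), g = tmul a u + tmul b v := by
  set U := CohB1.genLocus _ (homOf u) with hUdef
  set V := CohB1.genLocus _ (homOf v) with hVdef
  have hu : IsGen (res N (le_top : U ≤ ⊤) u) := by
    have := isGen_sec_genLocus (homOf u)
    rwa [sec_homOf] at this
  have hv : IsGen (res N (le_top : V ≤ ⊤) v) := by
    have := isGen_sec_genLocus (homOf v)
    rwa [sec_homOf] at this
  obtain ⟨γ, hγ⟩ := exists_tmul_eq hF hu (res _ le_top g)
  obtain ⟨γ', hγ'⟩ := exists_tmul_eq hF hv (res _ le_top g)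
  have hvO : IsGen (res N (le_top : U ⊓ V ≤ ⊤) v) := by
    have := hv.res (inf_le_right : U ⊓ V ≤ V)
    rwa [res_res] at this
  have huO : IsGen (res N (le_top : U ⊓ V ≤ ⊤) u) := by
    have := hu.res (inf_le_left : U ⊓ V ≤ U)
    rwa [res_res] at this
  obtain ⟨x, hx⟩ := exists_pr_eq e hL hvO (res F inf_le_left γ)
  -- Mayer-Vietoris
  have hMV : ∃ (y : Γ(L, U)) (z : Γ(L, V)), x = res L inf_le_left y - res L inf_le_right z := by
    have h0 : Groth.Agent.CurvesB.MVOne.conn (Coh.toAb L) hgen x = 0 :=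
      Subsingleton.elim (α := Coh.HH W L 1) _ _
    exact (Groth.Agent.CurvesB.MVOne.conn_eq_zero_iff (Coh.toAb L) hgen x).1 h0
  obtain ⟨y, z, hyz⟩ := hMV
  let aU : Γ(F, U) := γ - pr e y (res N le_top v)
  let aV : Γ(F, V) := - pr e z (res N le_top v)
  let bU : Γ(F, U) := pr e y (res N le_top u)
  let bV : Γ(F, V) := γ' + pr e z (res N le_top u)
  have ha : res F (inf_le_left : U ⊓ V ≤ U) aU = res F (inf_le_right : U ⊓ V ≤ V) aV := by
    simp only [aU, aV, map_sub, map_neg, pr_res, res_res]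
    have h1 := hx
    rw [hyz, pr_sub] at h1
    rw [← h1]
    abel
  have hb : res F (inf_le_left : U ⊓ V ≤ U) bU = res F (inf_le_right : U ⊓ V ≤ V) bV := by
    simp only [bU, bV, map_add, pr_res, res_res]
    have h1 : pr e x (res N le_top u) = res F (inf_le_right : U ⊓ V ≤ V) γ' := by
      apply tmul_gen_injective hF hvO
      rw [← pr_swap e x hvO, hx]
      have h2 := congr(res _ (inf_le_left : U ⊓ V ≤ U) $hγ)
      have h3 := congr(res _ (inf_le_right : U ⊓ V ≤ V) $hγ')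
      rw [res_tmul, res_res, res_res] at h2 h3
      rw [h2, h3]
    rw [hyz, pr_sub] at h1
    rw [← h1]
    abel
  have glue : ∀ (a : Γ(F, U)) (b : Γ(F, V)), res F (inf_le_left : U ⊓ V ≤ U) a = res F inf_le_right b →
      ∃ c : Γ(F, ⊤), res F le_top c = a ∧ res F le_top c = b := by
    intro a b hab
    let T : Bool → W.Opens := fun i => match i with
      | true => U
      | false => V
    let s : ∀ i, Γ(F, T i) := fun i => match i with
      | true => a
      | false => b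
    have hcov : (⊤ : W.Opens) ≤ ⨆ i, T i := by
      rw [← hgen]
      exact sup_le (le_iSup T true) (le_iSup T false)
    obtain ⟨t, ht⟩ := res_glue F T (fun _ => le_top) hcov s (by
      rintro (_ | _) (_ | _)
      · rfl
      · have h1 := congr(res F (le_inf inf_le_right inf_le_left : V ⊓ U ≤ U ⊓ V) $hab)
        rw [res_res, res_res] at h1
        exact h1.symm
      · exact hab
      · rfl)
    exact ⟨t, ht true, ht false⟩
  obtain ⟨a, ha1, ha2⟩ := glue aU aV ha
  obtain ⟨b, hb1, hb2⟩ := glue bU bV hb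
  have hsub : ∀ {T : W.Opens} (m m' : Γ(F, T)) (n : Γ(N, T)), tmul (m - m') n = tmul m n - tmul m' n := by
    intro T m m' n
    rw [eq_sub_iff_add_eq, ← add_tmul, sub_add_cancel]
  have hneg : ∀ {T : W.Opens} (m : Γ(F, T)) (n : Γ(N, T)), tmul (-m) n = - tmul m n := by
    intro T m n
    rw [eq_neg_iff_add_eq_zero, ← add_tmul, neg_add_cancel]
    have := hsub (0 : Γ(F, T)) 0 n
    rwa [sub_zero, sub_self] at this
  refine ⟨a, b, Cast4.ext₂ _ hgen ?_ ?_⟩
  · rw [map_add, res_tmul, res_tmul, ha1, hb1]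
    change _ = tmul (γ - pr e y (res N le_top v)) _ + tmul (pr e y (res N le_top u)) _
    rw [hsub, hγ, pr_swap e y hu]
    abel
  · rw [map_add, res_tmul, res_tmul, ha2, hb2]
    change _ = tmul (- pr e z (res N le_top v)) _ + tmul (γ' + pr e z (res N le_top u)) _
    rw [hneg, add_tmul, hγ', pr_swap e z hv]
    abel

end K373.Koszul
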