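import Mathlib.RingTheory.AdicCompletion.Basic
import Mathlib.RingTheory.RegularLocalRing.Defs
import Mathlib.RingTheory.Ideal.KrullsHeightTheorem
import Mathlib.RingTheory.KrullDimension.Regular
import Groth.Agent.S3856

/-!
# Limits of graded-like inverse systems of rings (helper373)

`B n` an inverse system of rings with surjective transition maps, `B 0` a field; under hypotheses on two elements
`u, v` of the limit `A`, the ring `A` is a complete regular local ring of dimension two, `ker (A ⟶ B n) = m ^ (n + 1)`.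
-/

set_option autoImplicit false
universe u

open IsLocalRing

namespace K373.LimReg

variable {B : ℕ → Type u} [∀ n, CommRing (B n)] (r : ∀ n, B (n + 1) →+* B n)

/-- The limit. -/
def A : Subring (∀ n, B n) where
  carrier := {x | ∀ n, r n (x (n + 1)) = x n}
  mul_mem' := fun {x y} hx hy n => by
    change r n (x (n + 1) * y (n + 1)) = x n * y n
    rw [map_mul, hx, hy]
  one_mem' := fun n => by
    change r n 1 = 1
    exact map_one _
  add_mem' := fun {x y} hx hy n => by
    change r n (x (n + 1) + y (n + 1)) = x n + y n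
    rw [map_add, hx, hy]
  zero_mem' := fun n => by
    change r n 0 = 0
    exact map_zero _
  neg_mem' := fun {x} hx n => by
    change r n (- x (n + 1)) = - x n
    rw [map_neg, hx]

/-- The projections. -/
def π (n : ℕ) : A r →+* B n := (Pi.evalRingHom B n).comp (A r).subtype

theorem π_apply (n : ℕ) (x : A r) : π r n x = x.1 n := rfl

theorem r_π (n : ℕ) (x : A r) : r n (π r (n + 1) x) = π r n x := x.2 n

theorem r_comp_π (n : ℕ) : (r n).comp (π r (n + 1)) = π r n := RingHom.ext fun x => r_π r n x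

theorem ext {x y : A r} (h : ∀ n, π r n x = π r n y) : x = y := Subtype.ext (funext h)

theorem π_eq_zero_of_le {m n : ℕ} (h : m ≤ n) {x : A r} (hx : π r n x = 0) : π r m x = 0 := by
  induction n, h using Nat.le_induction with
  | base => exact hx
  | succ n hn ih => exact ih (by rw [← r_π, hx, map_zero])

section surj

variable (hr : ∀ n, Function.Surjective (r n))

theorem exists_path (n : ℕ) (b : B n) : ∃ y : ∀ m, B m, y n = b ∧ ∀ m, m < n → r m (y (m + 1)) = y m := by
  induction n with
  | zero => exact ⟨Function.update 0 0 b, Function.update_self _ _ _, fun m hm => absurd hm (by omega)⟩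
  | succ n ih =>
    obtain ⟨y, hy, h⟩ := ih (r n b)
    refine ⟨Function.update y (n + 1) b, Function.update_self _ _ _, fun m hm => ?_⟩
    rcases Nat.lt_succ_iff_lt_or_eq.1 hm with h1 | rfl
    · rw [Function.update_of_ne (by omega), Function.update_of_ne (by omega)]
      exact h m h1
    · rw [Function.update_self, Function.update_of_ne (by omega), hy]

include hr in
theorem π_surjective (n : ℕ) : Function.Surjective (π r n) := by
  intro b
  obtain ⟨y, hy, h⟩ := exists_path r n b
  classical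
  let c : ∀ m, B m → B (m + 1) := fun m z => if r m (y (m + 1)) = z then y (m + 1) else (hr m z).choose
  have hc : ∀ m z, r m (c m z) = z := by
    intro m z
    by_cases h1 : r m (y (m + 1)) = z
    · simp only [c, if_pos h1]; exact h1
    · simp only [c, if_neg h1]; exact (hr m z).choose_spec
  let x : ∀ m, B m := fun m => Nat.rec (motive := B) (y 0) (fun m z => c m z) m
  have hx : ∀ m, x (m + 1) = c m (x m) := fun m => rfl
  have hxA : x ∈ A r := fun m => by rw [hx, hc]
  have hxy : ∀ m, m ≤ n → x m = y m := by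
    intro m
    induction m with
    | zero => intro _; rfl
    | succ m ih =>
      intro hm
      rw [hx, ih (by omega)]
      simp only [c, if_pos (h m (by omega))]
  exact ⟨⟨x, hxA⟩, by rw [π_apply]; exact (hxy n le_rfl).trans hy⟩

end surj

/-- The filtration: elements vanishing in `B m` for `m < n`. -/
def F (n : ℕ) : Ideal (A r) where
  carrier := {x | ∀ m < n, π r m x = 0}
  add_mem' := fun {x y} hx hy m hm => by rw [map_add, hx m hm, hy m hm, add_zero]
  zero_mem' := fun m _ => map_zero _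
  smul_mem' := fun c x hx m hm => by rw [smul_eq_mul, map_mul, hx m hm, mul_zero]

theorem mem_F {n : ℕ} {x : A r} : x ∈ F r n ↔ ∀ m < n, π r m x = 0 := Iff.rfl

theorem mem_F_succ {n : ℕ} {x : A r} : x ∈ F r (n + 1) ↔ π r n x = 0 := by
  constructor
  · intro h; exact h n (Nat.lt_succ_self n)
  · intro h m hm; exact π_eq_zero_of_le r (by omega) h

theorem F_zero : F r 0 = ⊤ := by
  rw [eq_top_iff]; intro x _ m hm; exact absurd hm (by omega)

theorem F_succ (n : ℕ) : F r (n + 1) = RingHom.ker (π r n) := by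
  ext x; rw [mem_F_succ, RingHom.mem_ker]

theorem F_antitone {m n : ℕ} (h : m ≤ n) : F r n ≤ F r m := fun _ hx k hk => hx k (by omega)

/-- Limits of Cauchy sequences. -/
theorem exists_lim (a : ℕ → A r) (ha : ∀ j, a (j + 1) - a j ∈ F r j) :
    ∃ b : A r, ∀ j, b - a j ∈ F r j := by
  have h1 : ∀ i k j, i < j → π r i (a (j + k)) = π r i (a j) := by
    intro i k j hij
    induction k with
    | zero => rfl
    | succ k ih =>
      rw [← ih]
      have := ha (j + k) i (by omega)
      rw [map_sub, sub_eq_zero] at this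
      exact this
  have hb : (fun k => π r k (a (k + 1))) ∈ A r := by
    intro k
    change r k (π r (k + 1) (a (k + 2))) = π r k (a (k + 1))
    rw [r_π]
    exact h1 k 1 (k + 1) (by omega)
  refine ⟨⟨_, hb⟩, fun j i hij => ?_⟩
  rw [map_sub, sub_eq_zero]
  change π r i (a (i + 1)) = _
  obtain ⟨k, rfl⟩ : ∃ k, j = i + 1 + k := ⟨j - (i + 1), by omega⟩
  exact (h1 i k (i + 1) (by omega)).symm

section main

variable {r} (u v : A r)
  (hH3 : ∀ (n : ℕ) (x : A r), x ∈ F r (n + 1) → ∃ a ∈ F r n, ∃ b ∈ F r n, x - (u * a + v * b) ∈ F r (n + 2))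

include hH3 in
theorem exists_eq (n : ℕ) (x : A r) (hx : x ∈ F r (n + 1)) :
    ∃ a ∈ F r n, ∃ b ∈ F r n, x = u * a + v * b := by
  -- the recursive construction
  have key : ∀ (j : ℕ) (y : A r), y ∈ F r (n + j + 1) → ∃ p : A r × A r, p.1 ∈ F r (n + j) ∧ p.2 ∈ F r (n + j) ∧
      y - (u * p.1 + v * p.2) ∈ F r (n + j + 2) := by
    intro j y hy
    obtain ⟨a, ha, b, hb, h⟩ := hH3 (n + j) y hy
    exact ⟨(a, b), ha, hb, h⟩
  choose g hg1 hg2 hg3 using key
  let st : ∀ j : ℕ, {q : A r × A r // x - (u * q.1 + v * q.2) ∈ F r (n + j + 1) ∧ q.1 ∈ F r n ∧ q.2 ∈ F r n} :=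
    fun j => Nat.rec (motive := fun j => {q : A r × A r // x - (u * q.1 + v * q.2) ∈ F r (n + j + 1) ∧ q.1 ∈ F r n ∧ q.2 ∈ F r n})
      ⟨(0, 0), by simpa using hx, zero_mem _, zero_mem _⟩
      (fun j q => ⟨(q.1.1 + (g j _ q.2.1).1, q.1.2 + (g j _ q.2.1).2), by
        have h1 := hg3 j _ q.2.1
        have h2 : x - (u * (q.1.1 + (g j _ q.2.1).1) + v * (q.1.2 + (g j _ q.2.1).2)) =
            (x - (u * q.1.1 + v * q.1.2)) - (u * (g j _ q.2.1).1 + v * (g j _ q.2.1).2) := by ring
        change x - (u * (q.1.1 + (g j _ q.2.1).1) + v * (q.1.2 + (g j _ q.2.1).2)) ∈ F r (n + (j + 1) + 1)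
        rw [h2]
        exact h1, add_mem q.2.2.1 (F_antitone r (by omega) (hg1 j _ q.2.1)),
        add_mem q.2.2.2 (F_antitone r (by omega) (hg2 j _ q.2.1))⟩) j
  have hst1 : ∀ j, (st (j + 1)).1.1 - (st j).1.1 ∈ F r j := by
    intro j
    change (st j).1.1 + (g j _ (st j).2.1).1 - (st j).1.1 ∈ F r j
    rw [add_sub_cancel_left]
    exact F_antitone r (by omega) (hg1 j _ (st j).2.1)
  have hst2 : ∀ j, (st (j + 1)).1.2 - (st j).1.2 ∈ F r j := by
    intro j
    change (st j).1.2 + (g j _ (st j).2.1).2 - (st j).1.2 ∈ F r j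
    rw [add_sub_cancel_left]
    exact F_antitone r (by omega) (hg2 j _ (st j).2.1)
  obtain ⟨a, ha⟩ := exists_lim r (fun j => (st j).1.1) hst1
  obtain ⟨b, hb⟩ := exists_lim r (fun j => (st j).1.2) hst2
  refine ⟨a, ?_, b, ?_, ?_⟩
  · have := add_mem (ha n) (st n).2.2.1
    rwa [sub_add_cancel] at this
  · have := add_mem (hb n) (st n).2.2.2
    rwa [sub_add_cancel] at this
  · rw [← sub_eq_zero]
    apply ext
    intro k
    rw [map_zero]
    have h1 : x - (u * a + v * b) ∈ F r (k + 1) := by
      have h2 : x - (u * a + v * b) = (x - (u * (st (k + 1)).1.1 + v * (st (k + 1)).1.2)) -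
          (u * (a - (st (k + 1)).1.1) + v * (b - (st (k + 1)).1.2)) := by ring
      rw [h2]
      refine sub_mem (F_antitone r (by omega) (st (k + 1)).2.1) (add_mem ?_ ?_)
      · exact Ideal.mul_mem_left _ _ (ha (k + 1))
      · exact Ideal.mul_mem_left _ _ (hb (k + 1))
    exact h1 k (by omega)

variable (hmul : ∀ (n : ℕ) (x y : A r), x ∈ F r 1 → y ∈ F r n → x * y ∈ F r (n + 1)) (hu : u ∈ F r 1) (hv : v ∈ F r 1)

include hH3 hmul hu hv in
theorem F_eq_pow (n : ℕ) : F r n = F r 1 ^ n ∧ F r 1 = Ideal.span {u, v} := by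
  have h1 : F r 1 = Ideal.span {u, v} := by
    apply le_antisymm
    · intro x hx
      obtain ⟨a, -, b, -, rfl⟩ := exists_eq u v hH3 0 x hx
      rw [Ideal.mem_span_pair]
      exact ⟨a, b, by ring⟩
    · rw [Ideal.span_le]
      rintro x (rfl | rfl)
      · exact hu
      · exact hv
  refine ⟨?_, h1⟩
  induction n with
  | zero => rw [F_zero, pow_zero, Ideal.one_eq_top]
  | succ n ih =>
    apply le_antisymm
    · intro x hx
      obtain ⟨a, ha, b, hb, rfl⟩ := exists_eq u v hH3 n x hx
      rw [pow_succ', ← ih]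
      exact add_mem (Ideal.mul_mem_mul hu ha) (Ideal.mul_mem_mul hv hb)
    · rw [pow_succ', ← ih, Ideal.mul_le]
      intro x hx y hy
      exact hmul n x y hx hy

end main

section complete

variable {r}

theorem smodEq_iff (n : ℕ) (J : Ideal (A r)) (x y : A r) :
    x ≡ y [SMOD (J ^ n • ⊤ : Submodule (A r) (A r))] ↔ x - y ∈ J ^ n := by
  rw [SModEq.sub_mem, smul_eq_mul, Ideal.mul_top]

theorem isAdicComplete (hF : ∀ n, F r n = F r 1 ^ n) : IsAdicComplete (F r 1) (A r) where
  haus' := by
    intro x hx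
    apply ext
    intro n
    have := hx (n + 1)
    rw [smodEq_iff, ← hF, sub_zero] at this
    rw [map_zero]
    exact this n (by omega)
  prec' := by
    intro f hf
    obtain ⟨b, hb⟩ := exists_lim r f (fun j => by
      have := hf (Nat.le_succ j)
      rw [smodEq_iff, ← hF] at this
      rw [← neg_sub]
      exact neg_mem this)
    refine ⟨b, fun n => ?_⟩
    rw [smodEq_iff, ← hF, ← neg_sub]
    exact neg_mem (hb n)

variable (r) in
theorem isLocalRing (hr : ∀ n, Function.Surjective (r n)) (hB : IsField (B 0)) (hc : IsAdicComplete (F r 1) (A r)) :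
    ∃ _ : IsLocalRing (A r), IsLocalRing.maximalIdeal (A r) = F r 1 := by
  have hmax : (F r 1).IsMaximal := by
    rw [F_succ]
    let _ := hB.toField
    exact RingHom.ker_isMaximal_of_surjective (π r 0) (π_surjective r hr 0)
  have hjac : F r 1 ≤ Ideal.jacobson ⊥ := IsAdicComplete.le_jacobson_bot _
  have : IsLocalRing (A r) := by
    refine IsLocalRing.of_unique_max_ideal ⟨F r 1, hmax, fun J hJ => ?_⟩
    have h1 : F r 1 ≤ J := by
      refine hjac.trans ?_
      rw [Ideal.jacobson]
      exact sInf_le ⟨bot_le, hJ⟩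
    exact (hmax.eq_of_le hJ.ne_top h1).symm
  exact ⟨this, (IsLocalRing.eq_maximalIdeal hmax).symm⟩

end complete

/-- A criterion for a Noetherian local ring to be regular of dimension two. -/
theorem regular_two {A : Type u} [CommRing A] [IsLocalRing A] [IsNoetherianRing A] (u v : A)
    (hm : maximalIdeal A = Ideal.span {u, v}) (hu : ∀ a, u * a = 0 → a = 0) (hv : ∀ (N : ℕ) (a : A), v ^ N ≠ u * a) :
    IsRegularLocalRing A ∧ ringKrullDim A = 2 := by
  have hum : u ∈ maximalIdeal A := by rw [hm]; exact Ideal.subset_span (by simp)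
  have hvm : v ∈ maximalIdeal A := by rw [hm]; exact Ideal.subset_span (by simp)
  have hreg : IsSMulRegular A u := by
    intro x y hxy
    simp only [smul_eq_mul] at hxy
    have h1 : u * (x - y) = 0 := by rw [mul_sub, sub_eq_zero]; exact hxy
    exact sub_eq_zero.1 (hu _ h1)
  have hdim : ringKrullDim (A ⧸ Ideal.span {u}) + 1 = ringKrullDim A :=
    ringKrullDim_quotient_span_singleton_succ_eq_ringKrullDim_of_mem_jacobson hreg
      (by rw [IsLocalRing.ringJacobson_eq_maximalIdeal]; exact hum)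
  have hne : Ideal.span {u} ≠ ⊤ := fun h => (IsLocalRing.maximalIdeal.isMaximal A).ne_top
    (eq_top_iff.2 (h ▸ (Ideal.span_singleton_le_iff_mem _).2 hum))
  have : Nontrivial (A ⧸ Ideal.span {u}) := Ideal.Quotient.nontrivial_iff.2 hne
  have : IsLocalRing (A ⧸ Ideal.span {u}) := IsLocalRing.of_surjective' _ Ideal.Quotient.mk_surjective
  have hge : (1 : WithBot ℕ∞) ≤ ringKrullDim (A ⧸ Ideal.span {u}) := by
    by_contra hlt
    rw [not_le] at hlt
    have h0 : Ring.KrullDimLE 0 (A ⧸ Ideal.span {u}) := by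
      rw [Ring.krullDimLE_iff]
      exact Order.le_of_lt_succ hlt
    have h1 : (⊥ : Ideal (A ⧸ Ideal.span {u})).radical = maximalIdeal _ :=
      Ring.KrullDimLE.radical_eq_maximalIdeal _ bot_ne_top
    have h2 : Ideal.Quotient.mk (Ideal.span {u}) v ∈ maximalIdeal (A ⧸ Ideal.span {u}) := by
      have := Ideal.mem_map_of_mem (Ideal.Quotient.mk (Ideal.span {u})) hvm
      rw [IsLocalRing.mem_maximalIdeal, mem_nonunits_iff]
      intro hunit
      have h3 := IsLocalRing.of_surjective' (Ideal.Quotient.mk (Ideal.span {u})) Ideal.Quotient.mk_surjective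
      rw [isUnit_iff_exists_inv] at hunit
      obtain ⟨w, hw⟩ := hunit
      obtain ⟨w, rfl⟩ := Ideal.Quotient.mk_surjective w
      rw [← map_mul, ← map_one (Ideal.Quotient.mk _), Ideal.Quotient.eq] at hw
      have h4 : (1 : A) ∈ maximalIdeal A := by
        have h5 : (1 : A) = v * w - (v * w - 1) := by ring
        rw [h5]
        exact sub_mem (Ideal.mul_mem_right _ _ hvm) ((Ideal.span_singleton_le_iff_mem _).2 hum hw)
      exact (IsLocalRing.maximalIdeal.isMaximal A).ne_top ((Ideal.eq_top_iff_one _).2 h4)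
    rw [← h1] at h2
    obtain ⟨N, hN⟩ := h2
    rw [Ideal.mem_bot, ← map_pow, Ideal.Quotient.eq_zero_iff_mem, Ideal.mem_span_singleton] at hN
    obtain ⟨a, ha⟩ := hN
    exact hv N a ha
  have hge2 : (2 : WithBot ℕ∞) ≤ ringKrullDim A := by
    rw [← hdim]
    calc (2 : WithBot ℕ∞) = 1 + 1 := by norm_num
      _ ≤ _ := by gcongr
  have hspan : (maximalIdeal A).spanFinrank ≤ 2 := by
    rw [hm]
    refine (Submodule.spanFinrank_span_le_ncard_of_finite (Set.toFinite _)).trans ?_
    exact (Set.ncard_insert_le _ _).trans (by rw [Set.ncard_singleton])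
  have hreg : IsRegularLocalRing A := by
    apply IsRegularLocalRing.of_spanFinrank_maximalIdeal_le
    refine le_trans ?_ hge2
    exact_mod_cast hspan
  refine ⟨hreg, le_antisymm ?_ hge2⟩
  refine (ringKrullDim_le_spanFinrank_maximalIdeal A).trans ?_
  exact_mod_cast hspan

/-- The main algebraic statement. -/
theorem main (hr : ∀ n, Function.Surjective (r n)) (hB : IsField (B 0)) (u v : A r) (hu : u ∈ F r 1) (hv : v ∈ F r 1)
    (hH3 : ∀ (n : ℕ) (x : A r), x ∈ F r (n + 1) → ∃ a ∈ F r n, ∃ b ∈ F r n, x - (u * a + v * b) ∈ F r (n + 2))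
    (hmul : ∀ (n : ℕ) (x y : A r), x ∈ F r 1 → y ∈ F r n → x * y ∈ F r (n + 1))
    (hu0 : ∀ (n : ℕ) (x : A r), u * x ∈ F r (n + 1) → x ∈ F r n) (hv0 : ∀ (N : ℕ) (a : A r), v ^ N ≠ u * a) :
    ∃ (A : Type u) (_ : CommRing A) (_ : IsRegularLocalRing A),
      IsAdicComplete (IsLocalRing.maximalIdeal A) A ∧ ringKrullDim A = 2 ∧
      ∃ φ : ∀ n : ℕ, A →+* B n,
        (∀ n, Function.Surjective (φ n)) ∧
        (∀ n, RingHom.ker (φ n) = IsLocalRing.maximalIdeal A ^ (n + 1)) ∧
        ∀ n, (r n).comp (φ (n + 1)) = φ n := by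
  have hpow := F_eq_pow u v hH3 hmul hu hv
  have hcomp := isAdicComplete fun n => (hpow n).1
  obtain ⟨hloc, hmax⟩ := isLocalRing r hr hB hcomp
  have hspan := (hpow 0).2
  have hfield : IsNoetherianRing (A r ⧸ F r 1) := by
    let _ := hB.toField
    have e : (A r ⧸ F r 1) ≃+* B 0 := (Ideal.quotEquivOfEq (F_succ r 0)).trans
      (RingHom.quotientKerEquivOfSurjective (π_surjective r hr 0))
    exact isNoetherianRing_of_ringEquiv _ e.symm
  have hnoeth : IsNoetherianRing (A r) := by
    refine Groth.Agent.Ega4A.CompleteNoeth.isNoetherianRing_of_isAdicComplete (F r 1) ?_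
    rw [hspan]
    exact Submodule.fg_span (Set.toFinite _)
  obtain ⟨h1, h2⟩ := regular_two (A := A r) u v (hmax.trans hspan) (by
    intro a ha
    apply ext
    intro n
    rw [map_zero]
    refine hu0 (n + 1) a ?_ n (by omega)
    rw [ha]; exact zero_mem _) hv0
  refine ⟨A r, inferInstance, h1, ?_, h2, π r, π_surjective r hr, fun n => ?_, fun n => r_comp_π r n⟩
  · have h3 : @maximalIdeal (A r) _ h1.toIsLocalRing = F r 1 := hmax
    rw [h3]
    exact hcomp
  · rw [← F_succ, (hpow (n + 1)).1]
    congr 1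
    exact hmax.symm

end K373.LimReg
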