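import Groth.Agent.Resolve.K373.ExcRel
import Groth.Agent.Resolve.K373.Koszul
import Groth.Agent.Resolve.K373.LimReg
import Groth.Agent.S0021
import Groth.Agent.Models.H70.VertGlue

/-!
# The limit of functions on thickenings of an exceptional curve (helper373)
-/

set_option autoImplicit false
set_option backward.isDefEq.respectTransparency false
universe u

open CategoryTheory CategoryTheory.Limits AlgebraicGeometry Opposite TopologicalSpace

namespace K373.ExcLim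

open Groth.Agent.Fdesc.LocGen Groth.Agent.Dix Groth.Agent.Dix.IdealModCartier ExcRel

variable {E X : Scheme.{u}} {ι : E ⟶ X} {I : X.IdealSheafData} [IsClosedImmersion ι]

theorem pow_le (I : X.IdealSheafData) (n : ℕ) : I ^ (n + 1) ≤ I := by
  intro U
  rw [Scheme.IdealSheafData.ideal_pow, Pi.pow_apply]
  exact Ideal.pow_le_self (Nat.succ_ne_zero n)

/-- The closed immersion of `E` into its thickening. -/
theorem exists_toZ (hI : ι.ker = I) (n : ℕ) :
    ∃ j : E ⟶ Z I n, IsClosedImmersion j ∧ Surjective j ∧ j ≫ z I n = ι := by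
  have hle : (z I n).ker ≤ ι.ker := by
    rw [hI, Scheme.IdealSheafData.ker_subschemeι]
    exact pow_le I n
  have hj : IsClosedImmersion.lift (z I n) ι hle ≫ z I n = ι := IsClosedImmersion.lift_fac _ _ _
  have h1 : IsClosedImmersion (IsClosedImmersion.lift (z I n) ι hle ≫ z I n) := by rw [hj]; infer_instance
  refine ⟨IsClosedImmersion.lift (z I n) ι hle, IsClosedImmersion.of_comp _ (z I n), ⟨fun y => ?_⟩, hj⟩
  have h2 : z I n y ∈ Set.range (z I n) := ⟨y, rfl⟩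
  have hsupp : (I.support : Set X) = closure (Set.range ι) := by rw [← hI, Scheme.Hom.support_ker]
  rw [Scheme.IdealSheafData.range_subschemeι, Scheme.IdealSheafData.support_pow _ _ (Nat.succ_ne_zero n)] at h2
  have h3 : z I n y ∈ closure (Set.range ι) := hsupp ▸ h2
  rw [ι.isClosedEmbedding.isClosed_range.closure_eq] at h3
  obtain ⟨e, he⟩ := h3
  refine ⟨e, (z I n).isClosedEmbedding.injective ?_⟩
  rw [← Scheme.Hom.comp_apply, hj, he]

theorem isNoetherian_Z [IsNoetherian X] (n : ℕ) : IsNoetherian (Z I n) := by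
  have : IsLocallyNoetherian (Z I n) := LocallyOfFiniteType.isLocallyNoetherian (z I n)
  have : CompactSpace (Z I n) := QuasiCompact.compactSpace_of_compactSpace (z I n)
  exact { }

/-- An open of a thickening is affine when its trace on `E` is. -/
theorem isAffineOpen_preimage [IsNoetherian X] (hI : ι.ker = I) (n : ℕ) (U : X.Opens) (hU : IsAffineOpen (ι ⁻¹ᵁ U)) :
    IsAffineOpen (z I n ⁻¹ᵁ U) := by
  obtain ⟨j, h1, h2, hj⟩ := exists_toZ hI n
  have := isNoetherian_Z (I := I) n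
  subst hj
  set V := z I n ⁻¹ᵁ U with hV
  have h3 : IsFinite (j ∣_ V) := MorphismProperty.of_isPullback (isPullback_morphismRestrict j V).flip inferInstance
  have h4 : Surjective (j ∣_ V) := MorphismProperty.of_isPullback (isPullback_morphismRestrict j V).flip inferInstance
  have h5 : IsAffine (j ⁻¹ᵁ V) := hU
  have h6 : IsLocallyNoetherian V := isLocallyNoetherian_of_isOpenImmersion V.ι
  have h7 : CompactSpace V := isCompact_iff_compactSpace.1 (NoetherianSpace.isCompact _)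
  have h8 : IsNoetherian V := { }
  exact Groth.Agent.S0021.result (j ∣_ V)

theorem isClosedImmersion_inclusion {n : ℕ} (hle : I ^ (n + 2) ≤ I ^ (n + 1)) :
    IsClosedImmersion (Scheme.IdealSheafData.inclusion hle) := by
  have h1 : IsClosedImmersion (Scheme.IdealSheafData.inclusion hle ≫ (I ^ (n + 2)).subschemeι) := by
    rw [Scheme.IdealSheafData.inclusion_subschemeι]; infer_instance
  exact IsClosedImmersion.of_comp _ (I ^ (n + 2)).subschemeι

/-- Lifting functions over opens with affine trace. -/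
theorem rr_surjective_of_affine [IsNoetherian X] (hI : ι.ker = I) {n : ℕ} (hle : I ^ (n + 2) ≤ I ^ (n + 1))
    (U : X.Opens) (hU : IsAffineOpen (ι ⁻¹ᵁ U)) : Function.Surjective (rr hle U) := by
  have := isClosedImmersion_inclusion hle
  have h1 : Function.Surjective ((Scheme.IdealSheafData.inclusion hle).app (z I (n + 1) ⁻¹ᵁ U)) :=
    Scheme.Hom.app_surjective _ _ (isAffineOpen_preimage hI (n + 1) U hU)
  have h2 : Scheme.IdealSheafData.inclusion hle ⁻¹ᵁ (z I (n + 1) ⁻¹ᵁ U) = z I n ⁻¹ᵁ U := by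
    rw [← Scheme.Hom.comp_preimage, Scheme.IdealSheafData.inclusion_subschemeι]
  intro s
  have h3 : IsIso ((Z I n).presheaf.map (homOfLE h2.ge).op) := by
    have : homOfLE h2.ge = eqToHom h2.symm := rfl
    rw [this]; infer_instance
  obtain ⟨t, ht⟩ := (ConcreteCategory.bijective_of_isIso ((Z I n).presheaf.map (homOfLE h2.ge).op)).2 s
  obtain ⟨w, rfl⟩ := h1 t
  exact ⟨w, ht⟩

theorem glue₂ {W : Scheme.{u}} {U V : W.Opens} (h : U ⊔ V = ⊤) (a : Γ(W, U)) (b : Γ(W, V))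
    (hab : ores (inf_le_left : U ⊓ V ≤ U) a = ores inf_le_right b) :
    ∃ c : Γ(W, ⊤), ores le_top c = a ∧ ores le_top c = b := by
  let T : Bool → W.Opens := fun i => match i with
    | true => U
    | false => V
  let s : ∀ i, Γ(W, T i) := fun i => match i with
    | true => a
    | false => b
  have hcov : (⊤ : W.Opens) ≤ ⨆ i, T i := by
    rw [← h]
    exact sup_le (le_iSup T true) (le_iSup T false)
  obtain ⟨t, ht⟩ := ores_glue T (fun _ => le_top) hcov s (by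
    rintro (_ | _) (_ | _)
    · rfl
    · have h1 := congr(ores (le_inf inf_le_right inf_le_left : V ⊓ U ≤ U ⊓ V) $hab)
      rw [ores_ores, ores_ores] at h1
      exact h1.symm
    · exact hab
    · rfl)
  exact ⟨t, ht true, ht false⟩

theorem ext₂ {W : Scheme.{u}} {U V : W.Opens} (h : U ⊔ V = ⊤) {a b : Γ(W, ⊤)}
    (h1 : ores (le_top : U ≤ ⊤) a = ores le_top b) (h2 : ores (le_top : V ≤ ⊤) a = ores le_top b) : a = b := by
  let T : Bool → W.Opens := fun i => match i with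
    | true => U
    | false => V
  have hcov : (⊤ : W.Opens) ≤ ⨆ i, T i := by
    rw [← h]
    exact sup_le (le_iSup T true) (le_iSup T false)
  refine ores_ext T (fun _ => le_top) hcov ?_
  rintro (_ | _)
  · exact h2
  · exact h1

theorem sup_eq_top (hI : ι.ker = I) (n : ℕ) {U₀ U₁ : X.Opens} (hc : ι ⁻¹ᵁ U₀ ⊔ ι ⁻¹ᵁ U₁ = ⊤) :
    z I n ⁻¹ᵁ U₀ ⊔ z I n ⁻¹ᵁ U₁ = ⊤ := by
  obtain ⟨j, h1, h2, rfl⟩ := exists_toZ hI n
  rw [eq_top_iff]
  intro y _
  obtain ⟨e, rfl⟩ := h2.surj y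
  have h3 : e ∈ (⊤ : E.Opens) := trivial
  rw [← hc] at h3
  exact h3

/-- Lifting functions to the next thickening. -/
theorem rr_surjective [IsNoetherian X] (hI : ι.ker = I) (hEff : BlowUp.IsEffCartierIdeal I) {n : ℕ}
    (hle : I ^ (n + 2) ≤ I ^ (n + 1)) (U₀ U₁ : X.Opens) (h₀ : IsAffineOpen (ι ⁻¹ᵁ U₀)) (h₁ : IsAffineOpen (ι ⁻¹ᵁ U₁))
    (hc : ι ⁻¹ᵁ U₀ ⊔ ι ⁻¹ᵁ U₁ = ⊤) (hH : Subsingleton (Coh.HH E (CohB1.tensorPow (N ι I) (n + 1)) 1)) :
    Function.Surjective (rr hle ⊤) := by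
  intro s
  obtain ⟨t₀, ht₀⟩ := rr_surjective_of_affine hI hle U₀ h₀ (zr I n le_top s)
  obtain ⟨t₁, ht₁⟩ := rr_surjective_of_affine hI hle U₁ h₁ (zr I n le_top s)
  have hδ : rr hle (U₀ ⊓ U₁) (zr I (n + 1) (inf_le_left : U₀ ⊓ U₁ ≤ U₀) t₀ - zr I (n + 1) inf_le_right t₁) = 0 := by
    rw [map_sub, ← zr_rr, ← zr_rr, ht₀, ht₁, zr_zr, zr_zr, sub_self]
  obtain ⟨σ, hσ⟩ := exists_symbol_of_rr_eq_zero hEff hle hI _ hδ
  obtain ⟨a, b, hab⟩ : ∃ (a : Γ(CohB1.tensorPow (N ι I) (n + 1), ι ⁻¹ᵁ U₀)) (b : Γ(CohB1.tensorPow (N ι I) (n + 1), ι ⁻¹ᵁ U₁)),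
      σ = er ι _ inf_le_left a - er ι _ inf_le_right b := by
    have h0 : Groth.Agent.CurvesB.MVOne.conn (Coh.toAb (CohB1.tensorPow (N ι I) (n + 1))) hc σ = 0 :=
      Subsingleton.elim (α := Coh.HH E (CohB1.tensorPow (N ι I) (n + 1)) 1) _ _
    exact (Groth.Agent.CurvesB.MVOne.conn_eq_zero_iff (Coh.toAb (CohB1.tensorPow (N ι I) (n + 1))) hc σ).1 h0
  obtain ⟨s₀, hs₀⟩ := exists_function hEff hI a
  obtain ⟨s₁, hs₁⟩ := exists_function hEff hI b
  have h2 := hσ.sub hEff ((hs₀.res (inf_le_left : U₀ ⊓ U₁ ≤ U₀)).sub hEff (hs₁.res (inf_le_right : U₀ ⊓ U₁ ≤ U₁)))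
  rw [← hab, sub_self] at h2
  have h3 := h2.eq_zero hI
  have hcov := sup_eq_top hI (n + 1) hc
  obtain ⟨t, hta, htb⟩ := glue₂ hcov (t₀ - s₀) (t₁ - s₁) (by
    change zr I (n + 1) (inf_le_left : U₀ ⊓ U₁ ≤ U₀) (t₀ - s₀) = zr I (n + 1) (inf_le_right : U₀ ⊓ U₁ ≤ U₁) (t₁ - s₁)
    rw [map_sub, map_sub, ← sub_eq_zero, ← h3]
    ring)
  refine ⟨t, ext₂ (sup_eq_top hI n hc) ?_ ?_⟩
  · change zr I n (le_top : U₀ ≤ ⊤) (rr hle ⊤ t) = zr I n le_top s
    rw [zr_rr]
    have h4 : zr I (n + 1) (le_top : U₀ ≤ ⊤) t = t₀ - s₀ := hta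
    rw [h4, map_sub, ht₀, Rel.rr_eq_zero hle s₀ hs₀, sub_zero]
  · change zr I n (le_top : U₁ ≤ ⊤) (rr hle ⊤ t) = zr I n le_top s
    rw [zr_rr]
    have h4 : zr I (n + 1) (le_top : U₁ ≤ ⊤) t = t₁ - s₁ := htb
    rw [h4, map_sub, ht₁, Rel.rr_eq_zero hle s₁ hs₁, sub_zero]

theorem isField_zero (hI : ι.ker = I) (hE : IsField Γ(E, ⊤)) : IsField Γ(Z I 0, z I 0 ⁻¹ᵁ ⊤) := by
  have h1 : (z I 0).ker = ι.ker := by
    rw [hI, Scheme.IdealSheafData.ker_subschemeι, zero_add, pow_one]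
  obtain ⟨e, -⟩ := Groth.Agent.Models.H70.VertGlue.exists_iso_of_ker_eq (z I 0) ι h1
  exact (asIso e.hom.appTop).commRingCatIsoToRingEquiv.symm.toMulEquiv.isField hE

end K373.ExcLim
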