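import Groth.Agent.Dix.IdealModCartier
import Groth.Agent.Fdesc.LocGenGlue

/-!
# Symbols of functions on thickenings of an effective Cartier divisor (helper373)

`ι : E ⟶ X` a closed immersion with effective Cartier ideal `I`, `Z n` the closed subscheme of `I ^ (n + 1)`.
`Rel n m U s σ`: the function `s` on `Z n ∩ U` lies in `I ^ m` and its class in `I ^ m / I ^ (m + 1) = N ^ m` is `σ`.
-/

set_option autoImplicit false
set_option backward.isDefEq.respectTransparency false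
universe u

open CategoryTheory CategoryTheory.Limits AlgebraicGeometry Opposite TopologicalSpace

namespace K373.ExcRel

open Groth.Agent.Fdesc.LocGen Groth.Agent.Dix Groth.Agent.Dix.IdealModCartier

variable {E X : Scheme.{u}} (ι : E ⟶ X) (I : X.IdealSheafData)

/-- The `n`-th thickening. -/
noncomputable abbrev Z (n : ℕ) : Scheme.{u} := (I ^ (n + 1)).subscheme

/-- Its closed immersion. -/
noncomputable abbrev z (n : ℕ) : Z I n ⟶ X := (I ^ (n + 1)).subschemeι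

/-- The conormal module. -/
noncomputable abbrev N : E.Modules := (Scheme.Modules.pullback ι).obj (ClSub.idealMod I)

/-- Restriction of functions to `Z n`. -/
noncomputable def gam (n : ℕ) (U : X.Opens) : Γ(X, U) →+* Γ(Z I n, z I n ⁻¹ᵁ U) := ((z I n).app U).hom

/-- Restriction of functions to `E`. -/
noncomputable def iot (U : X.Opens) : Γ(X, U) →+* Γ(E, ι ⁻¹ᵁ U) := (ι.app U).hom

/-- Restriction on `Z n`. -/
noncomputable def zr (n : ℕ) {U V : X.Opens} (h : V ≤ U) : Γ(Z I n, z I n ⁻¹ᵁ U) →+* Γ(Z I n, z I n ⁻¹ᵁ V) :=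
  ores ((z I n).preimage_mono h)

/-- Restriction on `E`. -/
noncomputable def er (M : E.Modules) {U V : X.Opens} (h : V ≤ U) : Γ(M, ι ⁻¹ᵁ U) →+ Γ(M, ι ⁻¹ᵁ V) :=
  res M (ι.preimage_mono h)

variable {I}

lemma zr_gam (n : ℕ) {U V : X.Opens} (h : V ≤ U) (f : Γ(X, U)) : zr I n h (gam I n U f) = gam I n V (ores h f) :=
  congr($((z I n).naturality (homOfLE h).op) f).symm

lemma zr_zr (n : ℕ) {U V W : X.Opens} (h : V ≤ U) (h' : W ≤ V) (f : Γ(Z I n, z I n ⁻¹ᵁ U)) :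
    zr I n h' (zr I n h f) = zr I n (h'.trans h) f := ores_ores _ _ _

lemma er_er (M : E.Modules) {U V W : X.Opens} (h : V ≤ U) (h' : W ≤ V) (f : Γ(M, ι ⁻¹ᵁ U)) :
    er ι M h' (er ι M h f) = er ι M (h'.trans h) f := res_res _ _ _ _

lemma zr_refl (n : ℕ) {U : X.Opens} (f : Γ(Z I n, z I n ⁻¹ᵁ U)) : zr I n (le_refl U) f = f := ores_refl _

lemma er_refl (M : E.Modules) {U : X.Opens} (f : Γ(M, ι ⁻¹ᵁ U)) : er ι M (le_refl U) f = f := res_refl _ _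

lemma ores_iot {U V : X.Opens} (h : V ≤ U) (f : Γ(X, U)) :
    ores (ι.preimage_mono h) (iot ι U f) = iot ι V (ores h f) :=
  congr($(ι.naturality (homOfLE h).op) f).symm

lemma er_smul (M : E.Modules) {U V : X.Opens} (h : V ≤ U) (f : Γ(X, U)) (m : Γ(M, ι ⁻¹ᵁ U)) :
    er ι M h (iot ι U f • m) = iot ι V (ores h f) • er ι M h m := by
  rw [er, res_smul, ores_iot]

/-- The chosen `m`-th power of a local section of the conormal module. -/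
noncomputable def pw {W : X.Opens} (e : Γ(ClSub.idealMod I, W)) (m : ℕ) : Γ(CohB1.tensorPow (N ι I) m, ι ⁻¹ᵁ W) :=
  pow (pullSec ι e) m

lemma er_pw {U V : X.Opens} (h : V ≤ U) (e : Γ(ClSub.idealMod I, U)) (m : ℕ) :
    er ι _ h (pw ι e m) = pw ι (res _ h e) m := by
  rw [er, pw, res_pow, res_pullSec, pw]

lemma pw_smul {U : X.Opens} (c : Γ(X, U)) (e : Γ(ClSub.idealMod I, U)) (m : ℕ) :
    pw ι (c • e) m = iot ι U (c ^ m) • pw ι e m := by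
  rw [pw, pullSec_smul, smul_pow, map_pow]
  rfl

lemma isGen_pw {U : X.Opens} {e : Γ(ClSub.idealMod I, U)} (he : IsGen e) (m : ℕ) : IsGen (pw ι e m) :=
  (he.pullSec ι).pow m

lemma tmul_pw {U : X.Opens} (e : Γ(ClSub.idealMod I, U)) (m : ℕ) :
    (tmul (pw ι e m) (pullSec ι e) : Γ(CohB1.tensorPow (N ι I) (m + 1), ι ⁻¹ᵁ U)) = pw ι e (m + 1) := rfl

/-- A chart for a symbol. -/
structure Chart (n m : ℕ) {U : X.Opens} (s : Γ(Z I n, z I n ⁻¹ᵁ U)) (σ : Γ(CohB1.tensorPow (N ι I) m, ι ⁻¹ᵁ U))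
    {W : X.Opens} (h : W ≤ U) (e : Γ(ClSub.idealMod I, W)) (a : Γ(X, W)) : Prop where
  hs : ∃ b : Γ(X, W), zr I n h s = gam I n W (a * val I e ^ m + b * val I e ^ (m + 1))
  hσ : er ι _ h σ = iot ι W a • pw ι e m

/-- The relation. -/
def Rel (n m : ℕ) (U : X.Opens) (s : Γ(Z I n, z I n ⁻¹ᵁ U)) (σ : Γ(CohB1.tensorPow (N ι I) m, ι ⁻¹ᵁ U)) : Prop :=
  ∀ x ∈ U, ∃ (W : X.affineOpens) (h : W.1 ≤ U) (e : Γ(ClSub.idealMod I, W.1)) (a : Γ(X, W.1)),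
    x ∈ W.1 ∧ IsGen e ∧ Chart ι n m s σ h e a

variable {ι} {n m : ℕ} {U : X.Opens} {s s' : Γ(Z I n, z I n ⁻¹ᵁ U)}
  {σ σ' : Γ(CohB1.tensorPow (N ι I) m, ι ⁻¹ᵁ U)}

lemma Chart.res {W : X.Opens} {h : W ≤ U} {e : Γ(ClSub.idealMod I, W)} {a : Γ(X, W)} (hc : Chart ι n m s σ h e a)
    {W' : X.Opens} (h' : W' ≤ W) :
    Chart ι n m s σ (h'.trans h) (res _ h' e) (ores h' a) := by
  obtain ⟨⟨b, hb⟩, hσ⟩ := hc
  refine ⟨⟨ores h' b, ?_⟩, ?_⟩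
  · rw [← zr_zr n h h', hb, zr_gam, map_add, map_mul, map_mul, map_pow, map_pow, val_res]
  · rw [← er_er ι _ h h', hσ, er_smul, er_pw]

lemma Chart.change {W : X.Opens} {h : W ≤ U} {e : Γ(ClSub.idealMod I, W)} {a : Γ(X, W)} (hc : Chart ι n m s σ h e a)
    {e' : Γ(ClSub.idealMod I, W)} (he' : IsGen e') : ∃ a', Chart ι n m s σ h e' a' := by
  obtain ⟨c, rfl⟩ := he'.exists_eq e
  obtain ⟨⟨b, hb⟩, hσ⟩ := hc
  refine ⟨a * c ^ m, ⟨b * c ^ (m + 1), ?_⟩, ?_⟩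
  · rw [hb, val_smul]
    congr 1
    ring
  · rw [hσ, pw_smul, smul_smul, map_mul]

lemma Rel.exists_chart (h : Rel ι n m U s σ) {V : X.Opens} {e : Γ(ClSub.idealMod I, V)} (he : IsGen e) {x : X}
    (hx : x ∈ U) (hV : x ∈ V) :
    ∃ (W : X.affineOpens) (hW : W.1 ≤ U) (hWV : W.1 ≤ V) (a : Γ(X, W.1)), x ∈ W.1 ∧
      Chart ι n m s σ hW (Groth.Agent.Fdesc.LocGen.res _ hWV e) a := by
  obtain ⟨W₀, h₀, e₀, a₀, hx₀, he₀, hc⟩ := h x hx
  obtain ⟨W, hxW, hW⟩ := exists_affine_mem_le (W₀.1 ⊓ V) x ⟨hx₀, hV⟩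
  obtain ⟨a, ha⟩ := (hc.res (hW.trans inf_le_left)).change (he.res (hW.trans inf_le_right))
  exact ⟨W, _, _, a, hxW, ha⟩

lemma Rel.res (h : Rel ι n m U s σ) {V : X.Opens} (hV : V ≤ U) : Rel ι n m V (zr I n hV s) (er ι _ hV σ) := by
  intro x hx
  obtain ⟨W₀, h₀, e₀, a₀, hx₀, he₀, hc⟩ := h x (hV hx)
  obtain ⟨W, hxW, hW⟩ := exists_affine_mem_le (W₀.1 ⊓ V) x ⟨hx₀, hx⟩
  obtain ⟨⟨b, hb⟩, hσ⟩ := hc.res (hW.trans inf_le_left)
  refine ⟨W, hW.trans inf_le_right, _, ores (hW.trans inf_le_left) a₀, hxW, he₀.res (hW.trans inf_le_left), ⟨b, ?_⟩, ?_⟩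
  · rw [zr_zr]; exact hb
  · rw [er_er]; exact hσ

lemma Rel.of_local (h : ∀ x ∈ U, ∃ (V : X.Opens) (hV : V ≤ U), x ∈ V ∧ Rel ι n m V (zr I n hV s) (er ι _ hV σ)) :
    Rel ι n m U s σ := by
  intro x hx
  obtain ⟨V, hV, hxV, h1⟩ := h x hx
  obtain ⟨W, hW, e, a, hxW, he, ⟨b, hb⟩, hσ⟩ := h1 x hxV
  rw [zr_zr] at hb
  rw [er_er] at hσ
  exact ⟨W, hW.trans hV, e, a, hxW, he, ⟨b, hb⟩, hσ⟩

lemma zr_ext (h : ∀ x ∈ U, ∃ (V : X.Opens) (hV : V ≤ U), x ∈ V ∧ zr I n hV s = zr I n hV s') : s = s' := by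
  choose V hV hx h using fun x : U => h x.1 x.2
  exact ores_ext (fun x : U => z I n ⁻¹ᵁ (V x)) (fun x => (z I n).preimage_mono (hV x))
    (fun y hy => Opens.mem_iSup.2 ⟨⟨z I n y, hy⟩, hx ⟨_, hy⟩⟩) h

lemma er_ext {M : E.Modules} {σ σ' : Γ(M, ι ⁻¹ᵁ U)}
    (h : ∀ x ∈ U, ∃ (V : X.Opens) (hV : V ≤ U), x ∈ V ∧ er ι M hV σ = er ι M hV σ') : σ = σ' := by
  choose V hV hx h using fun x : U => h x.1 x.2
  exact res_ext M (fun x : U => ι ⁻¹ᵁ (V x)) (fun x => ι.preimage_mono (hV x))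
    (fun y hy => Opens.mem_iSup.2 ⟨⟨ι y, hy⟩, hx ⟨_, hy⟩⟩) h

lemma zr_glue (V : U → X.Opens) (hV : ∀ x, V x ≤ U) (hx : ∀ x : U, x.1 ∈ V x)
    (t : ∀ x, Γ(Z I n, z I n ⁻¹ᵁ (V x)))
    (ht : ∀ x y, zr I n (inf_le_left : V x ⊓ V y ≤ V x) (t x) = zr I n inf_le_right (t y)) :
    ∃ s : Γ(Z I n, z I n ⁻¹ᵁ U), ∀ x, zr I n (hV x) s = t x :=
  ores_glue (fun x : U => z I n ⁻¹ᵁ (V x)) (fun x => (z I n).preimage_mono (hV x))
    (fun y hy => Opens.mem_iSup.2 ⟨⟨z I n y, hy⟩, hx ⟨_, hy⟩⟩) t ht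

lemma er_glue {M : E.Modules} (V : U → X.Opens) (hV : ∀ x, V x ≤ U) (hx : ∀ x : U, x.1 ∈ V x)
    (t : ∀ x, Γ(M, ι ⁻¹ᵁ (V x)))
    (ht : ∀ x y, er ι M (inf_le_left : V x ⊓ V y ≤ V x) (t x) = er ι M inf_le_right (t y)) :
    ∃ s : Γ(M, ι ⁻¹ᵁ U), ∀ x, er ι M (hV x) s = t x :=
  res_glue M (fun x : U => ι ⁻¹ᵁ (V x)) (fun x => ι.preimage_mono (hV x))
    (fun y hy => Opens.mem_iSup.2 ⟨⟨ι y, hy⟩, hx ⟨_, hy⟩⟩) t ht

lemma gam_surjective (n : ℕ) (W : X.affineOpens) : Function.Surjective (gam I n W.1) :=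
  Scheme.IdealSheafData.subschemeι_app_surjective _ W

lemma gam_eq_zero_iff {W : X.affineOpens} {e : Γ(ClSub.idealMod I, W.1)} (he : IsGen e) (f : Γ(X, W.1)) :
    gam I n W.1 f = 0 ↔ ∃ c, f = c * val I e ^ (n + 1) := by
  have h1 := (genOn_of_isGen he W le_rfl).2
  rw [ores_refl] at h1
  have h2 : gam I n W.1 f = 0 ↔ f ∈ (I ^ (n + 1)).ideal W := by
    rw [← Scheme.IdealSheafData.ker_subschemeι_app, RingHom.mem_ker]; rfl
  rw [h2, Scheme.IdealSheafData.ideal_pow, Pi.pow_apply, h1, Ideal.span_singleton_pow, Ideal.mem_span_singleton']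
  exact ⟨fun ⟨c, hc⟩ => ⟨c, hc.symm⟩, fun ⟨c, hc⟩ => ⟨c, hc.symm⟩⟩

lemma iot_surjective [IsClosedImmersion ι] (W : X.affineOpens) : Function.Surjective (iot ι W.1) :=
  ι.app_surjective W.1 W.2

lemma iot_eq_zero_iff [IsClosedImmersion ι] (hI : ι.ker = I) {W : X.affineOpens} {e : Γ(ClSub.idealMod I, W.1)}
    (he : IsGen e) (f : Γ(X, W.1)) : iot ι W.1 f = 0 ↔ ∃ c, f = c * val I e := by
  have h1 := (genOn_of_isGen he W le_rfl).2
  rw [ores_refl] at h1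
  have h2 : iot ι W.1 f = 0 ↔ f ∈ I.ideal W := by
    rw [← hI, Scheme.Hom.ker_apply, RingHom.mem_ker]; rfl
  rw [h2, h1, Ideal.mem_span_singleton']
  exact ⟨fun ⟨c, hc⟩ => ⟨c, hc.symm⟩, fun ⟨c, hc⟩ => ⟨c, hc.symm⟩⟩

lemma mul_pow_cancel {W : X.affineOpens} {e : Γ(ClSub.idealMod I, W.1)} (he : IsGen e) {a b : Γ(X, W.1)} (m : ℕ)
    (h : a * val I e ^ m = b * val I e ^ m) : a = b := by
  have h1 := (genOn_of_isGen he W le_rfl).1
  rw [ores_refl] at h1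
  exact (mul_cancel_right_mem_nonZeroDivisors (pow_mem h1 m)).1 h

/-- The basic computation. -/
lemma exists_of_gam_eq_zero (hmn : m ≤ n) {W : X.affineOpens} {e : Γ(ClSub.idealMod I, W.1)} (he : IsGen e)
    {a b : Γ(X, W.1)} (h : gam I n W.1 (a * val I e ^ m + b * val I e ^ (m + 1)) = 0) : ∃ c, a = c * val I e := by
  rw [gam_eq_zero_iff he] at h
  obtain ⟨c, hc⟩ := h
  obtain ⟨k, rfl⟩ := Nat.exists_eq_add_of_le hmn
  refine ⟨c * val I e ^ k - b, mul_pow_cancel he m ?_⟩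
  linear_combination hc

lemma Chart.unique [IsClosedImmersion ι] (hI : ι.ker = I) (hmn : m ≤ n) {W : X.affineOpens} {h : W.1 ≤ U}
    {e : Γ(ClSub.idealMod I, W.1)} (he : IsGen e) {a a' : Γ(X, W.1)} (hc : Chart ι n m s σ h e a)
    (hc' : Chart ι n m s σ' h e a') : er ι _ h σ = er ι _ h σ' := by
  obtain ⟨⟨b, hb⟩, hσ⟩ := hc
  obtain ⟨⟨b', hb'⟩, hσ'⟩ := hc'
  have h1 : gam I n W.1 ((a - a') * val I e ^ m + (b - b') * val I e ^ (m + 1)) = 0 := by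
    have h2 : (a - a') * val I e ^ m + (b - b') * val I e ^ (m + 1) =
      (a * val I e ^ m + b * val I e ^ (m + 1)) - (a' * val I e ^ m + b' * val I e ^ (m + 1)) := by ring
    rw [h2, map_sub, ← hb, ← hb', sub_self]
  have h3 := (iot_eq_zero_iff hI he _).2 (exists_of_gam_eq_zero hmn he h1)
  rw [map_sub, sub_eq_zero] at h3
  rw [hσ, hσ', h3]

variable (hEff : BlowUp.IsEffCartierIdeal I)

include hEff in
lemma exists_gen (x : X) : ∃ (V : X.Opens) (e : Γ(ClSub.idealMod I, V)), x ∈ V ∧ IsGen e :=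
  (isInvertible_iff _).1 (isInvertible_idealMod hEff) x

include hEff in
/-- Simultaneous charts. -/
lemma exists_charts {n' m' : ℕ} {t : Γ(Z I n', z I n' ⁻¹ᵁ U)} {τ : Γ(CohB1.tensorPow (N ι I) m', ι ⁻¹ᵁ U)}
    (h : Rel ι n m U s σ) (h' : Rel ι n' m' U t τ) {x : X} (hx : x ∈ U) :
    ∃ (W : X.affineOpens) (hW : W.1 ≤ U) (e : Γ(ClSub.idealMod I, W.1)) (a a' : Γ(X, W.1)), x ∈ W.1 ∧ IsGen e ∧
      Chart ι n m s σ hW e a ∧ Chart ι n' m' t τ hW e a' := by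
  obtain ⟨V, e, hxV, he⟩ := exists_gen hEff x
  obtain ⟨W, hW, hWV, a, hxW, hc⟩ := h.exists_chart he hx hxV
  obtain ⟨W', hW', hWV', a', hxW', hc'⟩ := h'.exists_chart he hx hxV
  obtain ⟨T, hxT, hT⟩ := exists_affine_mem_le (W.1 ⊓ W'.1) x ⟨hxW, hxW'⟩
  refine ⟨T, hT.trans (inf_le_left.trans hW), Groth.Agent.Fdesc.LocGen.res _ (hT.trans (inf_le_left.trans hWV)) e,
    ores (hT.trans inf_le_left) a, ores (hT.trans inf_le_right) a', hxT, he.res _, ?_, ?_⟩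
  · have := hc.res (hT.trans inf_le_left)
    rwa [res_res] at this
  · have := hc'.res (hT.trans inf_le_right)
    rwa [res_res] at this

include hEff in
theorem Rel.unique [IsClosedImmersion ι] (hI : ι.ker = I) (hmn : m ≤ n) (h : Rel ι n m U s σ)
    (h' : Rel ι n m U s σ') : σ = σ' := by
  apply er_ext
  intro x hx
  obtain ⟨W, hW, e, a, a', hxW, he, hc, hc'⟩ := exists_charts hEff h h' hx
  exact ⟨W.1, hW, hxW, hc.unique hI hmn he hc'⟩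

include hEff in
theorem Rel.sub (h : Rel ι n m U s σ) (h' : Rel ι n m U s' σ') : Rel ι n m U (s - s') (σ - σ') := by
  intro x hx
  obtain ⟨W, hW, e, a, a', hxW, he, ⟨⟨b, hb⟩, hσ⟩, ⟨⟨b', hb'⟩, hσ'⟩⟩ := exists_charts hEff h h' hx
  refine ⟨W, hW, e, a - a', hxW, he, ⟨b - b', ?_⟩, ?_⟩
  · rw [map_sub, hb, hb', ← map_sub]
    congr 1
    ring
  · rw [map_sub, hσ, hσ', map_sub, sub_smul]

include hEff in
theorem Rel.add (h : Rel ι n m U s σ) (h' : Rel ι n m U s' σ') : Rel ι n m U (s + s') (σ + σ') := by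
  intro x hx
  obtain ⟨W, hW, e, a, a', hxW, he, ⟨⟨b, hb⟩, hσ⟩, ⟨⟨b', hb'⟩, hσ'⟩⟩ := exists_charts hEff h h' hx
  refine ⟨W, hW, e, a + a', hxW, he, ⟨b + b', ?_⟩, ?_⟩
  · rw [map_add, hb, hb', ← map_add]
    congr 1
    ring
  · rw [map_add, hσ, hσ', map_add, add_smul]

/-- A function on `Z m` with symbol zero vanishes. -/
theorem Rel.eq_zero [IsClosedImmersion ι] (hI : ι.ker = I) {s : Γ(Z I m, z I m ⁻¹ᵁ U)} (h : Rel ι m m U s 0) :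
    s = 0 := by
  apply zr_ext
  intro x hx
  obtain ⟨W, hW, e, a, hxW, he, ⟨b, hb⟩, hσ⟩ := h x hx
  refine ⟨W.1, hW, hxW, ?_⟩
  rw [map_zero] at hσ
  have h1 : iot ι W.1 a = 0 := by
    apply (isGen_pw ι he m).ext
    rw [← hσ, zero_smul]
  obtain ⟨c, rfl⟩ := (iot_eq_zero_iff hI he a).1 h1
  rw [map_zero, hb, gam_eq_zero_iff he]
  exact ⟨c + b, by ring⟩

include hEff in
theorem rel_zero : Rel ι n m U (0 : Γ(Z I n, z I n ⁻¹ᵁ U)) 0 := by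
  intro x hx
  obtain ⟨V, e, hxV, he⟩ := exists_gen hEff x
  obtain ⟨W, hxW, hW⟩ := exists_affine_mem_le (U ⊓ V) x ⟨hx, hxV⟩
  refine ⟨W, hW.trans inf_le_left, _, 0, hxW, he.res (hW.trans inf_le_right), ⟨0, ?_⟩, ?_⟩
  · rw [map_zero, zero_mul, zero_mul, add_zero, map_zero]
  · rw [map_zero, map_zero, zero_smul]

include hEff in
/-- Products of symbols. -/
theorem Rel.mul (h : Rel ι n m U s σ) {τ : Γ(N ι I, ι ⁻¹ᵁ U)}
    (h' : Rel ι n 1 U s' (tmul (one (ι ⁻¹ᵁ U)) τ : Γ(CohB1.tensorMod (Coh.structureModule E) (N ι I), ι ⁻¹ᵁ U))) :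
    Rel ι n (m + 1) U (s * s') (tmul σ τ : Γ(CohB1.tensorMod (CohB1.tensorPow (N ι I) m) (N ι I), ι ⁻¹ᵁ U)) := by
  intro x hx
  obtain ⟨W, hW, e, a, a', hxW, he, ⟨⟨b, hb⟩, hσ⟩, ⟨⟨b', hb'⟩, hσ'⟩⟩ := exists_charts hEff h h' hx
  refine ⟨W, hW, e, a * a', hxW, he, ⟨a * b' + b * a' + b * b' * val I e, ?_⟩, ?_⟩
  · rw [map_mul, hb, hb', ← map_mul]
    congr 1
    ring
  · have h1 : er ι (N ι I) hW τ = iot ι W.1 a' • pullSec ι e := by
      apply (tmul_left_bijective (N ι I) (isGen_one (ι ⁻¹ᵁ W.1)) le_rfl).1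
      change tmul (Groth.Agent.Fdesc.LocGen.res _ le_rfl (one (ι ⁻¹ᵁ W.1))) (er ι (N ι I) hW τ) =
        tmul (Groth.Agent.Fdesc.LocGen.res _ le_rfl (one (ι ⁻¹ᵁ W.1))) (iot ι W.1 a' • pullSec ι e)
      rw [res_refl, tmul_smul]
      have h2 : er ι _ hW (tmul (one (ι ⁻¹ᵁ U)) τ : Γ(CohB1.tensorMod (Coh.structureModule E) (N ι I), ι ⁻¹ᵁ U)) =
          tmul (one (ι ⁻¹ᵁ W.1)) (er ι (N ι I) hW τ) := by
        rw [er, res_tmul, res_one]; rfl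
      rw [← h2]
      exact hσ'
    have h3 : er ι _ hW (tmul σ τ : Γ(CohB1.tensorMod (CohB1.tensorPow (N ι I) m) (N ι I), ι ⁻¹ᵁ U)) =
          tmul (er ι _ hW σ) (er ι (N ι I) hW τ) := res_tmul _ _ _
    refine h3.trans ?_
    rw [hσ, h1, smul_tmul, tmul_smul, smul_smul, map_mul, ← tmul_pw]

include hEff in
/-- Existence of symbols. -/
theorem exists_symbol [IsClosedImmersion ι] (hI : ι.ker = I) (hmn : m ≤ n) (s : Γ(Z I n, z I n ⁻¹ᵁ U))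
    (hs : ∀ (W : X.affineOpens) (h : W.1 ≤ U) (e : Γ(ClSub.idealMod I, W.1)), IsGen e → ∃ a : Γ(X, W.1),
      zr I n h s = gam I n W.1 (a * val I e ^ m)) : ∃ σ, Rel ι n m U s σ := by
  have key : ∀ x : U, ∃ (V : X.Opens) (_ : x.1 ∈ V) (hV : V ≤ U) (σ : Γ(CohB1.tensorPow (N ι I) m, ι ⁻¹ᵁ V)),
      Rel ι n m V (zr I n hV s) σ := by
    intro x
    obtain ⟨V, e, hxV, he⟩ := exists_gen hEff x.1
    obtain ⟨W, hxW, hW⟩ := exists_affine_mem_le (U ⊓ V) x.1 ⟨x.2, hxV⟩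
    obtain ⟨a, ha⟩ := hs W (hW.trans inf_le_left) (Groth.Agent.Fdesc.LocGen.res _ (hW.trans inf_le_right) e) (he.res _)
    refine ⟨W.1, hxW, hW.trans inf_le_left, iot ι W.1 a • pw ι (Groth.Agent.Fdesc.LocGen.res _ (hW.trans inf_le_right) e) m, ?_⟩
    intro y hy
    refine ⟨W, le_rfl, Groth.Agent.Fdesc.LocGen.res _ (hW.trans inf_le_right) e, a, hy, he.res _, ⟨0, ?_⟩, ?_⟩
    · rw [zr_refl, ha, zero_mul, add_zero]
    · rw [er_refl]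
  choose V hxV hV σ hσ using key
  obtain ⟨τ, hτ⟩ := er_glue V hV hxV σ (by
    intro x y
    have h1 := (hσ x).res (inf_le_left : V x ⊓ V y ≤ V x)
    have h2 := (hσ y).res (inf_le_right : V x ⊓ V y ≤ V y)
    rw [zr_zr] at h1 h2
    exact h1.unique hEff hI hmn h2)
  refine ⟨τ, Rel.of_local fun x hx => ⟨V ⟨x, hx⟩, hV ⟨x, hx⟩, hxV ⟨x, hx⟩, ?_⟩⟩
  rw [hτ]
  exact hσ _

include hEff in
/-- Existence of functions with a given symbol. -/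
theorem exists_function [IsClosedImmersion ι] (hI : ι.ker = I) (σ : Γ(CohB1.tensorPow (N ι I) m, ι ⁻¹ᵁ U)) :
    ∃ s : Γ(Z I m, z I m ⁻¹ᵁ U), Rel ι m m U s σ := by
  have key : ∀ x : U, ∃ (V : X.Opens) (_ : x.1 ∈ V) (hV : V ≤ U) (s : Γ(Z I m, z I m ⁻¹ᵁ V)),
      Rel ι m m V s (er ι _ hV σ) := by
    intro x
    obtain ⟨V, e, hxV, he⟩ := exists_gen hEff x.1
    obtain ⟨W, hxW, hW⟩ := exists_affine_mem_le (U ⊓ V) x.1 ⟨x.2, hxV⟩
    have he' := he.res (hW.trans inf_le_right)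
    obtain ⟨b, hb⟩ := (isGen_pw ι he' m).exists_eq (er ι _ (hW.trans inf_le_left) σ)
    obtain ⟨a, rfl⟩ := iot_surjective (ι := ι) W b
    refine ⟨W.1, hxW, hW.trans inf_le_left, gam I m W.1 (a * val I (Groth.Agent.Fdesc.LocGen.res _ (hW.trans inf_le_right) e) ^ m), ?_⟩
    intro y hy
    refine ⟨W, le_rfl, Groth.Agent.Fdesc.LocGen.res _ (hW.trans inf_le_right) e, a, hy, he', ⟨0, ?_⟩, ?_⟩
    · rw [zr_refl, zero_mul, add_zero]
    · rw [er_refl, hb]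
  choose V hxV hV s hs using key
  obtain ⟨t, ht⟩ := zr_glue V hV hxV s (by
    intro x y
    have h1 := (hs x).res (inf_le_left : V x ⊓ V y ≤ V x)
    have h2 := (hs y).res (inf_le_right : V x ⊓ V y ≤ V y)
    rw [er_er] at h1 h2
    have h3 := h1.sub hEff h2
    rw [sub_self] at h3
    exact sub_eq_zero.1 (h3.eq_zero hI))
  refine ⟨t, Rel.of_local fun x hx => ⟨V ⟨x, hx⟩, hV ⟨x, hx⟩, hxV ⟨x, hx⟩, ?_⟩⟩
  rw [ht]
  exact hs _

/-! ### Transition maps -/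

section trans

variable (hle : I ^ (n + 2) ≤ I ^ (n + 1))

/-- The transition maps. -/
noncomputable def rr (U : X.Opens) : Γ(Z I (n + 1), z I (n + 1) ⁻¹ᵁ U) →+* Γ(Z I n, z I n ⁻¹ᵁ U) :=
  ((Scheme.IdealSheafData.inclusion hle).appLE (z I (n + 1) ⁻¹ᵁ U) (z I n ⁻¹ᵁ U) (by
    rw [← Scheme.Hom.comp_preimage, Scheme.IdealSheafData.inclusion_subschemeι])).hom

lemma rr_gam (f : Γ(X, U)) : rr hle U (gam I (n + 1) U f) = gam I n U f := by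
  have h1 : (z I (n + 1)).app U ≫ (Scheme.IdealSheafData.inclusion hle).appLE (z I (n + 1) ⁻¹ᵁ U) (z I n ⁻¹ᵁ U) (by
    rw [← Scheme.Hom.comp_preimage, Scheme.IdealSheafData.inclusion_subschemeι]) = (z I n).app U := by
    rw [Scheme.Hom.app_eq_appLE, Scheme.Hom.appLE_comp_appLE, Scheme.Hom.app_eq_appLE]
    congr 1
    exact Scheme.IdealSheafData.inclusion_subschemeι _
  exact congr($h1 f)

lemma zr_rr {V : X.Opens} (h : V ≤ U) (s : Γ(Z I (n + 1), z I (n + 1) ⁻¹ᵁ U)) :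
    zr I n h (rr hle U s) = rr hle V (zr I (n + 1) h s) := by
  have h1 := Scheme.Hom.appLE_map (Scheme.IdealSheafData.inclusion hle) (U := z I (n + 1) ⁻¹ᵁ U) (V := z I n ⁻¹ᵁ U)
    (by rw [← Scheme.Hom.comp_preimage, Scheme.IdealSheafData.inclusion_subschemeι])
    (homOfLE ((z I n).preimage_mono h)).op
  have h2 := Scheme.Hom.map_appLE (Scheme.IdealSheafData.inclusion hle) (U := z I (n + 1) ⁻¹ᵁ V) (V := z I n ⁻¹ᵁ V)
    (by rw [← Scheme.Hom.comp_preimage, Scheme.IdealSheafData.inclusion_subschemeι])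
    (homOfLE ((z I (n + 1)).preimage_mono h)).op
  have h3 := h1.trans h2.symm
  exact congr($h3 s)

lemma Rel.rr (s : Γ(Z I (n + 1), z I (n + 1) ⁻¹ᵁ U)) (h : Rel ι (n + 1) m U s σ) :
    Rel ι n m U (ExcRel.rr hle U s) σ := by
  intro x hx
  obtain ⟨W, hW, e, a, hxW, he, ⟨b, hb⟩, hσ⟩ := h x hx
  refine ⟨W, hW, e, a, hxW, he, ⟨b, ?_⟩, hσ⟩
  rw [zr_rr, hb, rr_gam]

lemma Rel.lift (hmn : m ≤ n) (s : Γ(Z I (n + 1), z I (n + 1) ⁻¹ᵁ U)) (h : Rel ι n m U (ExcRel.rr hle U s) σ) :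
    Rel ι (n + 1) m U s σ := by
  intro x hx
  obtain ⟨W, hW, e, a, hxW, he, ⟨b, hb⟩, hσ⟩ := h x hx
  obtain ⟨f, hf⟩ := gam_surjective (n + 1) W (zr I (n + 1) hW s)
  rw [zr_rr, ← hf, rr_gam, ← sub_eq_zero, ← map_sub, gam_eq_zero_iff he] at hb
  obtain ⟨c, hc⟩ := hb
  obtain ⟨k, rfl⟩ := Nat.exists_eq_add_of_le hmn
  refine ⟨W, hW, e, a, hxW, he, ⟨b + c * val I e ^ k, ?_⟩, hσ⟩
  rw [← hf]
  congr 1
  linear_combination hc

lemma Rel.rr_eq_zero {σ : Γ(CohB1.tensorPow (N ι I) (n + 1), ι ⁻¹ᵁ U)} (s : Γ(Z I (n + 1), z I (n + 1) ⁻¹ᵁ U))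
    (h : Rel ι (n + 1) (n + 1) U s σ) : ExcRel.rr hle U s = 0 := by
  apply zr_ext
  intro x hx
  obtain ⟨W, hW, e, a, hxW, he, ⟨b, hb⟩, hσ⟩ := h x hx
  refine ⟨W.1, hW, hxW, ?_⟩
  rw [zr_rr, hb, rr_gam, map_zero, gam_eq_zero_iff he]
  exact ⟨a + b * val I e, by ring⟩

include hEff in
theorem exists_symbol_of_rr_eq_zero [IsClosedImmersion ι] (hI : ι.ker = I) (s : Γ(Z I (n + 1), z I (n + 1) ⁻¹ᵁ U))
    (hs : ExcRel.rr hle U s = 0) : ∃ σ, Rel ι (n + 1) (n + 1) U s σ := by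
  refine exists_symbol hEff hI le_rfl s fun W h e he => ?_
  obtain ⟨f, hf⟩ := gam_surjective (n + 1) W (zr I (n + 1) h s)
  have h1 : gam I n W.1 f = 0 := by
    rw [← rr_gam hle, hf, ← zr_rr, hs, map_zero]
  obtain ⟨c, rfl⟩ := (gam_eq_zero_iff he f).1 h1
  exact ⟨c, hf.symm⟩

end trans

include hEff in
theorem exists_symbol_zero [IsClosedImmersion ι] (hI : ι.ker = I) (s : Γ(Z I n, z I n ⁻¹ᵁ U)) :
    ∃ σ, Rel ι n 0 U s σ := by
  refine exists_symbol hEff hI (Nat.zero_le _) s fun W h e he => ?_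
  obtain ⟨f, hf⟩ := gam_surjective n W (zr I n h s)
  exact ⟨f, by rw [pow_zero, mul_one, hf]⟩

end K373.ExcRel
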