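import Groth.Agent.Resolve.K373.ExcLim

/-!
# The limit of functions on thickenings of an exceptional curve, symbols (helper373)
-/

set_option autoImplicit false
set_option backward.isDefEq.respectTransparency false
universe u

open CategoryTheory CategoryTheory.Limits AlgebraicGeometry Opposite TopologicalSpace

namespace K373.ExcLim

open Groth.Agent.Fdesc.LocGen Groth.Agent.Dix Groth.Agent.Dix.IdealModCartier ExcRel

variable {E X : Scheme.{u}} {ι : E ⟶ X} {I : X.IdealSheafData}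

section limit

variable [IsClosedImmersion ι] (hI : ι.ker = I) (hEff : BlowUp.IsEffCartierIdeal I) (hle : ∀ n : ℕ, I ^ (n + 2) ≤ I ^ (n + 1))

/-- The rings of functions on the thickenings. -/
abbrev B (I : X.IdealSheafData) (n : ℕ) : Type u := Γ(Z I n, z I n ⁻¹ᵁ ⊤)

/-- The transition maps. -/
noncomputable def tr (n : ℕ) : B I (n + 1) →+* B I n := rr (hle n) ⊤

/-- The limit. -/
noncomputable abbrev L : Subring (∀ n, B I n) := LimReg.A (B := B I) (tr hle)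

/-- The projections. -/
noncomputable abbrev p (n : ℕ) : L hle →+* B I n := LimReg.π (B := B I) (tr hle) n

/-- The filtration. -/
noncomputable abbrev Fil (n : ℕ) : Ideal (L hle) := LimReg.F (B := B I) (tr hle) n

/-- Symbols of elements of the limit. -/
def Sym (ι : E ⟶ X) (m : ℕ) (x : L hle) (σ : Γ(CohB1.tensorPow (N ι I) m, ι ⁻¹ᵁ ⊤)) : Prop :=
  Rel ι m m ⊤ (p hle m x) σ

variable {hle} {m : ℕ} {x y : L hle} {σ σ' : Γ(CohB1.tensorPow (N ι I) m, ι ⁻¹ᵁ ⊤)}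

lemma Sym.up (h : Sym hle ι m x σ) {n : ℕ} (hmn : m ≤ n) : Rel ι n m ⊤ (p hle n x) σ := by
  induction n, hmn using Nat.le_induction with
  | base => exact h
  | succ n hn ih =>
    refine Rel.lift (hle n) hn _ ?_
    have h1 : rr (hle n) ⊤ (p hle (n + 1) x) = p hle n x := LimReg.r_π (B := B I) (tr hle) n x
    rw [h1]
    exact ih

include hEff hI in
lemma exists_sym (h : x ∈ Fil hle m) : ∃ σ, Sym hle ι m x σ := by
  cases m with
  | zero => exact exists_symbol_zero hEff hI _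
  | succ k =>
    refine exists_symbol_of_rr_eq_zero hEff (hle k) hI _ ?_
    have h1 : rr (hle k) ⊤ (p hle (k + 1) x) = p hle k x := LimReg.r_π (B := B I) (tr hle) k x
    rw [h1]
    exact h k (Nat.lt_succ_self k)

lemma Sym.mem (h : Sym hle ι m x σ) : x ∈ Fil hle m := by
  cases m with
  | zero => rw [Fil, LimReg.F_zero]; trivial
  | succ k =>
    rw [Fil, LimReg.mem_F_succ, ← LimReg.r_π]
    exact Rel.rr_eq_zero (hle k) _ h

include hI in
lemma Sym.mem_succ (h : Sym hle ι m x 0) : x ∈ Fil hle (m + 1) := by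
  rw [Fil, LimReg.mem_F_succ]
  exact Rel.eq_zero hI h

include hEff in
lemma sym_zero (h : x ∈ Fil hle (m + 1)) : Sym hle ι m x 0 := by
  rw [Fil, LimReg.mem_F_succ] at h
  change Rel ι m m ⊤ (LimReg.π (B := B I) (tr hle) m x) 0
  rw [h]
  exact rel_zero hEff

include hEff hI in
lemma Sym.unique (h : Sym hle ι m x σ) (h' : Sym hle ι m x σ') : σ = σ' := Rel.unique hEff hI le_rfl h h'

include hEff in
lemma Sym.sub (h : Sym hle ι m x σ) (h' : Sym hle ι m y σ') : Sym hle ι m (x - y) (σ - σ') := by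
  have := Rel.sub hEff h h'
  rw [← map_sub] at this
  exact this

include hEff in
lemma Sym.sub_of_eq (h : Sym hle ι m x σ) (h' : Sym hle ι m y σ') (e : σ = σ') : Sym hle ι m (x - y) 0 := by
  subst e
  have := h.sub hEff h'
  rwa [sub_self] at this

include hEff in
lemma Sym.add (h : Sym hle ι m x σ) (h' : Sym hle ι m y σ') : Sym hle ι m (x + y) (σ + σ') := by
  have := Rel.add hEff h h'
  rw [← map_add] at this
  exact this

include hEff in
lemma Sym.mul (h : Sym hle ι m x σ) {τ : Γ(N ι I, ι ⁻¹ᵁ ⊤)}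
    (h' : Sym hle ι 1 y (tmul (one (ι ⁻¹ᵁ ⊤)) τ : Γ(CohB1.tensorMod (Coh.structureModule E) (N ι I), ι ⁻¹ᵁ ⊤))) :
    Sym hle ι (m + 1) (x * y) (tmul σ τ : Γ(CohB1.tensorMod (CohB1.tensorPow (N ι I) m) (N ι I), ι ⁻¹ᵁ ⊤)) := by
  have := Rel.mul hEff (h.up (Nat.le_succ m)) (h'.up (by omega : 1 ≤ m + 1))
  rw [← map_mul] at this
  exact this

include hEff in
lemma sym_one : Sym hle ι 0 1 (one (ι ⁻¹ᵁ ⊤)) := by
  intro x hx
  obtain ⟨V, e, hxV, he⟩ := exists_gen hEff x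
  obtain ⟨W, hxW, hW⟩ := exists_affine_mem_le V x hxV
  refine ⟨W, le_top, _, 1, hxW, he.res hW, ⟨0, ?_⟩, ?_⟩
  · rw [map_one, map_one, zero_mul, add_zero, pow_zero, mul_one, map_one]
  · rw [map_one, one_smul]
    exact res_one _

include hEff in
lemma sym_pow {τ : Γ(N ι I, ι ⁻¹ᵁ ⊤)}
    (h : Sym hle ι 1 y (tmul (one (ι ⁻¹ᵁ ⊤)) τ : Γ(CohB1.tensorMod (Coh.structureModule E) (N ι I), ι ⁻¹ᵁ ⊤))) (k : ℕ) :
    Sym hle ι k (y ^ k) (pow τ k) := by
  induction k with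
  | zero => rw [pow_zero]; exact sym_one hEff
  | succ k ih => rw [pow_succ]; exact ih.mul hEff h

include hEff hI in
lemma exists_of_sym (hr : ∀ n, Function.Surjective (tr hle n)) (σ : Γ(CohB1.tensorPow (N ι I) m, ι ⁻¹ᵁ ⊤)) :
    ∃ x, Sym hle ι m x σ := by
  obtain ⟨s, hs⟩ := exists_function hEff hI σ
  obtain ⟨x, hx⟩ := LimReg.π_surjective (B := B I) (tr hle) hr m s
  refine ⟨x, ?_⟩
  change Rel ι m m ⊤ (LimReg.π (B := B I) (tr hle) m x) σ
  rw [hx]
  exact hs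

variable (hr : ∀ n, Function.Surjective (tr hle n)) (T₀ T₁ : Γ(N ι I, ι ⁻¹ᵁ ⊤))
  (hk : ∀ (n : ℕ) (g : Γ(CohB1.tensorMod (CohB1.tensorPow (N ι I) n) (N ι I), ι ⁻¹ᵁ ⊤)),
    ∃ a b : Γ(CohB1.tensorPow (N ι I) n, ι ⁻¹ᵁ ⊤), g = tmul a T₀ + tmul b T₁)
  (h0 : ∀ (n : ℕ) (σ : Γ(CohB1.tensorPow (N ι I) n, ι ⁻¹ᵁ ⊤)), tmul σ T₀ = 0 → σ = 0)
  (h1 : ∀ (n : ℕ) (α : Γ(CohB1.tensorPow (N ι I) n, ι ⁻¹ᵁ ⊤)),
    (pow T₁ (n + 1) : Γ(CohB1.tensorMod (CohB1.tensorPow (N ι I) n) (N ι I), ι ⁻¹ᵁ ⊤)) ≠ tmul α T₀)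

include hI hEff hr hk h0 h1 in
/-- The main theorem about the limit, in terms of sections of the conormal module. -/
theorem limit_main (hB : IsField (B I 0)) :
    ∃ (A : Type u) (_ : CommRing A) (_ : IsRegularLocalRing A),
      IsAdicComplete (IsLocalRing.maximalIdeal A) A ∧ ringKrullDim A = 2 ∧
      ∃ φ : ∀ n : ℕ, A →+* B I n,
        (∀ n, Function.Surjective (φ n)) ∧
        (∀ n, RingHom.ker (φ n) = IsLocalRing.maximalIdeal A ^ (n + 1)) ∧
        ∀ n, (tr hle n).comp (φ (n + 1)) = φ n := by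
  obtain ⟨u, hu⟩ := exists_of_sym hI hEff (hle := hle) (m := 1) hr (tmul (one (ι ⁻¹ᵁ ⊤)) T₀)
  obtain ⟨v, hv⟩ := exists_of_sym hI hEff (hle := hle) (m := 1) hr (tmul (one (ι ⁻¹ᵁ ⊤)) T₁)
  have huniq : ∀ (n : ℕ) (x : L hle), u * x ∈ Fil hle (n + 1) → x ∈ Fil hle n := by
    intro n
    induction n with
    | zero =>
      intro x _
      rw [Fil, LimReg.F_zero]; trivial
    | succ n ih =>
      intro x hx
      have hx' : x ∈ Fil hle n := ih x (LimReg.F_antitone (tr hle) (Nat.le_succ _) hx)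
      obtain ⟨σ, hσ⟩ := exists_sym hI hEff hx'
      have h2 := hσ.mul hEff hu
      have h3 : Sym hle ι (n + 1) (x * u) 0 := by
        rw [mul_comm]
        exact sym_zero hEff hx
      have h4 := h0 n σ (h2.unique hI hEff h3)
      rw [h4] at hσ
      exact hσ.mem_succ hI
  refine LimReg.main (B := B I) (r := tr hle) hr hB u v hu.mem hv.mem ?_ ?_ huniq ?_
  · intro n x hx
    obtain ⟨σ, hσ⟩ := exists_sym hI hEff hx
    obtain ⟨a, b, hab⟩ := hk n σ
    obtain ⟨x₁, hx₁⟩ := exists_of_sym hI hEff (hle := hle) hr a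
    obtain ⟨x₂, hx₂⟩ := exists_of_sym hI hEff (hle := hle) hr b
    refine ⟨x₁, hx₁.mem, x₂, hx₂.mem, ?_⟩
    have h2 := hσ.sub_of_eq hEff ((hx₁.mul hEff hu).add hEff (hx₂.mul hEff hv)) hab
    have h4 := h2.mem_succ hI
    rwa [mul_comm x₁ u, mul_comm x₂ v] at h4
  · intro n x y hx hy
    obtain ⟨σ, hσ⟩ := exists_sym hI hEff hy
    obtain ⟨τ, hτ⟩ := exists_sym hI hEff hx
    obtain ⟨τ', rfl⟩ : ∃ τ' : Γ(N ι I, ι ⁻¹ᵁ ⊤), (tmul (one (ι ⁻¹ᵁ ⊤)) τ' : Γ(CohB1.tensorMod (Coh.structureModule E) (N ι I), ι ⁻¹ᵁ ⊤)) = τ := by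
      obtain ⟨τ', h⟩ := (tmul_left_bijective (N ι I) (isGen_one (ι ⁻¹ᵁ ⊤)) le_rfl).2 τ
      refine ⟨τ', ?_⟩
      rw [← h]
      change _ = tmul (Groth.Agent.Fdesc.LocGen.res _ le_rfl (one (ι ⁻¹ᵁ ⊤))) τ'
      rw [res_refl]
    rw [mul_comm]
    exact (hσ.mul hEff hτ).mem
  · intro n a hna
    cases n with
    | zero =>
      have h2 : (1 : L hle) ∈ Fil hle 1 := by
        rw [← pow_zero v, hna]
        exact Ideal.mul_mem_right _ _ hu.mem
      have h3 : p hle 0 1 = 0 := h2 0 Nat.zero_lt_one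
      rw [map_one] at h3
      have := hB.nontrivial
      exact one_ne_zero h3
    | succ n =>
      have h2 := sym_pow hEff hv (n + 1)
      have h3 : a ∈ Fil hle n := huniq n a (by rw [← hna]; exact h2.mem)
      obtain ⟨α, hα⟩ := exists_sym hI hEff h3
      have h4 := hα.mul hEff hu
      rw [mul_comm, ← hna] at h4
      exact h1 n α (h2.unique hI hEff h4)

end limit

end K373.ExcLim
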