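import Groth.Agent.Resolve.K373.Koszul
import Groth.Agent.Dix.CastPic
import Groth.Agent.Ega2.AmpleGlobGen

/-!
# Functions on the locus where a section of an invertible module generates (helper373)

`N` invertible, generated by `u, v`, with `H^1(N^j) = 0` for `j ≥ -1`: the functions on `W_u` are polynomials in
`v/u` with coefficients in the global functions.
-/

set_option autoImplicit false
set_option backward.isDefEq.respectTransparency false
universe u

open CategoryTheory CategoryTheory.Limits AlgebraicGeometry Opposite TopologicalSpace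

namespace K373.GenRing

open Groth.Agent.Fdesc.LocGen Groth.Agent.Grpsch.PicGrp Groth.Agent.Dix Groth.Agent.Dix.CastPic

variable {W : Scheme.{u}} {N : W.Modules}

theorem exists_coeff (hN : PicF.IsInvertible N) (u v : Γ(N, ⊤))
    (hgen : CohB1.genLocus _ (homOf u) ⊔ CohB1.genLocus _ (homOf v) = ⊤)
    (hV : ∀ n : ℕ, V1 (mk N hN ^ n * (mk N hN)⁻¹)) (U : W.Opens)
    (ρ : Γ(W, U)) (hρ : res N (le_top : U ≤ ⊤) v = ρ • res N le_top u)
    (S : Subring Γ(W, U)) (hS : ∀ a : Γ(W, ⊤), ores le_top a ∈ S) (hSρ : ρ ∈ S) (n : ℕ) :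
    ∀ t : Γ(CohB1.tensorPow N n, ⊤), ∃ c ∈ S, res _ (le_top : U ≤ ⊤) t = c • pow (res N (le_top : U ≤ ⊤) u) n := by
  induction n with
  | zero =>
    intro t
    obtain ⟨a, rfl⟩ := (ofFun (X := W) (U := ⊤)).surjective t
    refine ⟨ores le_top a, hS a, ?_⟩
    exact (ofFun_eq_smul (ores le_top a))
  | succ n ih =>
    intro t
    obtain ⟨L, hL, hLc⟩ := exists_mk (mk N hN ^ n * (mk N hN)⁻¹)
    have h1 := hV n
    rw [hLc, V1_mk] at h1
    have h2 : mk (CohB1.tensorMod L N) (isInvertible_tensorMod hL hN) =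
        mk (CohB1.tensorPow N n) (isInvertible_tensorPow hN n) := by
      rw [← mk_mul_mk hL hN, ← hLc, inv_mul_cancel_right, mk_tensorPow]
    obtain ⟨e⟩ := (mk_eq_iff _ _).1 h2
    obtain ⟨a, b, hab⟩ := Koszul.koszul e hL (isInvertible_tensorPow hN n) h1 u v hgen t
    obtain ⟨ca, hca, ha⟩ := ih a
    obtain ⟨cb, hcb, hb⟩ := ih b
    refine ⟨ca + cb * ρ, S.add_mem hca (S.mul_mem hcb hSρ), ?_⟩
    rw [hab, map_add]
    refine (congrArg₂ (· + ·) (res_tmul _ _ _) (res_tmul _ _ _)).trans ?_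
    rw [ha, hb, hρ, smul_tmul, smul_tmul, tmul_smul, smul_smul, add_smul]
    rfl

/-- Functions on the locus where `u` generates are polynomials in `v/u` with coefficients in the global functions. -/
theorem mem_of_genLocus [CompactSpace W] [QuasiSeparatedSpace W] (hN : PicF.IsInvertible N) (u v : Γ(N, ⊤))
    (hgen : CohB1.genLocus _ (homOf u) ⊔ CohB1.genLocus _ (homOf v) = ⊤)
    (hV : ∀ n : ℕ, V1 (mk N hN ^ n * (mk N hN)⁻¹))
    (ρ : Γ(W, CohB1.genLocus _ (homOf u)))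
    (hρ : res N (le_top : CohB1.genLocus _ (homOf u) ≤ ⊤) v = ρ • res N le_top u)
    (S : Subring Γ(W, CohB1.genLocus _ (homOf u))) (hS : ∀ a : Γ(W, ⊤), ores le_top a ∈ S) (hSρ : ρ ∈ S)
    (g : Γ(W, CohB1.genLocus _ (homOf u))) : g ∈ S := by
  obtain ⟨n, hn⟩ := Groth.Agent.Ega2.AmpleGlobGen.exists_extend_fun_top hN (homOf u) g
  obtain ⟨t, ht⟩ := hn n le_rfl
  obtain ⟨c, hc, hct⟩ := exists_coeff hN u v hgen hV _ ρ hρ S hS hSρ n t
  rw [ht] at hct
  have h1 : IsGen (res N (le_top : CohB1.genLocus _ (homOf u) ≤ ⊤) u) := by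
    have := isGen_sec_genLocus (homOf u)
    rwa [sec_homOf] at this
  rw [sec_homOf] at hct
  rw [(h1.pow n).ext hct]
  exact hc

/-- Version with an open equal to the locus. -/
theorem mem_of_eq_genLocus [CompactSpace W] [QuasiSeparatedSpace W] (hN : PicF.IsInvertible N) (u v : Γ(N, ⊤))
    (hgen : CohB1.genLocus _ (homOf u) ⊔ CohB1.genLocus _ (homOf v) = ⊤)
    (hV : ∀ n : ℕ, V1 (mk N hN ^ n * (mk N hN)⁻¹)) (G : W.Opens) (hG : G = CohB1.genLocus _ (homOf u))
    (ρ : Γ(W, G)) (hρ : res N (le_top : G ≤ ⊤) v = ρ • res N le_top u)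
    (S : Subring Γ(W, G)) (hS : ∀ a : Γ(W, ⊤), ores le_top a ∈ S) (hSρ : ρ ∈ S) (g : Γ(W, G)) : g ∈ S := by
  subst hG
  exact mem_of_genLocus hN u v hgen hV ρ hρ S hS hSρ g

end K373.GenRing
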