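import Groth.Agent.Resolve.K373.NormFin
import Groth.Agent.Resolve.K372.CplStalk
import Groth.Agent.CurvesC.AnUnram
import Groth.Agent.S0543
import Groth.Agent.S0566
import Groth.Agent.S0568

/-!
# Finiteness of normalization and completions (helper373)
-/

set_option autoImplicit false
universe u

open CategoryTheory CategoryTheory.Limits AlgebraicGeometry IsLocalRing TensorProduct

namespace K373.NormCpl

open Groth.Agent

/-- Nagata property of `B ⊗ Â`. -/
theorem isNagata_tensor (A : Type u) [CommRing A] [IsLocalRing A] [IsNoetherianRing A]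
    (B : Type u) [CommRing B] [Algebra A B] [Algebra.FiniteType A B] :
    CAlg.IsNagata (B ⊗[A] (Curv2.cpl A)) := by
  have h1 : IsNoetherianRing (Curv2.cpl A) := Groth.Agent.S0543.result A (IsLocalRing.maximalIdeal A)
  have h2 : CAlg.IsNagata (Curv2.cpl A) := Groth.Agent.S0568.result _
  let _ : Algebra (Curv2.cpl A) (B ⊗[A] (Curv2.cpl A)) := Algebra.TensorProduct.rightAlgebra
  have h3 : Algebra.FiniteType (Curv2.cpl A) (B ⊗[A] (Curv2.cpl A)) :=
    Algebra.FiniteType.equiv inferInstance
      (Algebra.TensorProduct.commRight A (Curv2.cpl A) B)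
  exact Groth.Agent.S0566.result _ h2 _

/-- A domain of finite type over `A` whose base change to the completion is reduced is N-1. -/
theorem isN1_of_isReduced (A : Type u) [CommRing A] [IsLocalRing A] [IsNoetherianRing A]
    (B : Type u) [CommRing B] [IsDomain B] [Algebra A B] [Algebra.FiniteType A B]
    (hred : IsReduced (B ⊗[A] (Curv2.cpl A))) : CAlg.IsN1 B := by
  have hff : Module.FaithfullyFlat A (Curv2.cpl A) := by
    have : IsNoetherianRing (Curv2.cpl A) := Groth.Agent.S0543.result A (IsLocalRing.maximalIdeal A)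
    exact Module.FaithfullyFlat.of_flat_of_isLocalHom
  have hNag := isNagata_tensor A B
  let D := B ⊗[A] (Curv2.cpl A)
  let K := FractionRing B
  have hffD : Module.FaithfullyFlat B D := inferInstance
  have hloc : IsLocalization (Algebra.algebraMapSubmonoid D (nonZeroDivisors B)) (D ⊗[B] K) := inferInstance
  have hle : Algebra.algebraMapSubmonoid D (nonZeroDivisors B) ≤ nonZeroDivisors D := by
    rintro _ ⟨b, hb, rfl⟩
    have h1 : IsSMulRegular B b := (isRegular_iff_mem_nonZeroDivisors.mpr hb).1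
    have h2 : IsSMulRegular D (algebraMap B D b) := IsSMulRegular.of_flat h1
    rw [← isRegular_iff_mem_nonZeroDivisors, ← isLeftRegular_iff_isRegular]
    exact h2
  have hfin : Module.Finite D (integralClosure D (D ⊗[B] K)) :=
    CurvesC.AnUnram.finite_integralClosure_of_isNagata D hNag _ hle _
  have hN : IsNoetherianRing D := hNag.1
  have hfin2 : Module.Finite D (D ⊗[B] integralClosure B K) :=
    Module.Finite.of_injective (TensorProduct.toIntegralClosure B D K).toLinearMap
      TensorProduct.toIntegralClosure_injective_of_flat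
  exact Module.Finite.of_finite_tensorProduct_of_faithfullyFlat D

/-- Algebras of finite type over `A` killed by the maximal ideal are N-1. -/
theorem isN1_of_map_eq_zero (A : Type u) [CommRing A] [IsLocalRing A] [IsNoetherianRing A]
    (B : Type u) [CommRing B] [IsDomain B] [Algebra A B] [Algebra.FiniteType A B]
    (h : ∀ a ∈ maximalIdeal A, algebraMap A B a = 0) : CAlg.IsN1 B := by
  have hN1 : CAlg.IsNagata (ResidueField A) := by
    have : IsAdicComplete (IsLocalRing.maximalIdeal (ResidueField A)) (ResidueField A) := by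
      rw [show IsLocalRing.maximalIdeal (ResidueField A) = ⊥ from IsLocalRing.maximalIdeal_eq_bot]
      infer_instance
    exact Groth.Agent.S0568.result _
  let φ : ResidueField A →+* B := Ideal.Quotient.lift (maximalIdeal A) (algebraMap A B) h
  let _ : Algebra (ResidueField A) B := φ.toAlgebra
  have htow : IsScalarTower A (ResidueField A) B := IsScalarTower.of_algebraMap_eq fun a => rfl
  have hft : Algebra.FiniteType (ResidueField A) B := Algebra.FiniteType.of_restrictScalars_finiteType A _ _
  have hB : CAlg.IsNagata B := Groth.Agent.S0566.result _ hN1 B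
  exact CurvesC.AnUnram.finite_integralClosure_of_isNagata B hB _ le_rfl _

section

variable (A : Type u) [CommRing A] [IsLocalRing A] [IsNoetherianRing A] {X : Scheme.{u}} [IsIntegral X]
    (f : X ⟶ Spec (CommRingCat.of A))

/-- Reducedness of the base change of an affine open. -/
theorem isReduced_sections
    (hY : ∀ y : ↥(Curv2.bcCpl A f), (Curv2.bcCplSnd A f).base y ≠ IsLocalRing.closedPoint (Curv2.cpl A) →
      IsDomain ((Curv2.bcCpl A f).presheaf.stalk y)) (U : X.Opens) (hU : IsAffineOpen U) [Nonempty U]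
    (a : A) (ha : a ∈ maximalIdeal A)
    (ha0 : ((Scheme.ΓSpecIso (CommRingCat.of A)).inv ≫ f.appLE ⊤ U le_top).hom a ≠ 0) :
    IsReduced Γ(Curv2.bcCpl A f, Curv2.bcCplFst A f ⁻¹ᵁ U) := by
  have hff : Module.Flat A (Curv2.cpl A) := inferInstance
  have haffh : IsAffineHom (Curv2.bcCplFst A f) := K372.CplStalk.isAffineHom_bcCplFst A f
  have hW : IsAffineOpen (Curv2.bcCplFst A f ⁻¹ᵁ U) := hU.preimage _
  have H := K372.CplStalk.isPushout_sections A f U hU
  have hflat : ((Curv2.bcCplFst A f).appLE U (Curv2.bcCplFst A f ⁻¹ᵁ U) le_rfl).hom.Flat := by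
    have h1 : Flat (Spec.map (CommRingCat.ofHom (algebraMap A (Curv2.cpl A)))) :=
      Flat.SpecMap_iff.2 (RingHom.flat_algebraMap_iff.2 hff)
    have h2 : Flat (Curv2.bcCplFst A f) := MorphismProperty.pullback_fst _ _ h1
    exact (Curv2.bcCplFst A f).flat_appLE hU hW le_rfl
  generalize hα : (Scheme.ΓSpecIso (CommRingCat.of A)).inv ≫ f.appLE ⊤ U le_top = α at ha0 H
  set g := (Curv2.bcCplFst A f).appLE U (Curv2.bcCplFst A f ⁻¹ᵁ U) le_rfl with hg
  have hgt : g (α a) = (Curv2.bcCplSnd A f).appLE ⊤ (Curv2.bcCplFst A f ⁻¹ᵁ U) le_top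
      ((Scheme.ΓSpecIso (CommRingCat.of (Curv2.cpl A))).inv (algebraMap A (Curv2.cpl A) a)) := by
    exact congr($(H.w) a)
  have hreg : ∀ s : Γ(Curv2.bcCpl A f, Curv2.bcCplFst A f ⁻¹ᵁ U), g (α a) * s = 0 → s = 0 := by
    let _ := g.hom.toAlgebra
    have hfl : Module.Flat Γ(X, U) Γ(Curv2.bcCpl A f, Curv2.bcCplFst A f ⁻¹ᵁ U) := hflat
    have h1 : IsSMulRegular Γ(X, U) (α a) := (isRegular_iff_mem_nonZeroDivisors.mpr (mem_nonZeroDivisors_of_ne_zero ha0)).1
    have h2 : IsSMulRegular Γ(Curv2.bcCpl A f, Curv2.bcCplFst A f ⁻¹ᵁ U)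
        (algebraMap Γ(X, U) Γ(Curv2.bcCpl A f, Curv2.bcCplFst A f ⁻¹ᵁ U) (α a)) := IsSMulRegular.of_flat h1
    intro s hs
    apply h2
    simp only [smul_zero]
    exact hs
  constructor
  intro s hs
  have hs0 : (Curv2.bcCpl A f).presheaf.map (homOfLE ((Curv2.bcCpl A f).basicOpen_le (g (α a)))).op s = 0 := by
    apply TopCat.Presheaf.section_ext (Curv2.bcCpl A f).sheaf
    intro y hy
    refine Eq.trans ?_ (map_zero ((Curv2.bcCpl A f).presheaf.germ _ y hy).hom).symm
    have hyW : y ∈ Curv2.bcCplFst A f ⁻¹ᵁ U := (Curv2.bcCpl A f).basicOpen_le _ hy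
    have hdom : IsDomain ((Curv2.bcCpl A f).presheaf.stalk y) := by
      apply hY
      intro hcl
      rw [hgt] at hy
      have h0 : y ∈ (Curv2.bcCplFst A f ⁻¹ᵁ U) ⊓ (Curv2.bcCplSnd A f) ⁻¹ᵁ ((Spec (CommRingCat.of (Curv2.cpl A))).basicOpen
          ((Scheme.ΓSpecIso (CommRingCat.of (Curv2.cpl A))).inv (algebraMap A (Curv2.cpl A) a))) := by
        rw [← Scheme.basicOpen_appLE (e := le_top)]
        exact hy
      have h2 : (Curv2.bcCplSnd A f) y ∈ PrimeSpectrum.basicOpen ((Scheme.ΓSpecIso (CommRingCat.of (Curv2.cpl A))).hom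
        ((Scheme.ΓSpecIso (CommRingCat.of (Curv2.cpl A))).inv (algebraMap A (Curv2.cpl A) a))) := by
        rw [← basicOpen_eq_of_affine']
        exact h0.2
      have h3 : (Scheme.ΓSpecIso (CommRingCat.of (Curv2.cpl A))).hom
          ((Scheme.ΓSpecIso (CommRingCat.of (Curv2.cpl A))).inv (algebraMap A (Curv2.cpl A) a)) =
            algebraMap A (Curv2.cpl A) a := by
        simp
      rw [h3] at h2
      have hcl' : (Curv2.bcCplSnd A f) y = closedPoint (Curv2.cpl A) := hcl
      rw [hcl'] at h2
      apply h2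
      have hloc : IsLocalHom (algebraMap A (Curv2.cpl A)) := inferInstance
      exact map_nonunit (algebraMap A (Curv2.cpl A)) a ha
    have h1 := (Curv2.bcCpl A f).presheaf.germ_res_apply (homOfLE ((Curv2.bcCpl A f).basicOpen_le (g (α a)))) y hy s
    refine h1.trans ?_
    exact (hs.map ((Curv2.bcCpl A f).presheaf.germ _ y hyW).hom).eq_zero
  obtain ⟨n, hn⟩ := exists_pow_mul_eq_zero_of_res_basicOpen_eq_zero_of_isAffineOpen _ hW s (g (α a)) hs0
  induction n with
  | zero => simpa using hn
  | succ n ih => exact ih (hreg _ (by rw [← mul_assoc, ← pow_succ']; exact hn))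

/-- N-1 property of the sections over affine opens. -/
theorem isN1_sections [LocallyOfFiniteType f]
    (hY : ∀ y : ↥(Curv2.bcCpl A f), (Curv2.bcCplSnd A f).base y ≠ IsLocalRing.closedPoint (Curv2.cpl A) →
      IsDomain ((Curv2.bcCpl A f).presheaf.stalk y)) (U : X.Opens) (hU : IsAffineOpen U) [Nonempty U] :
    CAlg.IsN1 Γ(X, U) := by
  have hAff : IsAffineOpen (⊤ : (Spec (CommRingCat.of A)).Opens) := isAffineOpen_top _
  let ι : CommRingCat.of A ⟶ Γ(Spec (CommRingCat.of A), ⊤) := (Scheme.ΓSpecIso (CommRingCat.of A)).inv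
  let α : CommRingCat.of A ⟶ Γ(X, U) := ι ≫ f.appLE ⊤ U le_top
  let _ : Algebra A Γ(X, U) := α.hom.toAlgebra
  have hιb : Function.Bijective ι.hom := ConcreteCategory.bijective_of_isIso ι
  have hFT : Algebra.FiniteType A Γ(X, U) := by
    have h1 := f.finiteType_appLE hAff hU le_top
    exact RingHom.FiniteType.comp h1 (RingHom.FiniteType.of_surjective _ hιb.2)
  by_cases h : ∀ a ∈ maximalIdeal A, algebraMap A Γ(X, U) a = 0
  · exact isN1_of_map_eq_zero A Γ(X, U) h
  · push Not at h
    obtain ⟨a, ha, ha0⟩ := h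
    have hred := isReduced_sections A f hY U hU a ha ha0
    have H := K372.CplStalk.isPushout_sections A f U hU
    have H' : IsPushout α (CommRingCat.ofHom (algebraMap A (Curv2.cpl A))) _ _ := H
    have H2 := CommRingCat.isPushout_tensorProduct A Γ(X, U) (Curv2.cpl A)
    apply isN1_of_isReduced A Γ(X, U)
    let e := (H2.isoPushout ≪≫ H'.isoPushout.symm).commRingCatIsoToRingEquiv
    exact isReduced_of_injective e.toRingHom e.injective

end

end K373.NormCpl
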