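import Groth.Agent.Dix.CastPic
import Groth.Agent.Resolve.K373.Koszul
import Groth.Agent.CohqA.ProjDim
import Groth.Agent.CycA.ProdDim

/-!
# Sections of powers of `O(1)` on the projective line (helper373)
-/

set_option autoImplicit false
set_option backward.isDefEq.respectTransparency false
universe u

open CategoryTheory CategoryTheory.Limits AlgebraicGeometry Opposite TopologicalSpace

namespace K373.P1Sec

open Groth.Agent.Fdesc.LocGen Groth.Agent.Grpsch.PicGrp Groth.Agent.Dix Groth.Agent.Dix.CastPic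

variable {k : Type u} [Field k] {N : (CohB1.ProjSpace 1 k).Modules} (φ : N ≅ Twist.twistProjSpace 1 k 1)

include φ in
theorem isInvertible : PicF.IsInvertible N := by
  have h := Groth.Agent.Ega3B.ProjTwist.isInvertible_twistProjSpace 1 k 1
  rw [isInvertible_iff] at h ⊢
  intro x
  obtain ⟨U, e, hx, he⟩ := h x
  exact ⟨U, φ.inv.app U e, hx, he.app φ.inv⟩

include φ in
theorem mk_tensorPow_eq (n : ℕ) : mk (CohB1.tensorPow N n) (isInvertible_tensorPow (isInvertible φ) n) = o k n := by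
  have h1 : mk N (isInvertible φ) = o k 1 := mk_congr φ
  rw [mk_tensorPow (isInvertible φ), h1, o_pow, mul_one]

include φ in
theorem subsingleton_H1 (n : ℕ) : Subsingleton (Coh.HH (CohB1.ProjSpace 1 k) (CohB1.tensorPow N n) 1) := by
  rw [← V1_mk (isInvertible_tensorPow (isInvertible φ) n), mk_tensorPow_eq φ]
  exact V1_o k n (by omega)

/-- The coordinates as sections of `N`. -/
noncomputable def T (i : Fin 2) : Γ(N, ⊤) := φ.inv.app ⊤ (Cast2.T k i)

theorem genLocus_T (i : Fin 2) : CohB1.genLocus _ (homOf (T φ i)) = CohB1.genLocus _ (homOf (Cast2.T k i)) := by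
  apply le_antisymm
  · rw [le_genLocus_iff, sec_homOf]
    have h := isGen_sec_genLocus (homOf (T φ i))
    rw [sec_homOf] at h
    have h2 := h.app φ.hom
    rw [app_res] at h2
    have h3 : φ.hom.app ⊤ (T φ i) = Cast2.T k i := by
      have h4 : φ.inv ≫ φ.hom = 𝟙 _ := φ.inv_hom_id
      exact congr(($h4).app ⊤ (Cast2.T k i))
    rwa [h3] at h2
  · rw [le_genLocus_iff, sec_homOf]
    have h := isGen_sec_genLocus (homOf (Cast2.T k i))
    rw [sec_homOf] at h
    have h2 := h.app φ.inv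
    rw [app_res] at h2
    exact h2

theorem genLocus_sup : CohB1.genLocus _ (homOf (T φ 0)) ⊔ CohB1.genLocus _ (homOf (T φ 1)) = ⊤ := by
  rw [genLocus_T, genLocus_T, eq_top_iff]
  intro x _
  obtain ⟨i, hi⟩ := Cast2.exists_mem_genLocus_T k x
  fin_cases i
  · exact Or.inl hi
  · exact Or.inr hi

theorem genLocus_ne_top (i : Fin 2) : CohB1.genLocus _ (homOf (T φ i)) ≠ ⊤ := by
  rw [genLocus_T]; exact Cast2.genLocus_T_ne_top k i

theorem genLocus_ne_bot (i : Fin 2) : CohB1.genLocus _ (homOf (T φ i)) ≠ ⊥ := by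
  intro h
  have h1 := genLocus_sup φ
  fin_cases i
  · change CohB1.genLocus _ (homOf (T φ 0)) = ⊥ at h
    rw [h, bot_sup_eq] at h1
    exact genLocus_ne_top φ 1 h1
  · change CohB1.genLocus _ (homOf (T φ 1)) = ⊥ at h
    rw [h, sup_bot_eq] at h1
    exact genLocus_ne_top φ 0 h1

theorem isAffineOpen_genLocus (i : Fin 2) : IsAffineOpen (CohB1.genLocus _ (homOf (T φ i))) := by
  rw [genLocus_T, Cast2.homOf_T, Groth.Agent.Ega2.VeryAmpleAmple.genLocus_coordSec]
  exact Proj.isAffineOpen_basicOpen _ _ (MvPolynomial.isHomogeneous_X k i) one_pos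

include φ in
/-- Every section of `O(n + 1)` is a combination of the coordinates. -/
theorem exists_comb (n : ℕ) (g : Γ(CohB1.tensorMod (CohB1.tensorPow N n) N, ⊤)) :
    ∃ a b : Γ(CohB1.tensorPow N n, ⊤), g = tmul a (T φ 0) + tmul b (T φ 1) := by
  have hN := isInvertible φ
  have h1 : mk (CohB1.tensorMod (Twist.twistProjSpace 1 k (n - 1 : ℤ)) N)
      (isInvertible_tensorMod (Groth.Agent.Ega3B.ProjTwist.isInvertible_twistProjSpace 1 k _) hN) =
      mk (CohB1.tensorPow N n) (isInvertible_tensorPow hN n) := by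
    have h3 : mk N (isInvertible φ) = o k 1 := mk_congr φ
    rw [mk_tensorPow_eq φ, ← mk_mul_mk _ hN, h3]
    change o k (n - 1 : ℤ) * o k 1 = o k n
    rw [← o_add]
    congr 1
    ring
  obtain ⟨e⟩ := (mk_eq_iff _ _).1 h1
  refine Koszul.koszul e (Groth.Agent.Ega3B.ProjTwist.isInvertible_twistProjSpace 1 k _) (isInvertible_tensorPow hN n)
    ?_ (T φ 0) (T φ 1) (genLocus_sup φ) g
  have h2 := V1_o k (n - 1 : ℤ) (by omega)
  rw [o, V1_mk] at h2
  exact h2

/-- The coordinates are nonzerodivisors. -/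
theorem eq_zero_of_tmul {F : (CohB1.ProjSpace 1 k).Modules} (hF : PicF.IsInvertible F) (i : Fin 2) (σ : Γ(F, ⊤))
    (h : tmul σ (T φ i) = 0) : σ = 0 := by
  set U := CohB1.genLocus _ (homOf (T φ i)) with hU
  have hg : IsGen (res N (le_top : U ≤ ⊤) (T φ i)) := by
    have := isGen_sec_genLocus (homOf (T φ i))
    rwa [sec_homOf] at this
  have h1 : res F (le_top : U ≤ ⊤) σ = 0 := by
    apply Koszul.tmul_gen_injective hF hg
    have h2 := congr(res _ (le_top : U ≤ ⊤) $h)
    rw [res_tmul, map_zero] at h2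
    rw [h2]
    have h3 : tmul ((0 : Γ(CohB1.ProjSpace 1 k, U)) • (0 : Γ(F, U))) (res N (le_top : U ≤ ⊤) (T φ i)) = 0 := by
      rw [smul_tmul, zero_smul]
    rw [smul_zero] at h3
    exact h3.symm
  rw [isInvertible_iff] at hF
  choose V e hx he using hF
  refine res_ext F V (fun _ => le_top) (fun x _ => Opens.mem_iSup.2 ⟨x, hx x⟩) fun x => ?_
  obtain ⟨a, ha⟩ := (he x).exists_eq (res F le_top σ)
  have hne : Nonempty (U ⊓ V x : (CohB1.ProjSpace 1 k).Opens) := by
    have h4 : (U : Set (CohB1.ProjSpace 1 k)).Nonempty := by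
      by_contra h5
      rw [Set.not_nonempty_iff_eq_empty] at h5
      exact genLocus_ne_bot φ i (TopologicalSpace.Opens.ext h5)
    have h6 := nonempty_preirreducible_inter U.2 (V x).2 h4 ⟨x, hx x⟩
    exact h6.to_subtype
  have h7 : a = 0 := by
    apply map_injective_of_isIntegral (CohB1.ProjSpace 1 k) (homOfLE (inf_le_right : U ⊓ V x ≤ V x))
    change ores (inf_le_right : U ⊓ V x ≤ V x) a = ores (inf_le_right : U ⊓ V x ≤ V x) 0
    rw [map_zero]
    apply ((he x).res (inf_le_right : U ⊓ V x ≤ V x)).ext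
    rw [zero_smul, ← res_smul, ← ha, res_res]
    have h8 := congr(res F (inf_le_left : U ⊓ V x ≤ U) $h1)
    rw [res_res, map_zero] at h8
    exact h8
  rw [ha, h7, zero_smul, map_zero]

/-- Powers of one coordinate are not divisible by the other. -/
theorem pow_ne (n : ℕ) (α : Γ(CohB1.tensorPow N n, ⊤)) :
    (pow (T φ 1) (n + 1) : Γ(CohB1.tensorMod (CohB1.tensorPow N n) N, ⊤)) ≠ tmul α (T φ 0) := by
  intro h
  have hN := isInvertible φ
  have h1 := genLocus_powHom hN (homOf (T φ 1)) n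
  have h2 := genLocus_tmulHom (isInvertible_tensorPow hN n) hN (homOf α) (homOf (T φ 0))
  have h3 : (powHom (homOf (T φ 1)) (n + 1) : Coh.structureModule _ ⟶ CohB1.tensorMod (CohB1.tensorPow N n) N) =
      tmulHom (homOf α) (homOf (T φ 0)) := by
    apply hom_ext_sec
    rw [sec_tmulHom, sec_homOf, sec_homOf, res_refl, res_refl, ← h]
    refine (sec_powHom _ _ _).trans ?_
    rw [sec_homOf, res_refl]
  have h4 : CohB1.genLocus _ (homOf (T φ 1)) ≤ CohB1.genLocus _ (homOf (T φ 0)) := by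
    rw [← h1]
    refine le_trans (le_of_eq ?_) (inf_le_right : CohB1.genLocus _ (homOf α) ⊓ CohB1.genLocus _ (homOf (T φ 0)) ≤ _)
    rw [← h2, ← h3]
    rfl
  apply genLocus_ne_top φ 0
  rw [← genLocus_sup φ, sup_eq_left.2 h4]

end K373.P1Sec
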