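import Groth.Agent.Resolve.K373.PicLoc
import Groth.Agent.Resolve.K373.PtIdeal
import Groth.Agent.Ega2.AmpleTransfer
import Groth.Agent.Flat2C.BlowProper
import Groth.Agent.Resolve.K373.ContrBasic
import Mathlib.AlgebraicGeometry.Stalk

/-!
# The Picard group of the blow-up of a regular local ring of dimension two (helper373)
-/

set_option autoImplicit false
set_option backward.isDefEq.respectTransparency false
universe u

open CategoryTheory CategoryTheory.Limits AlgebraicGeometry TopologicalSpace Opposite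

namespace K373.PicLocal

open Groth.Agent.Fdesc.LocGen Groth.Agent.Grpsch.PicGrp Groth.Agent.Dix.CastPic Groth.Agent.Dix.CastLift
open Groth.Agent.Dix PtIdeal PicLoc IsLocalRing

theorem pull_injective_of_isIso {X Y : Scheme.{u}} (f : X ⟶ Y) [IsIso f] : Function.Injective (pull f) := by
  intro a b h
  have h1 := congrArg (pull (inv f)) h
  rwa [← pull_comp, ← pull_comp, IsIso.inv_hom_id, pull_id, pull_id] at h1

/-- The exceptional ideal of a blow-up of an affine scheme is ample. -/
theorem isAmple_exceptional {X Y : Scheme.{u}} [IsAffine Y] {J : Y.IdealSheafData} {b : X ⟶ Y}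
    (hb : BlowUp.IsBlowUp b J) [QuasiCompact b] : CohB1.IsAmple (ClSub.idealMod (J.comap b)) := by
  have h1 := Groth.Agent.Ega1.AmpFamBlow.isAmple_restrict hb ⟨⊤, isAffineOpen_top Y⟩ ⊤ rfl
  have h2 := (Groth.Agent.Ega2.Ample.isAmple_restrict_ι_iff _).1 h1
  exact Groth.Agent.Ega2.Ample.isAmple_iff_ampleOn_top.2 h2

theorem idc_one {k : Type u} [Field k] {X : Scheme.{u}} (ι : CohB1.ProjSpace 1 k ⟶ X) [IsClosedImmersion ι]
    (heff : BlowUp.IsEffCartierIdeal ι.ker) (φ : Nonempty ((Scheme.Modules.pullback ι).obj (ClSub.idealMod ι.ker) ≅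
        Twist.twistProjSpace 1 k 1)) : pull ι (idc ι heff) = o k 1 := by
  obtain ⟨φ⟩ := φ
  exact mk_congr φ

/-- The Picard group of the blow-up of the spectrum of a local ring in a regular closed point of dimension two. -/
theorem eq_zpow {A : Type u} [CommRing A] [IsLocalRing A] [IsNoetherianRing A] {X : Scheme.{u}}
    (b : X ⟶ Spec (CommRingCat.of A)) [IsProper b] {k : Type u} [Field k] (ι : CohB1.ProjSpace 1 k ⟶ X)
    [IsClosedImmersion ι] (heff : BlowUp.IsEffCartierIdeal ι.ker) (hI : pull ι (idc ι heff) = o k 1)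
    (hA : CohB1.IsAmple (ClSub.idealMod ι.ker)) (hE : ∀ w, b w = closedPoint A → w ∈ Set.range ι)
    (c : Pic X) (m : ℤ) (hc : pull ι c = o k m) : c = idc ι heff ^ m := by
  have h1 : pull ι (c * (idc ι heff ^ m)⁻¹) = 1 := by
    rw [map_mul, map_inv, map_zpow, hI, hc, mul_inv_eq_one]
    cases m with
    | ofNat n => rw [Int.ofNat_eq_natCast, zpow_natCast, o_pow, mul_one]
    | negSucc n =>
      rw [zpow_negSucc, o_pow, ← o_neg]
      congr 1
      push_cast
      omega
  have hnoe : IsNoetherianRing (CommRingCat.of A) := inferInstanceAs (IsNoetherianRing A)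
  obtain ⟨V, hV, hyV, hpull⟩ := exists_pull_eq_one (Y := Spec (CommRingCat.of A)) ι heff b hI hA 1 1 le_rfl rfl
    (closedPoint A) hE _ h1
  have hVtop : V = ⊤ := by
    rw [eq_top_iff]
    rintro z -
    exact (IsLocalRing.specializes_closedPoint z).mem_open V.2 hyV
  subst hVtop
  have hiso : IsIso (b ⁻¹ᵁ (⊤ : (Spec (CommRingCat.of A)).Opens)).ι := inferInstanceAs (IsIso X.topIso.hom)
  have h2 := pull_injective_of_isIso (b ⁻¹ᵁ ⊤ : X.Opens).ι (hpull.trans (map_one _).symm)
  exact mul_inv_eq_one.1 h2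

theorem picard (A : Type u) [CommRing A] [IsRegularLocalRing A] (hA : ringKrullDim A = 2)
    (X : Scheme.{u}) (b : X ⟶ Spec (CommRingCat.of A)) (hb : BlowUp.IsBlowUp b (Curv2.idealSheaf A (IsLocalRing.maximalIdeal A)))
    (M : X.Modules) (hM : ClSub.IsInverseOf M (ClSub.idealMod (BlowUp.exceptional b (Curv2.idealSheaf A (IsLocalRing.maximalIdeal A))))) :
    (∀ L : X.Modules, PicF.IsInvertible L → ∃ n : ℕ,
      Nonempty (L ≅ CohB1.tensorPow (ClSub.idealMod (BlowUp.exceptional b (Curv2.idealSheaf A (IsLocalRing.maximalIdeal A)))) n) ∨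
        Nonempty (L ≅ CohB1.tensorPow M n)) ∧
    ∀ n : ℕ, 1 ≤ n →
      IsEmpty (CohB1.tensorPow (ClSub.idealMod (BlowUp.exceptional b (Curv2.idealSheaf A (IsLocalRing.maximalIdeal A)))) n ≅
        Coh.structureModule X) := by
  have hy := K373.PtIdeal.isClosed_closedPoint A
  have hpt := K373.PtIdeal.pt_eq_idealSheaf A hy
  have hreg := K373.PtIdeal.isRegularLocalRing_stalk_closedPoint A
  have hdim := (K373.PtIdeal.ringKrullDim_stalk_closedPoint A).trans hA
  have hb' := hb
  rw [← hpt] at hb'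
  have hnoe : IsNoetherianRing (CommRingCat.of A) := inferInstanceAs (IsNoetherianRing A)
  have hprop : IsProper b := K373.ContrBasic.isProper_blowUp hb
  obtain ⟨ι, hι, hker, hφ⟩ := Groth.Agent.Dix.ExcCurve.exists_curve (V := Spec (CommRingCat.of A)) b
    (IsLocalRing.closedPoint A) hy hdim hb'
  rw [hpt] at hker
  let _ : Field ((Spec (CommRingCat.of A)).presheaf.stalk (IsLocalRing.closedPoint A) ⧸
    IsLocalRing.maximalIdeal ((Spec (CommRingCat.of A)).presheaf.stalk (IsLocalRing.closedPoint A))) :=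
    Ideal.Quotient.field _
  have heff : BlowUp.IsEffCartierIdeal ι.ker := hker ▸ hb.1
  have hI := K373.PicLocal.idc_one ι heff hφ
  have hamp : CohB1.IsAmple (ClSub.idealMod ι.ker) := by
    rw [hker]
    exact K373.PicLocal.isAmple_exceptional hb
  have hE : ∀ w, b w = IsLocalRing.closedPoint A → w ∈ Set.range ι := by
    intro w hw
    have h1 : w ∈ ι.ker.support := by
      rw [hker, Scheme.IdealSheafData.support_comap]
      change b w ∈ (Curv2.idealSheaf A (IsLocalRing.maximalIdeal A)).support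
      rw [Groth.Agent.Models.RMBlow.mem_support_idealSheaf, hw]
      exact le_rfl
    rw [← SetLike.mem_coe, Scheme.Hom.support_ker, ι.isClosedEmbedding.isClosed_range.closure_eq] at h1
    exact h1
  have hexc : BlowUp.exceptional b (Curv2.idealSheaf A (IsLocalRing.maximalIdeal A)) = ι.ker := hker.symm
  rw [hexc] at hM ⊢
  have hinv := (Groth.Agent.Dix.IdealModCartier.isInvertible_idealMod_iff ι.ker).2 heff
  have hidc : mk (ClSub.idealMod ι.ker) hinv = idc ι heff := rfl
  have hMinv : PicF.IsInvertible M := (Groth.Agent.Dix.IdealModCartier.isInvertible_of_isInverseOf hM).1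
  have hMc : mk M hMinv = (idc ι heff)⁻¹ := by
    obtain ⟨e⟩ := hM
    rw [eq_inv_iff_mul_eq_one, ← hidc, mk_mul_mk, mk_eq_one_iff]
    exact ⟨e⟩
  refine ⟨fun L hL => ?_, fun n hn => ⟨fun e => ?_⟩⟩
  · obtain ⟨m, hm⟩ := exists_o _ (pull ι (mk L hL))
    have h1 := K373.PicLocal.eq_zpow b ι heff hI hamp hE (mk L hL) m hm
    cases m with
    | ofNat n =>
      refine ⟨n, Or.inl ?_⟩
      rw [Int.ofNat_eq_natCast, zpow_natCast, ← hidc, ← mk_tensorPow hinv, mk_eq_iff] at h1
      exact h1
    | negSucc n =>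
      refine ⟨n + 1, Or.inr ?_⟩
      rw [zpow_negSucc, ← inv_pow, ← hMc, ← mk_tensorPow hMinv, mk_eq_iff] at h1
      exact h1
  · have h1 : idc ι heff ^ n = 1 := by
      rw [← hidc, ← mk_tensorPow hinv, mk_eq_one_iff]
      exact ⟨e⟩
    have h2 := congrArg (pull ι) h1
    rw [map_pow, hI, o_pow, map_one, ← o_zero] at h2
    have h3 := K373.PtIdeal.o_injective _ h2
    omega

end K373.PicLocal
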